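import Cfsg.Agent.OmegaEight.Invariants
import Cfsg.Agent.AutPOmega.Semi
import Cfsg.Agent.AutPOmega.Center
import Cfsg.Agent.S0817

/-!
# The action of the automorphisms on the thirteen classes

The image is a group of twenty four permutations and the kernel consists of the inner automorphisms.
-/

set_option autoImplicit false

namespace CfsgLib.OmegaEight

open Matrix
open CfsgLib.OmegaSeven (Row rowVal)

theorem exists_move (β : MulAut L8) (i : Fin 13) : ∃ j, Assoc (β (repL i)) (repL j) := by
  refine exists_assoc_repL ?_ (fun e => repL_ne_one i (β.injective (e.trans (map_one β).symm)))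
  rw [← map_mul, ← map_mul, repL_cube, map_one]

/-- The permutation of the classes by an automorphism. -/
noncomputable def move (β : MulAut L8) (i : Fin 13) : Fin 13 := (exists_move β i).choose

theorem move_eq {β : MulAut L8} {i j : Fin 13} (h : Assoc (β (repL i)) (repL j)) : move β i = j :=
  eq_of_assoc_repL ((exists_move β i).choose_spec.symm.trans h)

theorem move_spec (β : MulAut L8) (i : Fin 13) : Assoc (β (repL i)) (repL (move β i)) :=
  (exists_move β i).choose_spec

theorem move_one (i : Fin 13) : move 1 i = i := move_eq (Assoc.refl _)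

theorem move_mul (β γ : MulAut L8) (i : Fin 13) : move (β * γ) i = move β (move γ i) :=
  move_eq (((move_spec γ i).map β.toMonoidHom).trans (move_spec β (move γ i)))

/-- The action on the classes. -/
noncomputable def moveHom : MulAut L8 →* Equiv.Perm (Fin 13) :=
  MonoidHom.mk' (fun β => ⟨move β, move β⁻¹,
    fun i => by rw [← move_mul, inv_mul_cancel, move_one],
    fun i => by rw [← move_mul, mul_inv_cancel, move_one]⟩)
    fun β γ => Equiv.ext fun i => move_mul β γ i

theorem moveHom_apply (β : MulAut L8) (i : Fin 13) : moveHom β i = move β i := rfl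

theorem moveHom_conj (x : L8) : moveHom (MulAut.conj x) = 1 := by
  refine Equiv.ext fun i => move_eq ?_
  exact Assoc.symm ⟨x, Or.inl rfl⟩

/-- The entries of the permutations. -/
def permFun (k : Fin 24) (i : Fin 13) : Fin 13 := Fin.ofNat 13 ((permC.getD k []).getD i 0)

theorem permFun_injective : ∀ k l : Fin 24, (∀ i, permFun k i = permFun l i) → k = l := by
  decide +kernel

/-- The product of two of the permutations. -/
def permProd (k l : Fin 24) : Fin 24 := Fin.ofNat 24 ((permMul.getD k []).getD l 0)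

theorem permFun_prod : ∀ (k l : Fin 24) (i : Fin 13),
    permFun (permProd k l) i = permFun k (permFun l i) := by
  decide +kernel

/-- The permutation of a word in the three generators. -/
def wordFun : List ℕ → Fin 13 → Fin 13
  | [], i => i
  | t :: w, i => permFun (Fin.ofNat 24 (t + 1)) (wordFun w i)

theorem permW_ok : (∀ (k : Fin 24) (i : Fin 13), wordFun (permW.getD k []) i = permFun k i) ∧
    ∀ k : Fin 24, ∀ t ∈ permW.getD k [], t < 3 := by
  decide +kernel

theorem assoc_of_cert {t : ℕ} (ht : t < 3) (i : Fin 13) (hM : El (movedC t i)) :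
    Assoc (elem (movedC t i)) (rep (permFun (Fin.ofNat 24 (t + 1)) i)) := by
  have h := List.all_eq_true.1 (List.all_eq_true.1 permCert_ok t (List.mem_range.2 ht)) (i : ℕ)
    (List.mem_range.2 i.2)
  simp only [Bool.and_eq_true, Bool.or_eq_true, beq_iff_eq, decide_eq_true_eq] at h
  obtain ⟨⟨⟨hs, hr⟩, hperm⟩, he⟩ := h
  obtain ⟨hR, -, hR3⟩ := el_rep ⟨_, hr⟩
  have e := congrArg elem he
  rw [elem_mul (El.eval el_gens24 _) hM, elem_mul (hR.pow _) (El.eval el_gens24 _), elem_powC hR] at e
  have hj : permFun (Fin.ofNat 24 (t + 1)) i = ⟨_, hr⟩ := by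
    refine Fin.ext ?_
    simp only [permFun, Fin.ofNat, Nat.mod_eq_of_lt (by omega : t + 1 < 24), ← hperm]
    exact Nat.mod_eq_of_lt hr
  rw [hj]
  exact assoc_of_eq hs hR3 e

theorem exists_auto_tri : ∃ β : MulAut L8, ∀ i, move β i = permFun 1 i := by
  refine ⟨tri, fun i => move_eq ?_⟩
  obtain ⟨-, h1, -, h3, -⟩ := repW_spec i
  have e : elem (movedC 0 i) = repTri 1 i := by
    rw [repTri, h1]; rfl
  have hcert := assoc_of_cert (t := 0) (by norm_num) i (El.of_checkGen h3).1
  rw [e] at hcert
  have h0 := tri_repTri 0 i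
  rw [(repW_spec i).1] at h0
  show Assoc (tri (toL (rep i))) _
  rw [h0]
  exact hcert.map toL

/-- Conjugation by a coded similitude of square one. -/
theorem exists_auto_conj {D : List Row} (hD : normM D = true) (hDD : mulC D D = oneC) (c : (ZMod 3)ˣ)
    (hq : ∀ v, Q8 (toMat D *ᵥ v) = (c : ZMod 3) * Q8 v) {t : ℕ} (ht : t < 3)
    (hmv : ∀ i : Fin 13, movedC t i = mulC (mulC D (repC.getD i ([], [])).1) D) :
    ∃ β : MulAut L8, ∀ i, move β i = permFun (Fin.ofNat 24 (t + 1)) i := by
  have hsq : toMat D * toMat D = 1 := by rw [← toMat_mul _ hD, hDD, toMat_one]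
  let S : CfsgLib.AutPOmega.Semi Q8 :=
    ⟨⟨toMat D, toMat D, hsq, hsq⟩, RingEquiv.refl _, c, fun v => hq v⟩
  refine ⟨S.aut, fun i => move_eq ?_⟩
  obtain ⟨hR, -, -⟩ := el_rep i
  have hmat : toM (S.omegaMap (rep i)) = toMat (movedC t i) := by
    rw [hmv i, toMat_mul _ hD, toMat_mul _ hR.1, ← toM_elem hR]
    show toMat D * _ * toMat D = _
    rfl
  have hn : normM (movedC t i) = true := by
    rw [hmv i]; exact norm_mul (norm_mul hD hR.1) hD
  have hM : El (movedC t i) := ⟨hn, _, hmat⟩
  have e : elem (movedC t i) = S.omegaMap (rep i) :=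
    toM_injective (by rw [toM_elem hM, hmat])
  have hcert := assoc_of_cert ht i hM
  rw [e] at hcert
  exact hcert.map toL

theorem quad_refl (v : I8 → ZMod 3) : Q8 (toMat reflC *ᵥ v) = ((1 : (ZMod 3)ˣ) : ZMod 3) * Q8 v := by
  have h : ∀ a b : I8, toMat reflC a b = if b = (if a = Sum.inl 3 then Sum.inr 3
      else if a = Sum.inr 3 then Sum.inl 3 else a) then 1 else 0 := by
    simp only [toMat, Matrix.of_apply]
    decide +kernel
  simp only [CfsgLib.StdForms.plusQ_apply, Cfsg.quadFormPlus, Fin.sum_univ_four, Matrix.mulVec,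
    dotProduct, h, ite_mul, one_mul, zero_mul, Finset.sum_ite_eq', Finset.mem_univ, if_true,
    Units.val_one]
  simp
  ring

theorem quad_dil (v : I8 → ZMod 3) : Q8 (toMat dilC *ᵥ v) = ((-1 : (ZMod 3)ˣ) : ZMod 3) * Q8 v := by
  have h : ∀ a b : I8, toMat dilC a b = if b = a then (if a.isLeft then 1 else -1) else 0 := by
    simp only [toMat, Matrix.of_apply]
    decide +kernel
  simp only [CfsgLib.StdForms.plusQ_apply, Cfsg.quadFormPlus, Fin.sum_univ_four, Matrix.mulVec,
    dotProduct, h, ite_mul, zero_mul, Finset.sum_ite_eq', Finset.mem_univ, if_true, Units.val_neg,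
    Units.val_one]
  simp
  ring

theorem exists_auto_gen {t : ℕ} (ht : t < 3) :
    ∃ β : MulAut L8, ∀ i, move β i = permFun (Fin.ofNat 24 (t + 1)) i := by
  obtain ⟨h1, h2, h3, h4⟩ := moved_ok
  interval_cases t
  · exact exists_auto_tri
  · exact exists_auto_conj h1 h3 1 quad_refl (by norm_num) fun i => rfl
  · exact exists_auto_conj h2 h4 (-1) quad_dil (by norm_num) fun i => rfl

theorem exists_perm (k : Fin 24) : ∃ β : MulAut L8, ∀ i, move β i = permFun k i := by
  have key : ∀ w : List ℕ, (∀ t ∈ w, t < 3) → ∃ β : MulAut L8, ∀ i, move β i = wordFun w i := by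
    intro w
    induction w with
    | nil => exact fun _ => ⟨1, move_one⟩
    | cons t w ih =>
      intro h
      obtain ⟨γ, hγ⟩ := ih fun s hs => h s (List.mem_cons_of_mem _ hs)
      obtain ⟨β, hβ⟩ := exists_auto_gen (h t List.mem_cons_self)
      exact ⟨β * γ, fun i => by rw [move_mul, hγ, hβ]; rfl⟩
  obtain ⟨β, hβ⟩ := key _ (permW_ok.2 k)
  exact ⟨β, fun i => by rw [hβ, permW_ok.1]⟩

theorem center_L8 : Subgroup.center L8 = ⊥ :=
  (CfsgLib.AutPOmega.ctx_plusQ (F := ZMod 3) le_rfl).center_eq_bot

theorem card_inner : Nat.card (MulAut.conj : L8 →* MulAut L8).range = Nat.card L8 :=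
  (Nat.card_congr (MonoidHom.ofInjective
    ((CfsgLib.AutPOmega.ctx_plusQ (F := ZMod 3) le_rfl).conj_injective)).toEquiv).symm

theorem card_mulAut : Nat.card (MulAut L8) = 24 * Nat.card L8 := by
  have : Fact (Nat.Prime 3) := ⟨by norm_num⟩
  have h := Cfsg.Agent.S0817.result (F := ZMod 3) 3 1 le_rfl (by rw [ZMod.card, pow_one]) 4 le_rfl
  rw [← CfsgLib.StdForms.coe_plusQ] at h
  have he : Even (4 * (3 ^ 1 - 1) / 2) := by decide
  rw [if_pos rfl, if_neg (by norm_num : ¬ (3 : ℕ) = 2), if_pos he] at h
  exact h.trans (by ring)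

/-- The kernel consists of the inner automorphisms and the twenty four permutations are all. -/
theorem moveHom_spec : moveHom.ker = (MulAut.conj : L8 →* MulAut L8).range ∧
    ∀ β, ∃ k : Fin 24, ∀ i, move β i = permFun k i := by
  classical
  choose f hf using exists_perm
  have hfin : Finite (MulAut L8) :=
    Nat.finite_of_card_ne_zero (by rw [card_mulAut, card_L8]; norm_num)
  let g : Fin 24 → moveHom.range := fun k => ⟨moveHom (f k), f k, rfl⟩
  have hg : Function.Injective g := fun k l e => by
    refine permFun_injective k l fun i => ?_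
    rw [← hf k i, ← hf l i]
    exact congrArg (fun p : moveHom.range => p.1 i) e
  have h24 : 24 ≤ Nat.card moveHom.range := by
    simpa using Nat.card_le_card_of_injective g hg
  have hle : (MulAut.conj : L8 →* MulAut L8).range ≤ moveHom.ker := by
    rintro _ ⟨x, rfl⟩
    exact moveHom_conj x
  have hmul : Nat.card moveHom.range * Nat.card moveHom.ker = 24 * Nat.card L8 := by
    rw [← card_mulAut, Subgroup.card_eq_card_quotient_mul_card_subgroup moveHom.ker,
      Nat.card_congr (QuotientGroup.quotientKerEquivRange moveHom).toEquiv]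
  have hkle : Nat.card L8 ≤ Nat.card moveHom.ker := by
    rw [← card_inner]
    exact Subgroup.card_le_of_le hle
  have hpos : 0 < Nat.card L8 := by rw [card_L8]; norm_num
  have hk : Nat.card moveHom.ker = Nat.card L8 := by nlinarith
  have hr : Nat.card moveHom.range = 24 := by nlinarith
  refine ⟨(Subgroup.eq_of_le_of_card_ge hle (by rw [card_inner, hk])).symm, fun β => ?_⟩
  have hbij : Function.Bijective g := (Nat.bijective_iff_injective_and_card g).2 ⟨hg, by rw [hr, Nat.card_eq_fintype_card, Fintype.card_fin]⟩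
  obtain ⟨k, hk'⟩ := hbij.2 ⟨moveHom β, β, rfl⟩
  exact ⟨k, fun i => by rw [← hf k i]; exact (congrArg (fun p : moveHom.range => p.1 i) hk').symm⟩

end CfsgLib.OmegaEight
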