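import Cfsg.Agent.OmegaEight.Code

/-!
# The finite checks for the subgroups of order three of the eight dimensional orthogonal group
-/

set_option autoImplicit false

namespace CfsgLib.OmegaEight

open CfsgLib.OmegaSeven (Row)

/-- The second code is the transpose of the first. -/
def checkTr (p : List Row × List Row) : Bool :=
  (List.range 8).all fun i => (List.range 8).all fun j =>
    ((p.1.getD i (0, 0)).1.testBit j == (p.2.getD j (0, 0)).1.testBit i) &&
      ((p.1.getD i (0, 0)).2.testBit j == (p.2.getD j (0, 0)).2.testBit i)

/-- Generators: valid, of cube one, isometries. -/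
def checkGen (p : List Row × List Row) : Bool :=
  normM p.1 && normM p.2 && mulC p.1 (mulC p.1 p.1) == oneC &&
    mulC (mulC p.2 gramC) p.1 == gramC && checkTr p

/-- The generators. -/
def gens24 : List (List Row) := genC.map Prod.fst

/-- The generators of the radical. -/
def qGens : List (List Row) := qGenC.map fun i => gens24.getD i oneC

/-- The generators of the Levi part of the Sylow subgroup. -/
def lGens : List (List Row) := lGenC.map fun i => gens24.getD i oneC

/-- The Levi root elements. -/
def lAll : List (List Row) := lAllC.map fun i => gens24.getD i oneC

/-- The simple root elements and their negatives. -/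
def simpleGens : List (List Row) := simpleC.map fun i => gens24.getD i oneC

/-- The radical. -/
def qMats : List (List Row) := qList.map Prod.fst

/-- The Levi part. -/
def lMats : List (List Row) := lList.map Prod.fst

/-- A list starting with one, each member from an earlier one by a generator, closed under them. -/
def checkClosed (gs : List (List Row)) (L : List (List Row × ℕ × ℕ)) (next : List (List ℕ)) : Bool :=
  (L.getD 0 ([], 0, 0)).1 == oneC && Nat.beq next.length L.length &&
    ((List.range L.length).all fun k => k == 0 ||
      ((L.getD k ([], 0, 0)).2.1 < k &&
        mulC (L.getD (L.getD k ([], 0, 0)).2.1 ([], 0, 0)).1 (gs.getD (L.getD k ([], 0, 0)).2.2 oneC)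
          == (L.getD k ([], 0, 0)).1)) &&
    (List.zip L next).all fun x => normM x.1.1 && Nat.beq x.2.length gs.length &&
      (List.zip gs x.2).all fun y => Nat.blt y.2 L.length &&
        mulC x.1.1 y.1 == (L.getD y.2 ([], 0, 0)).1

theorem gens_ok : genC.all checkGen = true := by decide +kernel

theorem qClosed_ok : checkClosed qGens qList qNext = true := by decide +kernel

theorem lClosed_ok : checkClosed lGens lList lNext = true := by decide +kernel

/-- The generators of the Levi part normalise the radical. -/
theorem normalise_ok : (lAll.all fun g => qGens.all fun q =>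
    qMats.any fun q' => mulC g q == mulC q' g) = true := by decide +kernel

/-- Members of the radical are told apart by one row, on which the Levi part is trivial. -/
theorem key_ok : (qMats.all fun q => q == oneC || !(q.getD 0 (0, 0) == (1, 0))) = true ∧
    (lMats.all fun l => l.getD 0 (0, 0) == (1, 0)) = true := by decide +kernel

theorem lGens_sub : (lGens.all fun g => lAll.contains g) = true := by decide +kernel

/-- The first row as a number. -/
def rowKey (A : List Row) : ℕ := (A.getD 0 (0, 0)).1 * 256 + (A.getD 0 (0, 0)).2

/-- All rows as a number. -/
def matKey (A : List Row) : ℕ := A.foldl (fun acc r => (acc * 256 + r.1) * 256 + r.2) 0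

/-- Pairwise different numbers. -/
def distinctB : List ℕ → Bool
  | [] => true
  | a :: l => (l.all fun b => !Nat.beq a b) && distinctB l

theorem qKeys_ok : distinctB (qMats.map rowKey) = true := by decide +kernel

theorem lKeys_ok : distinctB (lMats.map matKey) = true := by decide +kernel

/-- The certificate of one Levi element. -/
def checkL (x : List Row × (List ℕ × ℕ × ℕ)) : Bool :=
  ((x.2.2.2 == 1 || x.2.2.2 == 2) && x.2.2.1 < jList.length &&
      mulC (evalC lAll x.2.1) x.1 == mulC (powC (jList.getD x.2.2.1 oneC) x.2.2.2) (evalC lAll x.2.1))
    || !(mulC x.1 (mulC x.1 x.1) == oneC)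

theorem lCert_ok : Nat.beq lMats.length lCert.length = true ∧
    (List.zip lMats lCert).all checkL = true := by
  decide +kernel

theorem jList_ok : (jList.all fun l => lMats.contains l) = true := by decide +kernel

theorem jList_cube : (jList.all fun l => mulC l (mulC l l) == oneC) = true := by decide +kernel

theorem repC_ok : (repC.all fun p => checkGen p && !(p.1 == oneC)) = true ∧ repC.length = 13 := by
  decide +kernel

/-- The certificate of one product over a representative of the Levi part. -/
def checkM (m : List Row) (c : List ℕ × ℕ × ℕ) : Bool :=
  ((c.2.2 == 1 || c.2.2 == 2) && c.2.1 < 13 &&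
      mulC (evalC gens24 c.1) m
        == mulC (powC (repC.getD c.2.1 ([], [])).1 c.2.2) (evalC gens24 c.1))
    || m == oneC || !(mulC m (mulC m m) == oneC)

/-- The certificates over one representative of the Levi part. -/
def checkCand (j : ℕ) : Bool :=
  Nat.beq (candC.getD j []).length qMats.length &&
    (List.zip qMats (candC.getD j [])).all fun x => checkM (mulC x.1 (jList.getD j oneC)) x.2

theorem cand0_ok : checkCand 0 = true := by decide +kernel

theorem cand1_ok : checkCand 1 = true := by decide +kernel

theorem cand2_ok : checkCand 2 = true := by decide +kernel

theorem cand3_ok : checkCand 3 = true := by decide +kernel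

theorem cand4_ok : checkCand 4 = true := by decide +kernel

theorem candC_ok : jList.length = 5 ∧ ∀ j < 5, checkCand j = true := by
  refine ⟨rfl, fun j hj => ?_⟩
  interval_cases j
  exacts [cand0_ok, cand1_ok, cand2_ok, cand3_ok, cand4_ok]

/-- The generators moved by a power of triality. -/
def triGens (k : ℕ) : List (List Row) :=
  (List.range 8).map fun i => simpleGens.getD ((fun j => triC.getD j 0)^[k] i) oneC

theorem repW_ok : ((List.range 13).all fun i =>
    evalC simpleGens (repW.getD i []) == (repC.getD i ([], [])).1 &&
      evalC (triGens 1) (repW.getD i []) == (triOneC.getD i ([], [])).1 &&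
      evalC (triGens 2) (repW.getD i []) == (triTwoC.getD i ([], [])).1 &&
      checkGen (triOneC.getD i ([], [])) && checkGen (triTwoC.getD i ([], []))) = true := by
  decide +kernel

/-- The three moved copies of a representative. -/
def movedC (t i : ℕ) : List Row :=
  if t = 0 then (triOneC.getD i ([], [])).1
  else if t = 1 then mulC (mulC reflC (repC.getD i ([], [])).1) reflC
  else mulC (mulC dilC (repC.getD i ([], [])).1) dilC

theorem moved_ok : normM reflC = true ∧ normM dilC = true ∧ mulC reflC reflC = oneC ∧
    mulC dilC dilC = oneC := by
  decide +kernel

theorem permCert_ok : ((List.range 3).all fun t => (List.range 13).all fun i =>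
    let c := (permCert.getD t []).getD i ([], 0, 0)
    (c.2.2 == 1 || c.2.2 == 2) && c.2.1 < 13 &&
      c.2.1 == (permC.getD (t + 1) []).getD i 0 &&
      mulC (evalC gens24 c.1) (movedC t i)
        == mulC (powC (repC.getD c.2.1 ([], [])).1 c.2.2) (evalC gens24 c.1)) = true := by
  decide +kernel

end CfsgLib.OmegaEight
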