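import Cfsg.Agent.OmegaEight.Group

/-!
# Elements of order three in the eight dimensional orthogonal group over three elements

Up to conjugation and inversion every such element is one of thirteen.
-/

set_option autoImplicit false

namespace CfsgLib.OmegaEight

open CfsgLib.OmegaSeven (Row)

section assoc

variable {G : Type*} [Group G]

/-- Conjugate up to inversion. -/
def Assoc (a b : G) : Prop := ∃ g : G, g * a * g⁻¹ = b ∨ g * a * g⁻¹ = b⁻¹

theorem Assoc.refl (a : G) : Assoc a a := ⟨1, Or.inl (by group)⟩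

theorem Assoc.inv_right {a b : G} (h : Assoc a b) : Assoc a b⁻¹ := by
  obtain ⟨g, h | h⟩ := h
  · exact ⟨g, Or.inr (by rw [h, inv_inv])⟩
  · exact ⟨g, Or.inl h⟩

theorem Assoc.trans {a b c : G} (h : Assoc a b) (h' : Assoc b c) : Assoc a c := by
  obtain ⟨g, hg⟩ := h
  obtain ⟨k, hk⟩ := h'
  refine ⟨k * g, ?_⟩
  have e : k * g * a * (k * g)⁻¹ = k * (g * a * g⁻¹) * k⁻¹ := by group
  rw [e]
  rcases hg with hg | hg <;> rw [hg]
  · exact hk
  · rw [← conj_inv]
    rcases hk with hk | hk <;> rw [hk]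
    · exact Or.inr rfl
    · exact Or.inl (inv_inv c)

theorem Assoc.symm {a b : G} (h : Assoc a b) : Assoc b a := by
  obtain ⟨g, h | h⟩ := h
  · exact ⟨g⁻¹, Or.inl (by rw [← h]; group)⟩
  · refine ⟨g⁻¹, Or.inr ?_⟩
    rw [show b = (g * a * g⁻¹)⁻¹ by rw [h, inv_inv]]
    group

theorem Assoc.map {a b : G} {H : Type*} [Group H] (f : G →* H) (h : Assoc a b) :
    Assoc (f a) (f b) := by
  obtain ⟨g, h⟩ := h
  refine ⟨f g, ?_⟩
  rw [← map_inv, ← map_inv, ← map_mul, ← map_mul]
  rcases h with h | h <;> rw [h]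
  · exact Or.inl rfl
  · exact Or.inr rfl

theorem Assoc.cube {a b : G} (h : Assoc a b) (hb : b * (b * b) = 1) : a * (a * a) = 1 := by
  obtain ⟨g, h⟩ := h
  have hbi : b⁻¹ * (b⁻¹ * b⁻¹) = 1 := by
    rw [← inv_eq_one] at hb
    simpa [mul_assoc] using hb
  have e : g * (a * (a * a)) * g⁻¹ = 1 := by
    calc g * (a * (a * a)) * g⁻¹ = g * a * g⁻¹ * (g * a * g⁻¹ * (g * a * g⁻¹)) := by group
      _ = 1 := by rcases h with h | h <;> rw [h] <;> assumption
  exact conj_eq_one_iff.1 e

/-- A conjugation certificate. -/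
theorem assoc_of_eq {a b w : G} {s : ℕ} (hs : s = 1 ∨ s = 2) (hb : b * (b * b) = 1)
    (h : w * a = (if s = 1 then b else b * b) * w) : Assoc a b := by
  refine ⟨w, ?_⟩
  rw [h, mul_inv_cancel_right]
  rcases hs with rfl | rfl
  · exact Or.inl rfl
  · exact Or.inr (by simpa using (inv_eq_of_mul_eq_one_right hb).symm)

end assoc

theorem elem_powC {A : List Row} (hA : El A) (s : ℕ) :
    elem (powC A s) = if s = 1 then elem A else elem A * elem A := by
  unfold powC
  split
  · rfl
  · exact elem_mul hA hA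

/-- The thirteen elements. -/
noncomputable def rep (i : Fin 13) : G8 := elem (repC.getD i ([], [])).1

theorem el_rep (i : Fin 13) :
    El (repC.getD i ([], [])).1 ∧ rep i ≠ 1 ∧ rep i * (rep i * rep i) = 1 := by
  have hlen : (i : ℕ) < repC.length := by rw [repC_ok.2]; exact i.2
  have hmem : repC.getD i ([], []) ∈ repC := by
    rw [List.getD_eq_getElem _ _ hlen]; exact List.getElem_mem _
  have h := List.all_eq_true.1 repC_ok.1 _ hmem
  simp only [Bool.and_eq_true, Bool.not_eq_true', beq_eq_false_iff_ne] at h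
  obtain ⟨hE, h3⟩ := El.of_checkGen h.1
  exact ⟨hE, fun e => h.2 (elem_inj hE El.one (e.trans elem_one.symm)), h3⟩

theorem cube_beq {A : List Row} (hA : El A) (h : elem A * (elem A * elem A) = 1) :
    (mulC A (mulC A A) == oneC) = true := by
  rw [beq_iff_eq]
  exact elem_inj (hA.mul (hA.mul hA)) El.one
    (by rw [elem_mul hA (hA.mul hA), elem_mul hA hA, h, elem_one])

/-- Every element of order three of the Levi part goes to a chosen one. -/
theorem exists_levi {l : G8} (hl : l ∈ lSub) (hl3 : l * (l * l) = 1) :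
    ∃ h ∈ genSub lAll, ∃ j < jList.length, ∃ s : ℕ, (s = 1 ∨ s = 2) ∧
      h * l = elem (powC (jList.getD j oneC) s) * h := by
  obtain ⟨A, hA, hAl⟩ := mem_lSub.1 hl
  obtain ⟨k, hk, hkA⟩ := List.getElem_of_mem hA
  have hlen : lMats.length = lCert.length := Nat.eq_of_beq_eq_true lCert_ok.1
  have hz : k < (List.zip lMats lCert).length := by rw [List.length_zip]; omega
  have h := List.all_eq_true.1 lCert_ok.2 _ (List.getElem_mem hz)
  rw [List.getElem_zip, hkA] at h
  have hAE := el_lMats A hA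
  simp only [checkL, cube_beq hAE (by rw [hAl]; exact hl3), Bool.not_true, Bool.or_false,
    Bool.and_eq_true, Bool.or_eq_true, beq_iff_eq, decide_eq_true_eq] at h
  obtain ⟨⟨hs, hj⟩, he⟩ := h
  set c := lCert[k]'(hlen ▸ hk)
  have hJ : El (jList.getD c.2.1 oneC) := by
    rw [List.getD_eq_getElem _ _ hj]
    exact el_lMats _ (List.contains_iff_mem.1 (List.all_eq_true.1 jList_ok _ (List.getElem_mem _)))
  refine ⟨elem (evalC lAll c.1), elem_eval_mem el_lAll (fun g hg => mem_genSub_of hg) _, c.2.1, hj,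
    c.2.2, hs, ?_⟩
  have e := congrArg elem he
  rw [elem_mul (El.eval el_lAll _) hAE, elem_mul (hJ.pow _) (El.eval el_lAll _), hAl] at e
  exact e

/-- The products over a chosen element of the Levi part. -/
theorem assoc_cand {j : ℕ} (hj : j < jList.length) {q : G8} (hq : q ∈ qSub)
    (h3 : q * elem (jList.getD j oneC) * (q * elem (jList.getD j oneC) * (q * elem (jList.getD j oneC))) = 1)
    (h1 : q * elem (jList.getD j oneC) ≠ 1) :
    ∃ i, Assoc (q * elem (jList.getD j oneC)) (rep i) := by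
  obtain ⟨Q, hQ, rfl⟩ := mem_qSub.1 hq
  obtain ⟨m, hm, hmQ⟩ := List.getElem_of_mem hQ
  have hJ : El (jList.getD j oneC) := by
    rw [List.getD_eq_getElem _ _ hj]
    exact el_lMats _ (List.contains_iff_mem.1 (List.all_eq_true.1 jList_ok _ (List.getElem_mem _)))
  have hQE := el_qMats Q hQ
  have hM := hQE.mul hJ
  rw [← elem_mul hQE hJ] at h3 h1 ⊢
  have hc := candC_ok.2 j (candC_ok.1 ▸ hj)
  simp only [checkCand, Bool.and_eq_true, List.all_eq_true] at hc
  have hlen : (candC.getD j []).length = qMats.length := Nat.eq_of_beq_eq_true hc.1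
  have hz : m < (List.zip qMats (candC.getD j [])).length := by rw [List.length_zip]; omega
  have h := hc.2 _ (List.getElem_mem hz)
  rw [List.getElem_zip, hmQ] at h
  have hne : (mulC Q (jList.getD j oneC) == oneC) = false := by
    rw [beq_eq_false_iff_ne]
    exact fun e => h1 (by rw [e, elem_one])
  simp only [checkM, cube_beq hM h3, hne, Bool.not_true, Bool.or_false, Bool.and_eq_true,
    Bool.or_eq_true, beq_iff_eq, decide_eq_true_eq] at h
  obtain ⟨⟨hs, hr⟩, he⟩ := h
  set c := (candC.getD j [])[m]'(hlen ▸ hm)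
  obtain ⟨hR, -, hR3⟩ := el_rep ⟨c.2.1, hr⟩
  have e := congrArg elem he
  rw [elem_mul (El.eval el_gens24 _) hM, elem_mul (hR.pow _) (El.eval el_gens24 _), elem_powC hR] at e
  exact ⟨⟨c.2.1, hr⟩, assoc_of_eq hs hR3 e⟩

/-- Up to conjugation and inversion there are at most thirteen elements of order three. -/
theorem exists_assoc_rep {y : G8} (h3 : y * (y * y) = 1) (h1 : y ≠ 1) : ∃ i, Assoc y (rep i) := by
  classical
  have : Fact (Nat.Prime 3) := ⟨by norm_num⟩
  have hfac : (Nat.card G8).factorization 3 = 12 := by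
    have hne : Nat.card G8 ≠ 0 := Nat.card_pos.ne'
    have h12 := (Nat.Prime.pow_dvd_iff_le_factorization (k := 12) Nat.prime_three hne).1
      (by rw [card_G8]; norm_num)
    have h13 : ¬ 13 ≤ (Nat.card G8).factorization 3 := fun h => by
      have := (Nat.Prime.pow_dvd_iff_le_factorization (k := 13) Nat.prime_three hne).2 h
      rw [card_G8] at this
      norm_num at this
    omega
  let P₀ : Sylow 3 G8 := Sylow.ofCard uSub (by rw [card_uSub, hfac])
  have hord : orderOf y = 3 := orderOf_eq_prime (by rw [pow_succ', pow_two]; exact h3) h1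
  obtain ⟨P, hP⟩ := (IsPGroup.of_card (p := 3) (n := 1)
    (by rw [Nat.card_zpowers, hord, pow_one] : Nat.card (Subgroup.zpowers y) = 3 ^ 1)).exists_le_sylow
  obtain ⟨t, ht⟩ := MulAction.exists_smul_eq G8 P P₀
  set u := t * y * t⁻¹ with hu
  have huU : u ∈ uSub := by
    have e : (P : Subgroup G8).map (MulAut.conj t).toMonoidHom = uSub := congrArg Sylow.toSubgroup ht
    rw [← e]
    exact ⟨y, hP (Subgroup.mem_zpowers y), rfl⟩
  have hu3 : u * (u * u) = 1 := by
    rw [hu]
    calc t * y * t⁻¹ * (t * y * t⁻¹ * (t * y * t⁻¹)) = t * (y * (y * y)) * t⁻¹ := by group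
      _ = 1 := by rw [h3, mul_one, mul_inv_cancel]
  have hyu : Assoc y u := ⟨t, Or.inl rfl⟩
  obtain ⟨q, hq, l, hl, hql⟩ := mem_uSub.1 huU
  have hlN : l ∈ genSub lAll := lSub_le hl
  have hl3 : l * (l * l) = 1 := by
    refine inf_eq_one ?_ (mul_mem hl (mul_mem hl hl))
    have e : q * (l * q * l⁻¹) * ((l * l) * q * (l * l)⁻¹) * (l * (l * l)) = u * (u * u) := by
      rw [← hql]; group
    rw [hu3, mul_eq_one_iff_inv_eq] at e
    rw [← e]
    exact inv_mem (mul_mem (mul_mem hq (normal_q hlN hq)) (normal_q (mul_mem hlN hlN) hq))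
  obtain ⟨h, hh, j, hj, s, hs, he⟩ := exists_levi hl hl3
  have hJmem : jList.getD j oneC ∈ jList := by
    rw [List.getD_eq_getElem _ _ hj]; exact List.getElem_mem _
  have hJl : jList.getD j oneC ∈ lMats :=
    List.contains_iff_mem.1 (List.all_eq_true.1 jList_ok _ hJmem)
  have hJE := el_lMats _ hJl
  have hJ3 : elem (jList.getD j oneC) * (elem (jList.getD j oneC) * elem (jList.getD j oneC)) = 1 := by
    have h9 := List.all_eq_true.1 jList_cube _ hJmem
    simp only [beq_iff_eq] at h9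
    rw [← elem_mul hJE hJE, ← elem_mul hJE (hJE.mul hJE), h9, elem_one]
  have hJN : elem (jList.getD j oneC) ∈ genSub lAll := lSub_le (mem_lSub.2 ⟨_, hJl, rfl⟩)
  rw [elem_powC hJE] at he
  set J := elem (jList.getD j oneC)
  have hq' : h * q * h⁻¹ ∈ qSub := normal_q hh hq
  have e2 : h * u * h⁻¹ = h * q * h⁻¹ * (if s = 1 then J else J * J) := by
    calc h * u * h⁻¹ = h * q * h⁻¹ * (h * l * h⁻¹) := by rw [← hql]; group
      _ = _ := by rw [he, mul_inv_cancel_right]
  obtain ⟨q', hq'', hv⟩ : ∃ q' ∈ qSub, Assoc u (q' * J) := by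
    rcases hs with rfl | rfl
    · exact ⟨_, hq', h, Or.inl (by simpa using e2)⟩
    · refine ⟨_, normal_q hJN (inv_mem hq'), h, Or.inr ?_⟩
      rw [e2, inv_mul_cancel_right, _root_.mul_inv_rev, inv_inv, if_neg (by decide : ¬ (2 : ℕ) = 1),
        inv_eq_of_mul_eq_one_right hJ3]
  have hyv := hyu.trans hv
  obtain ⟨i, hi⟩ := assoc_cand hj hq'' (hyv.symm.cube h3) (fun e => by
    obtain ⟨g, hg⟩ := hyv
    have e' : g * y * g⁻¹ = 1 := by
      rcases hg with hg | hg <;> rw [hg, e]
      exact inv_one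
    exact h1 (conj_eq_one_iff.1 e'))
  exact ⟨i, hyv.trans hi⟩

/-- The thirteen elements in the simple group. -/
noncomputable def repL (i : Fin 13) : L8 := toL (rep i)

theorem repL_cube (i : Fin 13) : repL i * (repL i * repL i) = 1 := by
  rw [repL, ← map_mul, ← map_mul, (el_rep i).2.2, map_one]

theorem repL_ne_one (i : Fin 13) : repL i ≠ 1 := fun e => by
  obtain ⟨-, h1, h3⟩ := el_rep i
  exact h1 (lift_eq h3 (by simp) (e.trans (map_one toL).symm))

theorem exists_assoc_repL {x : L8} (h3 : x * (x * x) = 1) (h1 : x ≠ 1) :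
    ∃ i, Assoc x (repL i) := by
  obtain ⟨y, hy, rfl⟩ := exists_lift h3
  obtain ⟨i, hi⟩ := exists_assoc_rep hy (fun e => h1 (by rw [e, map_one]))
  exact ⟨i, hi.map toL⟩

/-- Associated elements of cube one lift to associated elements. -/
theorem assoc_lift {a b : G8} (ha : a * (a * a) = 1) (hb : b * (b * b) = 1)
    (h : Assoc (toL a) (toL b)) : Assoc a b := by
  obtain ⟨g, h⟩ := h
  obtain ⟨g, rfl⟩ := QuotientGroup.mk'_surjective (Subgroup.center G8) g
  refine ⟨g, ?_⟩
  have hga : g * a * g⁻¹ * (g * a * g⁻¹ * (g * a * g⁻¹)) = 1 := by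
    calc g * a * g⁻¹ * (g * a * g⁻¹ * (g * a * g⁻¹)) = g * (a * (a * a)) * g⁻¹ := by group
      _ = 1 := by rw [ha, mul_one, mul_inv_cancel]
  rcases h with h | h
  · exact Or.inl (lift_eq hga hb (by rw [map_mul, map_mul, map_inv]; exact h))
  · refine Or.inr (lift_eq hga ?_ (by rw [map_mul, map_mul, map_inv, map_inv]; exact h))
    rw [← inv_eq_one] at hb
    simpa [mul_assoc] using hb

end CfsgLib.OmegaEight
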