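import Cfsg.Agent.OmegaSeven.Data

/-!
# Certificates for the subgroups of order three of the eight dimensional orthogonal group
-/

set_option autoImplicit false

namespace CfsgLib.OmegaEight

open CfsgLib.OmegaSeven

/-- The matrix of the polar form. -/
def gramC : List Row := [(16,0), (32,0), (64,0), (128,0), (1,0), (2,0), (4,0), (8,0)]

/-- The root elements in the order of the roots of the Chevalley datum, with their transposes. -/
def genC : List (List Row × List Row) :=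
  [
    ([(1,0), (2,0), (4,0), (8,0), (18,0), (32,1), (64,0), (128,0)], [(1,32), (18,0), (4,0), (8,0), (16,0), (32,0), (64,0), (128,0)]),
    ([(1,0), (2,0), (4,0), (8,0), (16,4), (32,0), (65,0), (128,0)], [(65,0), (2,0), (4,16), (8,0), (16,0), (32,0), (64,0), (128,0)]),
    ([(1,0), (2,0), (4,0), (8,1), (144,0), (32,0), (64,0), (128,0)], [(1,8), (2,0), (4,0), (8,0), (16,0), (32,0), (64,0), (144,0)]),
    ([(1,0), (2,0), (4,0), (8,0), (24,0), (32,0), (64,0), (128,1)], [(1,128), (2,0), (4,0), (24,0), (16,0), (32,0), (64,0), (128,0)]),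
    ([(1,0), (2,0), (4,1), (8,0), (80,0), (32,0), (64,0), (128,0)], [(1,4), (2,0), (4,0), (8,0), (16,0), (32,0), (80,0), (128,0)]),
    ([(1,0), (2,1), (4,0), (8,0), (48,0), (32,0), (64,0), (128,0)], [(1,2), (2,0), (4,0), (8,0), (16,0), (48,0), (64,0), (128,0)]),
    ([(1,0), (2,0), (4,0), (8,0), (16,0), (32,4), (66,0), (128,0)], [(1,0), (66,0), (4,32), (8,0), (16,0), (32,0), (64,0), (128,0)]),
    ([(1,0), (2,0), (4,0), (8,2), (16,0), (160,0), (64,0), (128,0)], [(1,0), (2,8), (4,0), (8,0), (16,0), (32,0), (64,0), (160,0)]),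
    ([(1,0), (2,0), (4,0), (8,0), (16,0), (40,0), (64,0), (128,2)], [(1,0), (2,128), (4,0), (40,0), (16,0), (32,0), (64,0), (128,0)]),
    ([(1,0), (2,0), (4,2), (8,0), (16,0), (96,0), (64,0), (128,0)], [(1,0), (2,4), (4,0), (8,0), (16,0), (32,0), (96,0), (128,0)]),
    ([(1,0), (2,0), (4,0), (8,4), (16,0), (32,0), (192,0), (128,0)], [(1,0), (2,0), (4,8), (8,0), (16,0), (32,0), (64,0), (192,0)]),
    ([(1,0), (2,0), (4,0), (8,0), (16,0), (32,0), (72,0), (128,4)], [(1,0), (2,0), (4,128), (72,0), (16,0), (32,0), (64,0), (128,0)]),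
    ([(1,0), (2,0), (4,128), (72,0), (16,0), (32,0), (64,0), (128,0)], [(1,0), (2,0), (4,0), (8,0), (16,0), (32,0), (72,0), (128,4)]),
    ([(1,0), (2,0), (4,8), (8,0), (16,0), (32,0), (64,0), (192,0)], [(1,0), (2,0), (4,0), (8,4), (16,0), (32,0), (192,0), (128,0)]),
    ([(1,0), (2,4), (4,0), (8,0), (16,0), (32,0), (96,0), (128,0)], [(1,0), (2,0), (4,2), (8,0), (16,0), (96,0), (64,0), (128,0)]),
    ([(1,0), (2,128), (4,0), (40,0), (16,0), (32,0), (64,0), (128,0)], [(1,0), (2,0), (4,0), (8,0), (16,0), (40,0), (64,0), (128,2)]),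
    ([(1,0), (2,8), (4,0), (8,0), (16,0), (32,0), (64,0), (160,0)], [(1,0), (2,0), (4,0), (8,2), (16,0), (160,0), (64,0), (128,0)]),
    ([(1,0), (66,0), (4,32), (8,0), (16,0), (32,0), (64,0), (128,0)], [(1,0), (2,0), (4,0), (8,0), (16,0), (32,4), (66,0), (128,0)]),
    ([(1,2), (2,0), (4,0), (8,0), (16,0), (48,0), (64,0), (128,0)], [(1,0), (2,1), (4,0), (8,0), (48,0), (32,0), (64,0), (128,0)]),
    ([(1,4), (2,0), (4,0), (8,0), (16,0), (32,0), (80,0), (128,0)], [(1,0), (2,0), (4,1), (8,0), (80,0), (32,0), (64,0), (128,0)]),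
    ([(1,128), (2,0), (4,0), (24,0), (16,0), (32,0), (64,0), (128,0)], [(1,0), (2,0), (4,0), (8,0), (24,0), (32,0), (64,0), (128,1)]),
    ([(1,8), (2,0), (4,0), (8,0), (16,0), (32,0), (64,0), (144,0)], [(1,0), (2,0), (4,0), (8,1), (144,0), (32,0), (64,0), (128,0)]),
    ([(65,0), (2,0), (4,16), (8,0), (16,0), (32,0), (64,0), (128,0)], [(1,0), (2,0), (4,0), (8,0), (16,4), (32,0), (65,0), (128,0)]),
    ([(1,32), (18,0), (4,0), (8,0), (16,0), (32,0), (64,0), (128,0)], [(1,0), (2,0), (4,0), (8,0), (18,0), (32,1), (64,0), (128,0)])]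

/-- Positions of the generators of the radical. -/
def qGenC : List ℕ := [18,19,20,21,22,23]

/-- Positions of the generators of the Levi part. -/
def lGenC : List ℕ := [12,13,14,15,16,17]

/-- Positions of the Levi root elements. -/
def lAllC : List ℕ := [6,7,8,9,10,11,12,13,14,15,16,17]

/-- The radical, with a parent and a generator for each element. -/
def qList : List (List Row × ℕ × ℕ) :=
  [
    ([(1,0), (2,0), (4,0), (8,0), (16,0), (32,0), (64,0), (128,0)], 0, 0),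
    ([(1,2), (2,0), (4,0), (8,0), (16,0), (48,0), (64,0), (128,0)], 0, 0),
    ([(1,4), (2,0), (4,0), (8,0), (16,0), (32,0), (80,0), (128,0)], 0, 1),
    ([(1,128), (2,0), (4,0), (24,0), (16,0), (32,0), (64,0), (128,0)], 0, 2),
    ([(1,8), (2,0), (4,0), (8,0), (16,0), (32,0), (64,0), (144,0)], 0, 3),
    ([(65,0), (2,0), (4,16), (8,0), (16,0), (32,0), (64,0), (128,0)], 0, 4),
    ([(1,32), (18,0), (4,0), (8,0), (16,0), (32,0), (64,0), (128,0)], 0, 5),
    ([(3,0), (2,0), (4,0), (8,0), (16,0), (32,16), (64,0), (128,0)], 1, 0),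
    ([(1,6), (2,0), (4,0), (8,0), (16,0), (48,0), (80,0), (128,0)], 1, 1),
    ([(1,130), (2,0), (4,0), (24,0), (16,0), (48,0), (64,0), (128,0)], 1, 2),
    ([(1,10), (2,0), (4,0), (8,0), (16,0), (48,0), (64,0), (144,0)], 1, 3),
    ([(65,2), (2,0), (4,16), (8,0), (16,0), (48,0), (64,0), (128,0)], 1, 4),
    ([(1,50), (18,0), (4,0), (8,0), (16,0), (48,0), (64,0), (128,0)], 1, 5),
    ([(5,0), (2,0), (4,0), (8,0), (16,0), (32,0), (64,16), (128,0)], 2, 1),
    ([(1,132), (2,0), (4,0), (24,0), (16,0), (32,0), (80,0), (128,0)], 2, 2),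
    ([(1,12), (2,0), (4,0), (8,0), (16,0), (32,0), (80,0), (144,0)], 2, 3),
    ([(81,4), (2,0), (4,16), (8,0), (16,0), (32,0), (80,0), (128,0)], 2, 4),
    ([(1,36), (18,0), (4,0), (8,0), (16,0), (32,0), (80,0), (128,0)], 2, 5),
    ([(129,0), (2,0), (4,0), (8,16), (16,0), (32,0), (64,0), (128,0)], 3, 2),
    ([(1,152), (2,0), (4,0), (24,0), (16,0), (32,0), (64,0), (144,0)], 3, 3),
    ([(65,128), (2,0), (4,16), (24,0), (16,0), (32,0), (64,0), (128,0)], 3, 4),
    ([(1,160), (18,0), (4,0), (24,0), (16,0), (32,0), (64,0), (128,0)], 3, 5),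
    ([(9,0), (2,0), (4,0), (8,0), (16,0), (32,0), (64,0), (128,16)], 4, 3),
    ([(65,8), (2,0), (4,16), (8,0), (16,0), (32,0), (64,0), (144,0)], 4, 4),
    ([(1,40), (18,0), (4,0), (8,0), (16,0), (32,0), (64,0), (144,0)], 4, 5),
    ([(1,64), (2,0), (20,0), (8,0), (16,0), (32,0), (64,0), (128,0)], 5, 4),
    ([(65,32), (18,0), (4,16), (8,0), (16,0), (32,0), (64,0), (128,0)], 5, 5),
    ([(33,0), (2,16), (4,0), (8,0), (16,0), (32,0), (64,0), (128,0)], 6, 5),
    ([(3,4), (2,0), (4,0), (8,0), (16,0), (32,16), (80,0), (128,0)], 7, 1),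
    ([(3,128), (2,0), (4,0), (24,0), (16,0), (32,16), (64,0), (128,0)], 7, 2),
    ([(3,8), (2,0), (4,0), (8,0), (16,0), (32,16), (64,0), (144,0)], 7, 3),
    ([(67,0), (2,0), (4,16), (8,0), (16,0), (32,16), (64,0), (128,0)], 7, 4),
    ([(19,32), (18,0), (4,0), (8,0), (16,0), (32,16), (64,0), (128,0)], 7, 5),
    ([(5,2), (2,0), (4,0), (8,0), (16,0), (48,0), (64,16), (128,0)], 8, 1),
    ([(1,134), (2,0), (4,0), (24,0), (16,0), (48,0), (80,0), (128,0)], 8, 2),
    ([(1,14), (2,0), (4,0), (8,0), (16,0), (48,0), (80,0), (144,0)], 8, 3),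
    ([(81,6), (2,0), (4,16), (8,0), (16,0), (48,0), (80,0), (128,0)], 8, 4),
    ([(1,54), (18,0), (4,0), (8,0), (16,0), (48,0), (80,0), (128,0)], 8, 5),
    ([(129,2), (2,0), (4,0), (8,16), (16,0), (48,0), (64,0), (128,0)], 9, 2),
    ([(1,154), (2,0), (4,0), (24,0), (16,0), (48,0), (64,0), (144,0)], 9, 3),
    ([(65,130), (2,0), (4,16), (24,0), (16,0), (48,0), (64,0), (128,0)], 9, 4),
    ([(1,178), (18,0), (4,0), (24,0), (16,0), (48,0), (64,0), (128,0)], 9, 5),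
    ([(9,2), (2,0), (4,0), (8,0), (16,0), (48,0), (64,0), (128,16)], 10, 3),
    ([(65,10), (2,0), (4,16), (8,0), (16,0), (48,0), (64,0), (144,0)], 10, 4),
    ([(1,58), (18,0), (4,0), (8,0), (16,0), (48,0), (64,0), (144,0)], 10, 5),
    ([(1,66), (2,0), (20,0), (8,0), (16,0), (48,0), (64,0), (128,0)], 11, 4),
    ([(65,50), (18,0), (4,16), (8,0), (16,0), (48,0), (64,0), (128,0)], 11, 5),
    ([(49,2), (2,16), (4,0), (8,0), (16,0), (48,0), (64,0), (128,0)], 12, 5),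
    ([(5,128), (2,0), (4,0), (24,0), (16,0), (32,0), (64,16), (128,0)], 13, 2),
    ([(5,8), (2,0), (4,0), (8,0), (16,0), (32,0), (64,16), (144,0)], 13, 3),
    ([(69,16), (2,0), (4,16), (8,0), (16,0), (32,0), (64,16), (128,0)], 13, 4),
    ([(5,32), (18,0), (4,0), (8,0), (16,0), (32,0), (64,16), (128,0)], 13, 5),
    ([(129,4), (2,0), (4,0), (8,16), (16,0), (32,0), (80,0), (128,0)], 14, 2),
    ([(1,156), (2,0), (4,0), (24,0), (16,0), (32,0), (80,0), (144,0)], 14, 3),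
    ([(81,132), (2,0), (4,16), (24,0), (16,0), (32,0), (80,0), (128,0)], 14, 4),
    ([(1,164), (18,0), (4,0), (24,0), (16,0), (32,0), (80,0), (128,0)], 14, 5),
    ([(9,4), (2,0), (4,0), (8,0), (16,0), (32,0), (80,0), (128,16)], 15, 3),
    ([(81,12), (2,0), (4,16), (8,0), (16,0), (32,0), (80,0), (144,0)], 15, 4),
    ([(1,44), (18,0), (4,0), (8,0), (16,0), (32,0), (80,0), (144,0)], 15, 5),
    ([(1,84), (2,0), (20,0), (8,0), (16,0), (32,0), (80,0), (128,0)], 16, 4),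
    ([(81,36), (18,0), (4,16), (8,0), (16,0), (32,0), (80,0), (128,0)], 16, 5),
    ([(33,4), (2,16), (4,0), (8,0), (16,0), (32,0), (80,0), (128,0)], 17, 5),
    ([(145,8), (2,0), (4,0), (8,16), (16,0), (32,0), (64,0), (144,0)], 18, 3),
    ([(193,0), (2,0), (4,16), (8,16), (16,0), (32,0), (64,0), (128,0)], 18, 4),
    ([(129,32), (18,0), (4,0), (8,16), (16,0), (32,0), (64,0), (128,0)], 18, 5),
    ([(25,128), (2,0), (4,0), (24,0), (16,0), (32,0), (64,0), (128,16)], 19, 3),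
    ([(65,152), (2,0), (4,16), (24,0), (16,0), (32,0), (64,0), (144,0)], 19, 4),
    ([(1,184), (18,0), (4,0), (24,0), (16,0), (32,0), (64,0), (144,0)], 19, 5),
    ([(1,192), (2,0), (20,0), (24,0), (16,0), (32,0), (64,0), (128,0)], 20, 4),
    ([(65,160), (18,0), (4,16), (24,0), (16,0), (32,0), (64,0), (128,0)], 20, 5),
    ([(33,128), (2,16), (4,0), (24,0), (16,0), (32,0), (64,0), (128,0)], 21, 5),
    ([(73,0), (2,0), (4,16), (8,0), (16,0), (32,0), (64,0), (128,16)], 22, 4),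
    ([(9,32), (18,0), (4,0), (8,0), (16,0), (32,0), (64,0), (128,16)], 22, 5),
    ([(1,72), (2,0), (20,0), (8,0), (16,0), (32,0), (64,0), (144,0)], 23, 4),
    ([(65,40), (18,0), (4,16), (8,0), (16,0), (32,0), (64,0), (144,0)], 23, 5),
    ([(33,8), (2,16), (4,0), (8,0), (16,0), (32,0), (64,0), (144,0)], 24, 5),
    ([(1,96), (18,0), (20,0), (8,0), (16,0), (32,0), (64,0), (128,0)], 25, 5),
    ([(97,0), (2,16), (4,16), (8,0), (16,0), (32,0), (64,0), (128,0)], 26, 5),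
    ([(7,0), (2,0), (4,0), (8,0), (16,0), (32,16), (64,16), (128,0)], 28, 1),
    ([(3,132), (2,0), (4,0), (24,0), (16,0), (32,16), (80,0), (128,0)], 28, 2),
    ([(3,12), (2,0), (4,0), (8,0), (16,0), (32,16), (80,0), (144,0)], 28, 3),
    ([(83,4), (2,0), (4,16), (8,0), (16,0), (32,16), (80,0), (128,0)], 28, 4),
    ([(19,36), (18,0), (4,0), (8,0), (16,0), (32,16), (80,0), (128,0)], 28, 5),
    ([(131,0), (2,0), (4,0), (8,16), (16,0), (32,16), (64,0), (128,0)], 29, 2),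
    ([(3,152), (2,0), (4,0), (24,0), (16,0), (32,16), (64,0), (144,0)], 29, 3),
    ([(67,128), (2,0), (4,16), (24,0), (16,0), (32,16), (64,0), (128,0)], 29, 4),
    ([(19,160), (18,0), (4,0), (24,0), (16,0), (32,16), (64,0), (128,0)], 29, 5),
    ([(11,0), (2,0), (4,0), (8,0), (16,0), (32,16), (64,0), (128,16)], 30, 3),
    ([(67,8), (2,0), (4,16), (8,0), (16,0), (32,16), (64,0), (144,0)], 30, 4),
    ([(19,40), (18,0), (4,0), (8,0), (16,0), (32,16), (64,0), (144,0)], 30, 5),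
    ([(3,64), (2,0), (20,0), (8,0), (16,0), (32,16), (64,0), (128,0)], 31, 4),
    ([(83,32), (18,0), (4,16), (8,0), (16,0), (32,16), (64,0), (128,0)], 31, 5),
    ([(35,16), (2,16), (4,0), (8,0), (16,0), (32,16), (64,0), (128,0)], 32, 5),
    ([(5,130), (2,0), (4,0), (24,0), (16,0), (48,0), (64,16), (128,0)], 33, 2),
    ([(5,10), (2,0), (4,0), (8,0), (16,0), (48,0), (64,16), (144,0)], 33, 3),
    ([(69,18), (2,0), (4,16), (8,0), (16,0), (48,0), (64,16), (128,0)], 33, 4),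
    ([(5,50), (18,0), (4,0), (8,0), (16,0), (48,0), (64,16), (128,0)], 33, 5),
    ([(129,6), (2,0), (4,0), (8,16), (16,0), (48,0), (80,0), (128,0)], 34, 2),
    ([(1,158), (2,0), (4,0), (24,0), (16,0), (48,0), (80,0), (144,0)], 34, 3),
    ([(81,134), (2,0), (4,16), (24,0), (16,0), (48,0), (80,0), (128,0)], 34, 4),
    ([(1,182), (18,0), (4,0), (24,0), (16,0), (48,0), (80,0), (128,0)], 34, 5),
    ([(9,6), (2,0), (4,0), (8,0), (16,0), (48,0), (80,0), (128,16)], 35, 3),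
    ([(81,14), (2,0), (4,16), (8,0), (16,0), (48,0), (80,0), (144,0)], 35, 4),
    ([(1,62), (18,0), (4,0), (8,0), (16,0), (48,0), (80,0), (144,0)], 35, 5),
    ([(1,86), (2,0), (20,0), (8,0), (16,0), (48,0), (80,0), (128,0)], 36, 4),
    ([(65,38), (18,0), (4,16), (8,0), (16,0), (48,0), (80,0), (128,0)], 36, 5),
    ([(49,6), (2,16), (4,0), (8,0), (16,0), (48,0), (80,0), (128,0)], 37, 5),
    ([(145,10), (2,0), (4,0), (8,16), (16,0), (48,0), (64,0), (144,0)], 38, 3),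
    ([(193,2), (2,0), (4,16), (8,16), (16,0), (48,0), (64,0), (128,0)], 38, 4),
    ([(129,50), (18,0), (4,0), (8,16), (16,0), (48,0), (64,0), (128,0)], 38, 5),
    ([(25,130), (2,0), (4,0), (24,0), (16,0), (48,0), (64,0), (128,16)], 39, 3),
    ([(65,154), (2,0), (4,16), (24,0), (16,0), (48,0), (64,0), (144,0)], 39, 4),
    ([(17,170), (18,0), (4,0), (24,0), (16,0), (48,0), (64,0), (144,0)], 39, 5),
    ([(1,194), (2,0), (20,0), (24,0), (16,0), (48,0), (64,0), (128,0)], 40, 4),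
    ([(65,178), (18,0), (4,16), (24,0), (16,0), (48,0), (64,0), (128,0)], 40, 5),
    ([(49,130), (2,16), (4,0), (24,0), (16,0), (48,0), (64,0), (128,0)], 41, 5),
    ([(73,2), (2,0), (4,16), (8,0), (16,0), (48,0), (64,0), (128,16)], 42, 4),
    ([(9,50), (18,0), (4,0), (8,0), (16,0), (48,0), (64,0), (128,16)], 42, 5),
    ([(1,74), (2,0), (20,0), (8,0), (16,0), (48,0), (64,0), (144,0)], 43, 4),
    ([(65,58), (18,0), (4,16), (8,0), (16,0), (48,0), (64,0), (144,0)], 43, 5),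
    ([(49,10), (2,16), (4,0), (8,0), (16,0), (48,0), (64,0), (144,0)], 44, 5),
    ([(1,114), (18,0), (20,0), (8,0), (16,0), (48,0), (64,0), (128,0)], 45, 5),
    ([(113,2), (2,16), (4,16), (8,0), (16,0), (48,0), (64,0), (128,0)], 46, 5),
    ([(133,0), (2,0), (4,0), (8,16), (16,0), (32,0), (64,16), (128,0)], 48, 2),
    ([(5,152), (2,0), (4,0), (24,0), (16,0), (32,0), (64,16), (144,0)], 48, 3),
    ([(69,144), (2,0), (4,16), (24,0), (16,0), (32,0), (64,16), (128,0)], 48, 4),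
    ([(5,160), (18,0), (4,0), (24,0), (16,0), (32,0), (64,16), (128,0)], 48, 5),
    ([(13,0), (2,0), (4,0), (8,0), (16,0), (32,0), (64,16), (128,16)], 49, 3),
    ([(69,24), (2,0), (4,16), (8,0), (16,0), (32,0), (64,16), (144,0)], 49, 4),
    ([(5,40), (18,0), (4,0), (8,0), (16,0), (32,0), (64,16), (144,0)], 49, 5),
    ([(21,64), (2,0), (20,0), (8,0), (16,0), (32,0), (64,16), (128,0)], 50, 4),
    ([(69,48), (18,0), (4,16), (8,0), (16,0), (32,0), (64,16), (128,0)], 50, 5),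
    ([(37,0), (2,16), (4,0), (8,0), (16,0), (32,0), (64,16), (128,0)], 51, 5),
    ([(145,12), (2,0), (4,0), (8,16), (16,0), (32,0), (80,0), (144,0)], 52, 3),
    ([(209,4), (2,0), (4,16), (8,16), (16,0), (32,0), (80,0), (128,0)], 52, 4),
    ([(129,36), (18,0), (4,0), (8,16), (16,0), (32,0), (80,0), (128,0)], 52, 5),
    ([(25,132), (2,0), (4,0), (24,0), (16,0), (32,0), (80,0), (128,16)], 53, 3),
    ([(65,140), (2,0), (4,16), (24,0), (16,0), (32,0), (80,0), (144,0)], 53, 4),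
    ([(1,188), (18,0), (4,0), (24,0), (16,0), (32,0), (80,0), (144,0)], 53, 5),
    ([(1,212), (2,0), (20,0), (24,0), (16,0), (32,0), (80,0), (128,0)], 54, 4),
    ([(81,164), (18,0), (4,16), (24,0), (16,0), (32,0), (80,0), (128,0)], 54, 5),
    ([(33,132), (2,16), (4,0), (24,0), (16,0), (32,0), (80,0), (128,0)], 55, 5),
    ([(89,4), (2,0), (4,16), (8,0), (16,0), (32,0), (80,0), (128,16)], 56, 4),
    ([(9,36), (18,0), (4,0), (8,0), (16,0), (32,0), (80,0), (128,16)], 56, 5),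
    ([(1,92), (2,0), (20,0), (8,0), (16,0), (32,0), (80,0), (144,0)], 57, 4),
    ([(81,44), (18,0), (4,16), (8,0), (16,0), (32,0), (80,0), (144,0)], 57, 5),
    ([(33,12), (2,16), (4,0), (8,0), (16,0), (32,0), (80,0), (144,0)], 58, 5),
    ([(1,116), (18,0), (20,0), (8,0), (16,0), (32,0), (80,0), (128,0)], 59, 5),
    ([(113,4), (2,16), (4,16), (8,0), (16,0), (32,0), (80,0), (128,0)], 60, 5),
    ([(137,16), (2,0), (4,0), (8,16), (16,0), (32,0), (64,0), (128,16)], 62, 3),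
    ([(209,8), (2,0), (4,16), (8,16), (16,0), (32,0), (64,0), (144,0)], 62, 4),
    ([(145,40), (18,0), (4,0), (8,16), (16,0), (32,0), (64,0), (144,0)], 62, 5),
    ([(129,64), (2,0), (20,0), (8,16), (16,0), (32,0), (64,0), (128,0)], 63, 4),
    ([(193,32), (18,0), (4,16), (8,16), (16,0), (32,0), (64,0), (128,0)], 63, 5),
    ([(161,0), (2,16), (4,0), (8,16), (16,0), (32,0), (64,0), (128,0)], 64, 5),
    ([(89,128), (2,0), (4,16), (24,0), (16,0), (32,0), (64,0), (128,16)], 65, 4),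
    ([(25,160), (18,0), (4,0), (24,0), (16,0), (32,0), (64,0), (128,16)], 65, 5),
    ([(1,216), (2,0), (20,0), (24,0), (16,0), (32,0), (64,0), (144,0)], 66, 4),
    ([(65,184), (18,0), (4,16), (24,0), (16,0), (32,0), (64,0), (144,0)], 66, 5),
    ([(33,152), (2,16), (4,0), (24,0), (16,0), (32,0), (64,0), (144,0)], 67, 5),
    ([(1,224), (18,0), (20,0), (24,0), (16,0), (32,0), (64,0), (128,0)], 68, 5),
    ([(97,128), (2,16), (4,16), (24,0), (16,0), (32,0), (64,0), (128,0)], 69, 5),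
    ([(9,64), (2,0), (20,0), (8,0), (16,0), (32,0), (64,0), (128,16)], 71, 4),
    ([(73,32), (18,0), (4,16), (8,0), (16,0), (32,0), (64,0), (128,16)], 71, 5),
    ([(41,0), (2,16), (4,0), (8,0), (16,0), (32,0), (64,0), (128,16)], 72, 5),
    ([(1,104), (18,0), (20,0), (8,0), (16,0), (32,0), (64,0), (144,0)], 73, 5),
    ([(97,8), (2,16), (4,16), (8,0), (16,0), (32,0), (64,0), (144,0)], 74, 5),
    ([(33,64), (2,16), (20,0), (8,0), (16,0), (32,0), (64,0), (128,0)], 76, 5),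
    ([(7,128), (2,0), (4,0), (24,0), (16,0), (32,16), (64,16), (128,0)], 78, 2),
    ([(7,8), (2,0), (4,0), (8,0), (16,0), (32,16), (64,16), (144,0)], 78, 3),
    ([(71,16), (2,0), (4,16), (8,0), (16,0), (32,16), (64,16), (128,0)], 78, 4),
    ([(23,32), (18,0), (4,0), (8,0), (16,0), (32,16), (64,16), (128,0)], 78, 5),
    ([(131,4), (2,0), (4,0), (8,16), (16,0), (32,16), (80,0), (128,0)], 79, 2),
    ([(3,156), (2,0), (4,0), (24,0), (16,0), (32,16), (80,0), (144,0)], 79, 3),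
    ([(83,132), (2,0), (4,16), (24,0), (16,0), (32,16), (80,0), (128,0)], 79, 4),
    ([(19,164), (18,0), (4,0), (24,0), (16,0), (32,16), (80,0), (128,0)], 79, 5),
    ([(11,4), (2,0), (4,0), (8,0), (16,0), (32,16), (80,0), (128,16)], 80, 3),
    ([(83,12), (2,0), (4,16), (8,0), (16,0), (32,16), (80,0), (144,0)], 80, 4),
    ([(19,44), (18,0), (4,0), (8,0), (16,0), (32,16), (80,0), (144,0)], 80, 5),
    ([(3,84), (2,0), (20,0), (8,0), (16,0), (32,16), (80,0), (128,0)], 81, 4),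
    ([(67,52), (18,0), (4,16), (8,0), (16,0), (32,16), (80,0), (128,0)], 81, 5),
    ([(35,20), (2,16), (4,0), (8,0), (16,0), (32,16), (80,0), (128,0)], 82, 5),
    ([(147,8), (2,0), (4,0), (8,16), (16,0), (32,16), (64,0), (144,0)], 83, 3),
    ([(195,0), (2,0), (4,16), (8,16), (16,0), (32,16), (64,0), (128,0)], 83, 4),
    ([(147,32), (18,0), (4,0), (8,16), (16,0), (32,16), (64,0), (128,0)], 83, 5),
    ([(27,128), (2,0), (4,0), (24,0), (16,0), (32,16), (64,0), (128,16)], 84, 3),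
    ([(67,152), (2,0), (4,16), (24,0), (16,0), (32,16), (64,0), (144,0)], 84, 4),
    ([(3,168), (18,0), (4,0), (24,0), (16,0), (32,16), (64,0), (144,0)], 84, 5),
    ([(3,192), (2,0), (20,0), (24,0), (16,0), (32,16), (64,0), (128,0)], 85, 4),
    ([(83,160), (18,0), (4,16), (24,0), (16,0), (32,16), (64,0), (128,0)], 85, 5),
    ([(35,144), (2,16), (4,0), (24,0), (16,0), (32,16), (64,0), (128,0)], 86, 5),
    ([(75,0), (2,0), (4,16), (8,0), (16,0), (32,16), (64,0), (128,16)], 87, 4),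
    ([(27,32), (18,0), (4,0), (8,0), (16,0), (32,16), (64,0), (128,16)], 87, 5),
    ([(3,72), (2,0), (20,0), (8,0), (16,0), (32,16), (64,0), (144,0)], 88, 4),
    ([(83,40), (18,0), (4,16), (8,0), (16,0), (32,16), (64,0), (144,0)], 88, 5),
    ([(35,24), (2,16), (4,0), (8,0), (16,0), (32,16), (64,0), (144,0)], 89, 5),
    ([(19,96), (18,0), (20,0), (8,0), (16,0), (32,16), (64,0), (128,0)], 90, 5),
    ([(99,16), (2,16), (4,16), (8,0), (16,0), (32,16), (64,0), (128,0)], 91, 5),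
    ([(133,2), (2,0), (4,0), (8,16), (16,0), (48,0), (64,16), (128,0)], 93, 2),
    ([(5,154), (2,0), (4,0), (24,0), (16,0), (48,0), (64,16), (144,0)], 93, 3),
    ([(69,146), (2,0), (4,16), (24,0), (16,0), (48,0), (64,16), (128,0)], 93, 4),
    ([(5,178), (18,0), (4,0), (24,0), (16,0), (48,0), (64,16), (128,0)], 93, 5),
    ([(13,2), (2,0), (4,0), (8,0), (16,0), (48,0), (64,16), (128,16)], 94, 3),
    ([(69,26), (2,0), (4,16), (8,0), (16,0), (48,0), (64,16), (144,0)], 94, 4),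
    ([(5,58), (18,0), (4,0), (8,0), (16,0), (48,0), (64,16), (144,0)], 94, 5),
    ([(21,66), (2,0), (20,0), (8,0), (16,0), (48,0), (64,16), (128,0)], 95, 4),
    ([(85,34), (18,0), (4,16), (8,0), (16,0), (48,0), (64,16), (128,0)], 95, 5),
    ([(53,2), (2,16), (4,0), (8,0), (16,0), (48,0), (64,16), (128,0)], 96, 5),
    ([(145,14), (2,0), (4,0), (8,16), (16,0), (48,0), (80,0), (144,0)], 97, 3),
    ([(209,6), (2,0), (4,16), (8,16), (16,0), (48,0), (80,0), (128,0)], 97, 4),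
    ([(129,54), (18,0), (4,0), (8,16), (16,0), (48,0), (80,0), (128,0)], 97, 5),
    ([(25,134), (2,0), (4,0), (24,0), (16,0), (48,0), (80,0), (128,16)], 98, 3),
    ([(65,142), (2,0), (4,16), (24,0), (16,0), (48,0), (80,0), (144,0)], 98, 4),
    ([(17,174), (18,0), (4,0), (24,0), (16,0), (48,0), (80,0), (144,0)], 98, 5),
    ([(1,214), (2,0), (20,0), (24,0), (16,0), (48,0), (80,0), (128,0)], 99, 4),
    ([(65,166), (18,0), (4,16), (24,0), (16,0), (48,0), (80,0), (128,0)], 99, 5),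
    ([(49,134), (2,16), (4,0), (24,0), (16,0), (48,0), (80,0), (128,0)], 100, 5),
    ([(89,6), (2,0), (4,16), (8,0), (16,0), (48,0), (80,0), (128,16)], 101, 4),
    ([(9,54), (18,0), (4,0), (8,0), (16,0), (48,0), (80,0), (128,16)], 101, 5),
    ([(1,94), (2,0), (20,0), (8,0), (16,0), (48,0), (80,0), (144,0)], 102, 4),
    ([(65,46), (18,0), (4,16), (8,0), (16,0), (48,0), (80,0), (144,0)], 102, 5),
    ([(49,14), (2,16), (4,0), (8,0), (16,0), (48,0), (80,0), (144,0)], 103, 5),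
    ([(17,102), (18,0), (20,0), (8,0), (16,0), (48,0), (80,0), (128,0)], 104, 5),
    ([(97,22), (2,16), (4,16), (8,0), (16,0), (48,0), (80,0), (128,0)], 105, 5),
    ([(137,18), (2,0), (4,0), (8,16), (16,0), (48,0), (64,0), (128,16)], 107, 3),
    ([(209,10), (2,0), (4,16), (8,16), (16,0), (48,0), (64,0), (144,0)], 107, 4),
    ([(129,42), (18,0), (4,0), (8,16), (16,0), (48,0), (64,0), (144,0)], 107, 5),
    ([(129,66), (2,0), (20,0), (8,16), (16,0), (48,0), (64,0), (128,0)], 108, 4),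
    ([(193,50), (18,0), (4,16), (8,16), (16,0), (48,0), (64,0), (128,0)], 108, 5),
    ([(177,2), (2,16), (4,0), (8,16), (16,0), (48,0), (64,0), (128,0)], 109, 5),
    ([(89,130), (2,0), (4,16), (24,0), (16,0), (48,0), (64,0), (128,16)], 110, 4),
    ([(9,162), (18,0), (4,0), (24,0), (16,0), (48,0), (64,0), (128,16)], 110, 5),
    ([(1,218), (2,0), (20,0), (24,0), (16,0), (48,0), (64,0), (144,0)], 111, 4),
    ([(81,170), (18,0), (4,16), (24,0), (16,0), (48,0), (64,0), (144,0)], 111, 5),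
    ([(33,138), (2,16), (4,0), (24,0), (16,0), (48,0), (64,0), (144,0)], 112, 5),
    ([(1,242), (18,0), (20,0), (24,0), (16,0), (48,0), (64,0), (128,0)], 113, 5),
    ([(113,130), (2,16), (4,16), (24,0), (16,0), (48,0), (64,0), (128,0)], 114, 5),
    ([(9,66), (2,0), (20,0), (8,0), (16,0), (48,0), (64,0), (128,16)], 116, 4),
    ([(73,50), (18,0), (4,16), (8,0), (16,0), (48,0), (64,0), (128,16)], 116, 5),
    ([(57,2), (2,16), (4,0), (8,0), (16,0), (48,0), (64,0), (128,16)], 117, 5),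
    ([(1,122), (18,0), (20,0), (8,0), (16,0), (48,0), (64,0), (144,0)], 118, 5),
    ([(113,10), (2,16), (4,16), (8,0), (16,0), (48,0), (64,0), (144,0)], 119, 5),
    ([(49,66), (2,16), (20,0), (8,0), (16,0), (48,0), (64,0), (128,0)], 121, 5),
    ([(149,8), (2,0), (4,0), (8,16), (16,0), (32,0), (64,16), (144,0)], 123, 3),
    ([(197,16), (2,0), (4,16), (8,16), (16,0), (32,0), (64,16), (128,0)], 123, 4),
    ([(133,32), (18,0), (4,0), (8,16), (16,0), (32,0), (64,16), (128,0)], 123, 5),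
    ([(29,128), (2,0), (4,0), (24,0), (16,0), (32,0), (64,16), (128,16)], 124, 3),
    ([(85,136), (2,0), (4,16), (24,0), (16,0), (32,0), (64,16), (144,0)], 124, 4),
    ([(5,184), (18,0), (4,0), (24,0), (16,0), (32,0), (64,16), (144,0)], 124, 5),
    ([(21,192), (2,0), (20,0), (24,0), (16,0), (32,0), (64,16), (128,0)], 125, 4),
    ([(69,176), (18,0), (4,16), (24,0), (16,0), (32,0), (64,16), (128,0)], 125, 5),
    ([(37,128), (2,16), (4,0), (24,0), (16,0), (32,0), (64,16), (128,0)], 126, 5),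
    ([(77,16), (2,0), (4,16), (8,0), (16,0), (32,0), (64,16), (128,16)], 127, 4),
    ([(13,32), (18,0), (4,0), (8,0), (16,0), (32,0), (64,16), (128,16)], 127, 5),
    ([(21,72), (2,0), (20,0), (8,0), (16,0), (32,0), (64,16), (144,0)], 128, 4),
    ([(69,56), (18,0), (4,16), (8,0), (16,0), (32,0), (64,16), (144,0)], 128, 5),
    ([(37,8), (2,16), (4,0), (8,0), (16,0), (32,0), (64,16), (144,0)], 129, 5),
    ([(21,96), (18,0), (20,0), (8,0), (16,0), (32,0), (64,16), (128,0)], 130, 5),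
    ([(101,16), (2,16), (4,16), (8,0), (16,0), (32,0), (64,16), (128,0)], 131, 5),
    ([(137,20), (2,0), (4,0), (8,16), (16,0), (32,0), (80,0), (128,16)], 133, 3),
    ([(193,28), (2,0), (4,16), (8,16), (16,0), (32,0), (80,0), (144,0)], 133, 4),
    ([(145,44), (18,0), (4,0), (8,16), (16,0), (32,0), (80,0), (144,0)], 133, 5),
    ([(129,84), (2,0), (20,0), (8,16), (16,0), (32,0), (80,0), (128,0)], 134, 4),
    ([(209,36), (18,0), (4,16), (8,16), (16,0), (32,0), (80,0), (128,0)], 134, 5),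
    ([(161,4), (2,16), (4,0), (8,16), (16,0), (32,0), (80,0), (128,0)], 135, 5),
    ([(73,148), (2,0), (4,16), (24,0), (16,0), (32,0), (80,0), (128,16)], 136, 4),
    ([(25,164), (18,0), (4,0), (24,0), (16,0), (32,0), (80,0), (128,16)], 136, 5),
    ([(17,204), (2,0), (20,0), (24,0), (16,0), (32,0), (80,0), (144,0)], 137, 4),
    ([(65,172), (18,0), (4,16), (24,0), (16,0), (32,0), (80,0), (144,0)], 137, 5),
    ([(33,156), (2,16), (4,0), (24,0), (16,0), (32,0), (80,0), (144,0)], 138, 5),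
    ([(1,244), (18,0), (20,0), (24,0), (16,0), (32,0), (80,0), (128,0)], 139, 5),
    ([(113,132), (2,16), (4,16), (24,0), (16,0), (32,0), (80,0), (128,0)], 140, 5),
    ([(9,84), (2,0), (20,0), (8,0), (16,0), (32,0), (80,0), (128,16)], 142, 4),
    ([(89,36), (18,0), (4,16), (8,0), (16,0), (32,0), (80,0), (128,16)], 142, 5),
    ([(41,4), (2,16), (4,0), (8,0), (16,0), (32,0), (80,0), (128,16)], 143, 5),
    ([(1,124), (18,0), (20,0), (8,0), (16,0), (32,0), (80,0), (144,0)], 144, 5),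
    ([(113,12), (2,16), (4,16), (8,0), (16,0), (32,0), (80,0), (144,0)], 145, 5),
    ([(33,84), (2,16), (20,0), (8,0), (16,0), (32,0), (80,0), (128,0)], 147, 5),
    ([(201,16), (2,0), (4,16), (8,16), (16,0), (32,0), (64,0), (128,16)], 149, 4),
    ([(137,48), (18,0), (4,0), (8,16), (16,0), (32,0), (64,0), (128,16)], 149, 5),
    ([(145,72), (2,0), (20,0), (8,16), (16,0), (32,0), (64,0), (144,0)], 150, 4),
    ([(209,40), (18,0), (4,16), (8,16), (16,0), (32,0), (64,0), (144,0)], 150, 5),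
    ([(177,8), (2,16), (4,0), (8,16), (16,0), (32,0), (64,0), (144,0)], 151, 5),
    ([(129,96), (18,0), (20,0), (8,16), (16,0), (32,0), (64,0), (128,0)], 152, 5),
    ([(225,0), (2,16), (4,16), (8,16), (16,0), (32,0), (64,0), (128,0)], 153, 5),
    ([(25,192), (2,0), (20,0), (24,0), (16,0), (32,0), (64,0), (128,16)], 155, 4),
    ([(89,160), (18,0), (4,16), (24,0), (16,0), (32,0), (64,0), (128,16)], 155, 5),
    ([(57,128), (2,16), (4,0), (24,0), (16,0), (32,0), (64,0), (128,16)], 156, 5),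
    ([(1,248), (18,0), (20,0), (24,0), (16,0), (32,0), (64,0), (144,0)], 157, 5),
    ([(97,152), (2,16), (4,16), (24,0), (16,0), (32,0), (64,0), (144,0)], 158, 5),
    ([(33,192), (2,16), (20,0), (24,0), (16,0), (32,0), (64,0), (128,0)], 160, 5),
    ([(9,96), (18,0), (20,0), (8,0), (16,0), (32,0), (64,0), (128,16)], 162, 5),
    ([(105,0), (2,16), (4,16), (8,0), (16,0), (32,0), (64,0), (128,16)], 163, 5),
    ([(33,72), (2,16), (20,0), (8,0), (16,0), (32,0), (64,0), (144,0)], 165, 5),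
    ([(135,0), (2,0), (4,0), (8,16), (16,0), (32,16), (64,16), (128,0)], 168, 2),
    ([(7,152), (2,0), (4,0), (24,0), (16,0), (32,16), (64,16), (144,0)], 168, 3),
    ([(71,144), (2,0), (4,16), (24,0), (16,0), (32,16), (64,16), (128,0)], 168, 4),
    ([(23,160), (18,0), (4,0), (24,0), (16,0), (32,16), (64,16), (128,0)], 168, 5),
    ([(15,0), (2,0), (4,0), (8,0), (16,0), (32,16), (64,16), (128,16)], 169, 3),
    ([(71,24), (2,0), (4,16), (8,0), (16,0), (32,16), (64,16), (144,0)], 169, 4),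
    ([(23,40), (18,0), (4,0), (8,0), (16,0), (32,16), (64,16), (144,0)], 169, 5),
    ([(23,64), (2,0), (20,0), (8,0), (16,0), (32,16), (64,16), (128,0)], 170, 4),
    ([(71,32), (18,0), (4,16), (8,0), (16,0), (32,16), (64,16), (128,0)], 170, 5),
    ([(39,16), (2,16), (4,0), (8,0), (16,0), (32,16), (64,16), (128,0)], 171, 5),
    ([(147,12), (2,0), (4,0), (8,16), (16,0), (32,16), (80,0), (144,0)], 172, 3),
    ([(211,4), (2,0), (4,16), (8,16), (16,0), (32,16), (80,0), (128,0)], 172, 4),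
    ([(147,36), (18,0), (4,0), (8,16), (16,0), (32,16), (80,0), (128,0)], 172, 5),
    ([(27,132), (2,0), (4,0), (24,0), (16,0), (32,16), (80,0), (128,16)], 173, 3),
    ([(67,140), (2,0), (4,16), (24,0), (16,0), (32,16), (80,0), (144,0)], 173, 4),
    ([(3,172), (18,0), (4,0), (24,0), (16,0), (32,16), (80,0), (144,0)], 173, 5),
    ([(3,212), (2,0), (20,0), (24,0), (16,0), (32,16), (80,0), (128,0)], 174, 4),
    ([(67,180), (18,0), (4,16), (24,0), (16,0), (32,16), (80,0), (128,0)], 174, 5),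
    ([(35,148), (2,16), (4,0), (24,0), (16,0), (32,16), (80,0), (128,0)], 175, 5),
    ([(91,4), (2,0), (4,16), (8,0), (16,0), (32,16), (80,0), (128,16)], 176, 4),
    ([(27,36), (18,0), (4,0), (8,0), (16,0), (32,16), (80,0), (128,16)], 176, 5),
    ([(3,92), (2,0), (20,0), (8,0), (16,0), (32,16), (80,0), (144,0)], 177, 4),
    ([(67,60), (18,0), (4,16), (8,0), (16,0), (32,16), (80,0), (144,0)], 177, 5),
    ([(35,28), (2,16), (4,0), (8,0), (16,0), (32,16), (80,0), (144,0)], 178, 5),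
    ([(3,100), (18,0), (20,0), (8,0), (16,0), (32,16), (80,0), (128,0)], 179, 5),
    ([(99,4), (2,16), (4,16), (8,0), (16,0), (32,16), (80,0), (128,0)], 180, 5),
    ([(139,16), (2,0), (4,0), (8,16), (16,0), (32,16), (64,0), (128,16)], 182, 3),
    ([(211,8), (2,0), (4,16), (8,16), (16,0), (32,16), (64,0), (144,0)], 182, 4),
    ([(131,56), (18,0), (4,0), (8,16), (16,0), (32,16), (64,0), (144,0)], 182, 5),
    ([(131,64), (2,0), (20,0), (8,16), (16,0), (32,16), (64,0), (128,0)], 183, 4),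
    ([(211,32), (18,0), (4,16), (8,16), (16,0), (32,16), (64,0), (128,0)], 183, 5),
    ([(163,16), (2,16), (4,0), (8,16), (16,0), (32,16), (64,0), (128,0)], 184, 5),
    ([(91,128), (2,0), (4,16), (24,0), (16,0), (32,16), (64,0), (128,16)], 185, 4),
    ([(11,176), (18,0), (4,0), (24,0), (16,0), (32,16), (64,0), (128,16)], 185, 5),
    ([(3,216), (2,0), (20,0), (24,0), (16,0), (32,16), (64,0), (144,0)], 186, 4),
    ([(67,168), (18,0), (4,16), (24,0), (16,0), (32,16), (64,0), (144,0)], 186, 5),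
    ([(51,136), (2,16), (4,0), (24,0), (16,0), (32,16), (64,0), (144,0)], 187, 5),
    ([(19,224), (18,0), (20,0), (24,0), (16,0), (32,16), (64,0), (128,0)], 188, 5),
    ([(99,144), (2,16), (4,16), (24,0), (16,0), (32,16), (64,0), (128,0)], 189, 5),
    ([(11,64), (2,0), (20,0), (8,0), (16,0), (32,16), (64,0), (128,16)], 191, 4),
    ([(91,32), (18,0), (4,16), (8,0), (16,0), (32,16), (64,0), (128,16)], 191, 5),
    ([(43,16), (2,16), (4,0), (8,0), (16,0), (32,16), (64,0), (128,16)], 192, 5),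
    ([(19,104), (18,0), (20,0), (8,0), (16,0), (32,16), (64,0), (144,0)], 193, 5),
    ([(99,24), (2,16), (4,16), (8,0), (16,0), (32,16), (64,0), (144,0)], 194, 5),
    ([(35,80), (2,16), (20,0), (8,0), (16,0), (32,16), (64,0), (128,0)], 196, 5),
    ([(149,10), (2,0), (4,0), (8,16), (16,0), (48,0), (64,16), (144,0)], 198, 3),
    ([(197,18), (2,0), (4,16), (8,16), (16,0), (48,0), (64,16), (128,0)], 198, 4),
    ([(133,50), (18,0), (4,0), (8,16), (16,0), (48,0), (64,16), (128,0)], 198, 5),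
    ([(29,130), (2,0), (4,0), (24,0), (16,0), (48,0), (64,16), (128,16)], 199, 3),
    ([(85,138), (2,0), (4,16), (24,0), (16,0), (48,0), (64,16), (144,0)], 199, 4),
    ([(21,170), (18,0), (4,0), (24,0), (16,0), (48,0), (64,16), (144,0)], 199, 5),
    ([(21,194), (2,0), (20,0), (24,0), (16,0), (48,0), (64,16), (128,0)], 200, 4),
    ([(85,162), (18,0), (4,16), (24,0), (16,0), (48,0), (64,16), (128,0)], 200, 5),
    ([(53,130), (2,16), (4,0), (24,0), (16,0), (48,0), (64,16), (128,0)], 201, 5),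
    ([(77,18), (2,0), (4,16), (8,0), (16,0), (48,0), (64,16), (128,16)], 202, 4),
    ([(13,50), (18,0), (4,0), (8,0), (16,0), (48,0), (64,16), (128,16)], 202, 5),
    ([(21,74), (2,0), (20,0), (8,0), (16,0), (48,0), (64,16), (144,0)], 203, 4),
    ([(85,42), (18,0), (4,16), (8,0), (16,0), (48,0), (64,16), (144,0)], 203, 5),
    ([(53,10), (2,16), (4,0), (8,0), (16,0), (48,0), (64,16), (144,0)], 204, 5),
    ([(5,98), (18,0), (20,0), (8,0), (16,0), (48,0), (64,16), (128,0)], 205, 5),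
    ([(101,2), (2,16), (4,16), (8,0), (16,0), (48,0), (64,16), (128,0)], 206, 5),
    ([(137,22), (2,0), (4,0), (8,16), (16,0), (48,0), (80,0), (128,16)], 208, 3),
    ([(193,30), (2,0), (4,16), (8,16), (16,0), (48,0), (80,0), (144,0)], 208, 4),
    ([(129,46), (18,0), (4,0), (8,16), (16,0), (48,0), (80,0), (144,0)], 208, 5),
    ([(129,86), (2,0), (20,0), (8,16), (16,0), (48,0), (80,0), (128,0)], 209, 4),
    ([(193,38), (18,0), (4,16), (8,16), (16,0), (48,0), (80,0), (128,0)], 209, 5),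
    ([(177,6), (2,16), (4,0), (8,16), (16,0), (48,0), (80,0), (128,0)], 210, 5),
    ([(73,150), (2,0), (4,16), (24,0), (16,0), (48,0), (80,0), (128,16)], 211, 4),
    ([(9,166), (18,0), (4,0), (24,0), (16,0), (48,0), (80,0), (128,16)], 211, 5),
    ([(17,206), (2,0), (20,0), (24,0), (16,0), (48,0), (80,0), (144,0)], 212, 4),
    ([(65,190), (18,0), (4,16), (24,0), (16,0), (48,0), (80,0), (144,0)], 212, 5),
    ([(33,142), (2,16), (4,0), (24,0), (16,0), (48,0), (80,0), (144,0)], 213, 5),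
    ([(17,230), (18,0), (20,0), (24,0), (16,0), (48,0), (80,0), (128,0)], 214, 5),
    ([(97,150), (2,16), (4,16), (24,0), (16,0), (48,0), (80,0), (128,0)], 215, 5),
    ([(9,86), (2,0), (20,0), (8,0), (16,0), (48,0), (80,0), (128,16)], 217, 4),
    ([(73,38), (18,0), (4,16), (8,0), (16,0), (48,0), (80,0), (128,16)], 217, 5),
    ([(57,6), (2,16), (4,0), (8,0), (16,0), (48,0), (80,0), (128,16)], 218, 5),
    ([(17,110), (18,0), (20,0), (8,0), (16,0), (48,0), (80,0), (144,0)], 219, 5),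
    ([(97,30), (2,16), (4,16), (8,0), (16,0), (48,0), (80,0), (144,0)], 220, 5),
    ([(33,70), (2,16), (20,0), (8,0), (16,0), (48,0), (80,0), (128,0)], 222, 5),
    ([(201,18), (2,0), (4,16), (8,16), (16,0), (48,0), (64,0), (128,16)], 224, 4),
    ([(153,34), (18,0), (4,0), (8,16), (16,0), (48,0), (64,0), (128,16)], 224, 5),
    ([(145,74), (2,0), (20,0), (8,16), (16,0), (48,0), (64,0), (144,0)], 225, 4),
    ([(193,42), (18,0), (4,16), (8,16), (16,0), (48,0), (64,0), (144,0)], 225, 5),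
    ([(161,26), (2,16), (4,0), (8,16), (16,0), (48,0), (64,0), (144,0)], 226, 5),
    ([(129,114), (18,0), (20,0), (8,16), (16,0), (48,0), (64,0), (128,0)], 227, 5),
    ([(241,2), (2,16), (4,16), (8,16), (16,0), (48,0), (64,0), (128,0)], 228, 5),
    ([(25,194), (2,0), (20,0), (24,0), (16,0), (48,0), (64,0), (128,16)], 230, 4),
    ([(73,162), (18,0), (4,16), (24,0), (16,0), (48,0), (64,0), (128,16)], 230, 5),
    ([(41,146), (2,16), (4,0), (24,0), (16,0), (48,0), (64,0), (128,16)], 231, 5),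
    ([(17,234), (18,0), (20,0), (24,0), (16,0), (48,0), (64,0), (144,0)], 232, 5),
    ([(97,138), (2,16), (4,16), (24,0), (16,0), (48,0), (64,0), (144,0)], 233, 5),
    ([(49,194), (2,16), (20,0), (24,0), (16,0), (48,0), (64,0), (128,0)], 235, 5),
    ([(9,114), (18,0), (20,0), (8,0), (16,0), (48,0), (64,0), (128,16)], 237, 5),
    ([(121,2), (2,16), (4,16), (8,0), (16,0), (48,0), (64,0), (128,16)], 238, 5),
    ([(49,74), (2,16), (20,0), (8,0), (16,0), (48,0), (64,0), (144,0)], 240, 5),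
    ([(141,16), (2,0), (4,0), (8,16), (16,0), (32,0), (64,16), (128,16)], 243, 3),
    ([(197,8), (2,0), (4,16), (8,16), (16,0), (32,0), (64,16), (144,0)], 243, 4),
    ([(149,40), (18,0), (4,0), (8,16), (16,0), (32,0), (64,16), (144,0)], 243, 5),
    ([(149,64), (2,0), (20,0), (8,16), (16,0), (32,0), (64,16), (128,0)], 244, 4),
    ([(197,48), (18,0), (4,16), (8,16), (16,0), (32,0), (64,16), (128,0)], 244, 5),
    ([(165,0), (2,16), (4,0), (8,16), (16,0), (32,0), (64,16), (128,0)], 245, 5),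
    ([(77,128), (2,0), (4,16), (24,0), (16,0), (32,0), (64,16), (128,16)], 246, 4),
    ([(29,160), (18,0), (4,0), (24,0), (16,0), (32,0), (64,16), (128,16)], 246, 5),
    ([(5,200), (2,0), (20,0), (24,0), (16,0), (32,0), (64,16), (144,0)], 247, 4),
    ([(85,168), (18,0), (4,16), (24,0), (16,0), (32,0), (64,16), (144,0)], 247, 5),
    ([(37,152), (2,16), (4,0), (24,0), (16,0), (32,0), (64,16), (144,0)], 248, 5),
    ([(21,224), (18,0), (20,0), (24,0), (16,0), (32,0), (64,16), (128,0)], 249, 5),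
    ([(101,144), (2,16), (4,16), (24,0), (16,0), (32,0), (64,16), (128,0)], 250, 5),
    ([(29,64), (2,0), (20,0), (8,0), (16,0), (32,0), (64,16), (128,16)], 252, 4),
    ([(77,48), (18,0), (4,16), (8,0), (16,0), (32,0), (64,16), (128,16)], 252, 5),
    ([(45,0), (2,16), (4,0), (8,0), (16,0), (32,0), (64,16), (128,16)], 253, 5),
    ([(21,104), (18,0), (20,0), (8,0), (16,0), (32,0), (64,16), (144,0)], 254, 5),
    ([(101,24), (2,16), (4,16), (8,0), (16,0), (32,0), (64,16), (144,0)], 255, 5),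
    ([(53,64), (2,16), (20,0), (8,0), (16,0), (32,0), (64,16), (128,0)], 257, 5),
    ([(201,4), (2,0), (4,16), (8,16), (16,0), (32,0), (80,0), (128,16)], 259, 4),
    ([(137,52), (18,0), (4,0), (8,16), (16,0), (32,0), (80,0), (128,16)], 259, 5),
    ([(129,76), (2,0), (20,0), (8,16), (16,0), (32,0), (80,0), (144,0)], 260, 4),
    ([(193,60), (18,0), (4,16), (8,16), (16,0), (32,0), (80,0), (144,0)], 260, 5),
    ([(177,12), (2,16), (4,0), (8,16), (16,0), (32,0), (80,0), (144,0)], 261, 5),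
    ([(129,116), (18,0), (20,0), (8,16), (16,0), (32,0), (80,0), (128,0)], 262, 5),
    ([(241,4), (2,16), (4,16), (8,16), (16,0), (32,0), (80,0), (128,0)], 263, 5),
    ([(9,196), (2,0), (20,0), (24,0), (16,0), (32,0), (80,0), (128,16)], 265, 4),
    ([(73,180), (18,0), (4,16), (24,0), (16,0), (32,0), (80,0), (128,16)], 265, 5),
    ([(57,132), (2,16), (4,0), (24,0), (16,0), (32,0), (80,0), (128,16)], 266, 5),
    ([(17,236), (18,0), (20,0), (24,0), (16,0), (32,0), (80,0), (144,0)], 267, 5),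
    ([(97,140), (2,16), (4,16), (24,0), (16,0), (32,0), (80,0), (144,0)], 268, 5),
    ([(33,212), (2,16), (20,0), (24,0), (16,0), (32,0), (80,0), (128,0)], 270, 5),
    ([(9,116), (18,0), (20,0), (8,0), (16,0), (32,0), (80,0), (128,16)], 272, 5),
    ([(121,4), (2,16), (4,16), (8,0), (16,0), (32,0), (80,0), (128,16)], 273, 5),
    ([(33,92), (2,16), (20,0), (8,0), (16,0), (32,0), (80,0), (144,0)], 275, 5),
    ([(137,80), (2,0), (20,0), (8,16), (16,0), (32,0), (64,0), (128,16)], 278, 4),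
    ([(201,48), (18,0), (4,16), (8,16), (16,0), (32,0), (64,0), (128,16)], 278, 5),
    ([(169,16), (2,16), (4,0), (8,16), (16,0), (32,0), (64,0), (128,16)], 279, 5),
    ([(145,104), (18,0), (20,0), (8,16), (16,0), (32,0), (64,0), (144,0)], 280, 5),
    ([(241,8), (2,16), (4,16), (8,16), (16,0), (32,0), (64,0), (144,0)], 281, 5),
    ([(161,64), (2,16), (20,0), (8,16), (16,0), (32,0), (64,0), (128,0)], 283, 5),
    ([(25,224), (18,0), (20,0), (24,0), (16,0), (32,0), (64,0), (128,16)], 285, 5),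
    ([(121,128), (2,16), (4,16), (24,0), (16,0), (32,0), (64,0), (128,16)], 286, 5),
    ([(33,216), (2,16), (20,0), (24,0), (16,0), (32,0), (64,0), (144,0)], 288, 5),
    ([(41,64), (2,16), (20,0), (8,0), (16,0), (32,0), (64,0), (128,16)], 291, 5),
    ([(151,8), (2,0), (4,0), (8,16), (16,0), (32,16), (64,16), (144,0)], 294, 3),
    ([(199,16), (2,0), (4,16), (8,16), (16,0), (32,16), (64,16), (128,0)], 294, 4),
    ([(151,32), (18,0), (4,0), (8,16), (16,0), (32,16), (64,16), (128,0)], 294, 5),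
    ([(31,128), (2,0), (4,0), (24,0), (16,0), (32,16), (64,16), (128,16)], 295, 3),
    ([(87,136), (2,0), (4,16), (24,0), (16,0), (32,16), (64,16), (144,0)], 295, 4),
    ([(7,168), (18,0), (4,0), (24,0), (16,0), (32,16), (64,16), (144,0)], 295, 5),
    ([(23,192), (2,0), (20,0), (24,0), (16,0), (32,16), (64,16), (128,0)], 296, 4),
    ([(71,160), (18,0), (4,16), (24,0), (16,0), (32,16), (64,16), (128,0)], 296, 5),
    ([(39,144), (2,16), (4,0), (24,0), (16,0), (32,16), (64,16), (128,0)], 297, 5),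
    ([(79,16), (2,0), (4,16), (8,0), (16,0), (32,16), (64,16), (128,16)], 298, 4),
    ([(31,32), (18,0), (4,0), (8,0), (16,0), (32,16), (64,16), (128,16)], 298, 5),
    ([(23,72), (2,0), (20,0), (8,0), (16,0), (32,16), (64,16), (144,0)], 299, 4),
    ([(71,40), (18,0), (4,16), (8,0), (16,0), (32,16), (64,16), (144,0)], 299, 5),
    ([(39,24), (2,16), (4,0), (8,0), (16,0), (32,16), (64,16), (144,0)], 300, 5),
    ([(7,112), (18,0), (20,0), (8,0), (16,0), (32,16), (64,16), (128,0)], 301, 5),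
    ([(119,0), (2,16), (4,16), (8,0), (16,0), (32,16), (64,16), (128,0)], 302, 5),
    ([(139,20), (2,0), (4,0), (8,16), (16,0), (32,16), (80,0), (128,16)], 304, 3),
    ([(195,28), (2,0), (4,16), (8,16), (16,0), (32,16), (80,0), (144,0)], 304, 4),
    ([(131,60), (18,0), (4,0), (8,16), (16,0), (32,16), (80,0), (144,0)], 304, 5),
    ([(131,84), (2,0), (20,0), (8,16), (16,0), (32,16), (80,0), (128,0)], 305, 4),
    ([(195,52), (18,0), (4,16), (8,16), (16,0), (32,16), (80,0), (128,0)], 305, 5),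
    ([(163,20), (2,16), (4,0), (8,16), (16,0), (32,16), (80,0), (128,0)], 306, 5),
    ([(75,148), (2,0), (4,16), (24,0), (16,0), (32,16), (80,0), (128,16)], 307, 4),
    ([(11,180), (18,0), (4,0), (24,0), (16,0), (32,16), (80,0), (128,16)], 307, 5),
    ([(19,204), (2,0), (20,0), (24,0), (16,0), (32,16), (80,0), (144,0)], 308, 4),
    ([(83,172), (18,0), (4,16), (24,0), (16,0), (32,16), (80,0), (144,0)], 308, 5),
    ([(51,140), (2,16), (4,0), (24,0), (16,0), (32,16), (80,0), (144,0)], 309, 5),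
    ([(3,228), (18,0), (20,0), (24,0), (16,0), (32,16), (80,0), (128,0)], 310, 5),
    ([(99,132), (2,16), (4,16), (24,0), (16,0), (32,16), (80,0), (128,0)], 311, 5),
    ([(11,84), (2,0), (20,0), (8,0), (16,0), (32,16), (80,0), (128,16)], 313, 4),
    ([(75,52), (18,0), (4,16), (8,0), (16,0), (32,16), (80,0), (128,16)], 313, 5),
    ([(43,20), (2,16), (4,0), (8,0), (16,0), (32,16), (80,0), (128,16)], 314, 5),
    ([(3,108), (18,0), (20,0), (8,0), (16,0), (32,16), (80,0), (144,0)], 315, 5),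
    ([(99,12), (2,16), (4,16), (8,0), (16,0), (32,16), (80,0), (144,0)], 316, 5),
    ([(51,68), (2,16), (20,0), (8,0), (16,0), (32,16), (80,0), (128,0)], 318, 5),
    ([(203,16), (2,0), (4,16), (8,16), (16,0), (32,16), (64,0), (128,16)], 320, 4),
    ([(139,32), (18,0), (4,0), (8,16), (16,0), (32,16), (64,0), (128,16)], 320, 5),
    ([(147,72), (2,0), (20,0), (8,16), (16,0), (32,16), (64,0), (144,0)], 321, 4),
    ([(195,56), (18,0), (4,16), (8,16), (16,0), (32,16), (64,0), (144,0)], 321, 5),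
    ([(163,8), (2,16), (4,0), (8,16), (16,0), (32,16), (64,0), (144,0)], 322, 5),
    ([(147,96), (18,0), (20,0), (8,16), (16,0), (32,16), (64,0), (128,0)], 323, 5),
    ([(227,16), (2,16), (4,16), (8,16), (16,0), (32,16), (64,0), (128,0)], 324, 5),
    ([(27,192), (2,0), (20,0), (24,0), (16,0), (32,16), (64,0), (128,16)], 326, 4),
    ([(75,176), (18,0), (4,16), (24,0), (16,0), (32,16), (64,0), (128,16)], 326, 5),
    ([(43,128), (2,16), (4,0), (24,0), (16,0), (32,16), (64,0), (128,16)], 327, 5),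
    ([(3,232), (18,0), (20,0), (24,0), (16,0), (32,16), (64,0), (144,0)], 328, 5),
    ([(115,136), (2,16), (4,16), (24,0), (16,0), (32,16), (64,0), (144,0)], 329, 5),
    ([(35,208), (2,16), (20,0), (24,0), (16,0), (32,16), (64,0), (128,0)], 331, 5),
    ([(27,96), (18,0), (20,0), (8,0), (16,0), (32,16), (64,0), (128,16)], 333, 5),
    ([(107,16), (2,16), (4,16), (8,0), (16,0), (32,16), (64,0), (128,16)], 334, 5),
    ([(35,88), (2,16), (20,0), (8,0), (16,0), (32,16), (64,0), (144,0)], 336, 5),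
    ([(141,18), (2,0), (4,0), (8,16), (16,0), (48,0), (64,16), (128,16)], 339, 3),
    ([(197,10), (2,0), (4,16), (8,16), (16,0), (48,0), (64,16), (144,0)], 339, 4),
    ([(133,42), (18,0), (4,0), (8,16), (16,0), (48,0), (64,16), (144,0)], 339, 5),
    ([(149,66), (2,0), (20,0), (8,16), (16,0), (48,0), (64,16), (128,0)], 340, 4),
    ([(213,34), (18,0), (4,16), (8,16), (16,0), (48,0), (64,16), (128,0)], 340, 5),
    ([(181,2), (2,16), (4,0), (8,16), (16,0), (48,0), (64,16), (128,0)], 341, 5),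
    ([(77,130), (2,0), (4,16), (24,0), (16,0), (48,0), (64,16), (128,16)], 342, 4),
    ([(13,162), (18,0), (4,0), (24,0), (16,0), (48,0), (64,16), (128,16)], 342, 5),
    ([(5,202), (2,0), (20,0), (24,0), (16,0), (48,0), (64,16), (144,0)], 343, 4),
    ([(69,170), (18,0), (4,16), (24,0), (16,0), (48,0), (64,16), (144,0)], 343, 5),
    ([(37,138), (2,16), (4,0), (24,0), (16,0), (48,0), (64,16), (144,0)], 344, 5),
    ([(5,226), (18,0), (20,0), (24,0), (16,0), (48,0), (64,16), (128,0)], 345, 5),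
    ([(101,130), (2,16), (4,16), (24,0), (16,0), (48,0), (64,16), (128,0)], 346, 5),
    ([(29,66), (2,0), (20,0), (8,0), (16,0), (48,0), (64,16), (128,16)], 348, 4),
    ([(93,34), (18,0), (4,16), (8,0), (16,0), (48,0), (64,16), (128,16)], 348, 5),
    ([(61,2), (2,16), (4,0), (8,0), (16,0), (48,0), (64,16), (128,16)], 349, 5),
    ([(5,106), (18,0), (20,0), (8,0), (16,0), (48,0), (64,16), (144,0)], 350, 5),
    ([(101,10), (2,16), (4,16), (8,0), (16,0), (48,0), (64,16), (144,0)], 351, 5),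
    ([(37,82), (2,16), (20,0), (8,0), (16,0), (48,0), (64,16), (128,0)], 353, 5),
    ([(201,6), (2,0), (4,16), (8,16), (16,0), (48,0), (80,0), (128,16)], 355, 4),
    ([(153,38), (18,0), (4,0), (8,16), (16,0), (48,0), (80,0), (128,16)], 355, 5),
    ([(129,78), (2,0), (20,0), (8,16), (16,0), (48,0), (80,0), (144,0)], 356, 4),
    ([(209,46), (18,0), (4,16), (8,16), (16,0), (48,0), (80,0), (144,0)], 356, 5),
    ([(161,30), (2,16), (4,0), (8,16), (16,0), (48,0), (80,0), (144,0)], 357, 5),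
    ([(145,102), (18,0), (20,0), (8,16), (16,0), (48,0), (80,0), (128,0)], 358, 5),
    ([(225,22), (2,16), (4,16), (8,16), (16,0), (48,0), (80,0), (128,0)], 359, 5),
    ([(9,198), (2,0), (20,0), (24,0), (16,0), (48,0), (80,0), (128,16)], 361, 4),
    ([(89,166), (18,0), (4,16), (24,0), (16,0), (48,0), (80,0), (128,16)], 361, 5),
    ([(41,150), (2,16), (4,0), (24,0), (16,0), (48,0), (80,0), (128,16)], 362, 5),
    ([(1,238), (18,0), (20,0), (24,0), (16,0), (48,0), (80,0), (144,0)], 363, 5),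
    ([(113,142), (2,16), (4,16), (24,0), (16,0), (48,0), (80,0), (144,0)], 364, 5),
    ([(33,198), (2,16), (20,0), (24,0), (16,0), (48,0), (80,0), (128,0)], 366, 5),
    ([(25,102), (18,0), (20,0), (8,0), (16,0), (48,0), (80,0), (128,16)], 368, 5),
    ([(105,22), (2,16), (4,16), (8,0), (16,0), (48,0), (80,0), (128,16)], 369, 5),
    ([(33,78), (2,16), (20,0), (8,0), (16,0), (48,0), (80,0), (144,0)], 371, 5),
    ([(137,82), (2,0), (20,0), (8,16), (16,0), (48,0), (64,0), (128,16)], 374, 4),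
    ([(217,34), (18,0), (4,16), (8,16), (16,0), (48,0), (64,0), (128,16)], 374, 5),
    ([(169,2), (2,16), (4,0), (8,16), (16,0), (48,0), (64,0), (128,16)], 375, 5),
    ([(129,106), (18,0), (20,0), (8,16), (16,0), (48,0), (64,0), (144,0)], 376, 5),
    ([(225,26), (2,16), (4,16), (8,16), (16,0), (48,0), (64,0), (144,0)], 377, 5),
    ([(177,66), (2,16), (20,0), (8,16), (16,0), (48,0), (64,0), (128,0)], 379, 5),
    ([(9,226), (18,0), (20,0), (24,0), (16,0), (48,0), (64,0), (128,16)], 381, 5),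
    ([(105,146), (2,16), (4,16), (24,0), (16,0), (48,0), (64,0), (128,16)], 382, 5),
    ([(33,202), (2,16), (20,0), (24,0), (16,0), (48,0), (64,0), (144,0)], 384, 5),
    ([(57,66), (2,16), (20,0), (8,0), (16,0), (48,0), (64,0), (128,16)], 387, 5),
    ([(221,0), (2,0), (4,16), (8,16), (16,0), (32,0), (64,16), (128,16)], 390, 4),
    ([(141,48), (18,0), (4,0), (8,16), (16,0), (32,0), (64,16), (128,16)], 390, 5),
    ([(133,88), (2,0), (20,0), (8,16), (16,0), (32,0), (64,16), (144,0)], 391, 4),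
    ([(197,40), (18,0), (4,16), (8,16), (16,0), (32,0), (64,16), (144,0)], 391, 5),
    ([(181,8), (2,16), (4,0), (8,16), (16,0), (32,0), (64,16), (144,0)], 392, 5),
    ([(149,96), (18,0), (20,0), (8,16), (16,0), (32,0), (64,16), (128,0)], 393, 5),
    ([(229,16), (2,16), (4,16), (8,16), (16,0), (32,0), (64,16), (128,0)], 394, 5),
    ([(13,208), (2,0), (20,0), (24,0), (16,0), (32,0), (64,16), (128,16)], 396, 4),
    ([(77,160), (18,0), (4,16), (24,0), (16,0), (32,0), (64,16), (128,16)], 396, 5),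
    ([(61,128), (2,16), (4,0), (24,0), (16,0), (32,0), (64,16), (128,16)], 397, 5),
    ([(5,232), (18,0), (20,0), (24,0), (16,0), (32,0), (64,16), (144,0)], 398, 5),
    ([(117,136), (2,16), (4,16), (24,0), (16,0), (32,0), (64,16), (144,0)], 399, 5),
    ([(53,192), (2,16), (20,0), (24,0), (16,0), (32,0), (64,16), (128,0)], 401, 5),
    ([(29,96), (18,0), (20,0), (8,0), (16,0), (32,0), (64,16), (128,16)], 403, 5),
    ([(109,16), (2,16), (4,16), (8,0), (16,0), (32,0), (64,16), (128,16)], 404, 5),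
    ([(53,72), (2,16), (20,0), (8,0), (16,0), (32,0), (64,16), (144,0)], 406, 5),
    ([(153,68), (2,0), (20,0), (8,16), (16,0), (32,0), (80,0), (128,16)], 409, 4),
    ([(201,36), (18,0), (4,16), (8,16), (16,0), (32,0), (80,0), (128,16)], 409, 5),
    ([(169,20), (2,16), (4,0), (8,16), (16,0), (32,0), (80,0), (128,16)], 410, 5),
    ([(129,108), (18,0), (20,0), (8,16), (16,0), (32,0), (80,0), (144,0)], 411, 5),
    ([(225,28), (2,16), (4,16), (8,16), (16,0), (32,0), (80,0), (144,0)], 412, 5),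
    ([(161,84), (2,16), (20,0), (8,16), (16,0), (32,0), (80,0), (128,0)], 414, 5),
    ([(9,228), (18,0), (20,0), (24,0), (16,0), (32,0), (80,0), (128,16)], 416, 5),
    ([(105,148), (2,16), (4,16), (24,0), (16,0), (32,0), (80,0), (128,16)], 417, 5),
    ([(49,204), (2,16), (20,0), (24,0), (16,0), (32,0), (80,0), (144,0)], 419, 5),
    ([(41,84), (2,16), (20,0), (8,0), (16,0), (32,0), (80,0), (128,16)], 422, 5),
    ([(137,112), (18,0), (20,0), (8,16), (16,0), (32,0), (64,0), (128,16)], 425, 5),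
    ([(233,16), (2,16), (4,16), (8,16), (16,0), (32,0), (64,0), (128,16)], 426, 5),
    ([(177,72), (2,16), (20,0), (8,16), (16,0), (32,0), (64,0), (144,0)], 428, 5),
    ([(57,192), (2,16), (20,0), (24,0), (16,0), (32,0), (64,0), (128,16)], 431, 5),
    ([(143,16), (2,0), (4,0), (8,16), (16,0), (32,16), (64,16), (128,16)], 435, 3),
    ([(199,8), (2,0), (4,16), (8,16), (16,0), (32,16), (64,16), (144,0)], 435, 4),
    ([(135,56), (18,0), (4,0), (8,16), (16,0), (32,16), (64,16), (144,0)], 435, 5),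
    ([(151,64), (2,0), (20,0), (8,16), (16,0), (32,16), (64,16), (128,0)], 436, 4),
    ([(199,32), (18,0), (4,16), (8,16), (16,0), (32,16), (64,16), (128,0)], 436, 5),
    ([(167,16), (2,16), (4,0), (8,16), (16,0), (32,16), (64,16), (128,0)], 437, 5),
    ([(79,128), (2,0), (4,16), (24,0), (16,0), (32,16), (64,16), (128,16)], 438, 4),
    ([(15,176), (18,0), (4,0), (24,0), (16,0), (32,16), (64,16), (128,16)], 438, 5),
    ([(7,200), (2,0), (20,0), (24,0), (16,0), (32,16), (64,16), (144,0)], 439, 4),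
    ([(71,184), (18,0), (4,16), (24,0), (16,0), (32,16), (64,16), (144,0)], 439, 5),
    ([(55,136), (2,16), (4,0), (24,0), (16,0), (32,16), (64,16), (144,0)], 440, 5),
    ([(7,240), (18,0), (20,0), (24,0), (16,0), (32,16), (64,16), (128,0)], 441, 5),
    ([(119,128), (2,16), (4,16), (24,0), (16,0), (32,16), (64,16), (128,0)], 442, 5),
    ([(31,64), (2,0), (20,0), (8,0), (16,0), (32,16), (64,16), (128,16)], 444, 4),
    ([(79,32), (18,0), (4,16), (8,0), (16,0), (32,16), (64,16), (128,16)], 444, 5),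
    ([(47,16), (2,16), (4,0), (8,0), (16,0), (32,16), (64,16), (128,16)], 445, 5),
    ([(7,120), (18,0), (20,0), (8,0), (16,0), (32,16), (64,16), (144,0)], 446, 5),
    ([(119,8), (2,16), (4,16), (8,0), (16,0), (32,16), (64,16), (144,0)], 447, 5),
    ([(39,64), (2,16), (20,0), (8,0), (16,0), (32,16), (64,16), (128,0)], 449, 5),
    ([(203,4), (2,0), (4,16), (8,16), (16,0), (32,16), (80,0), (128,16)], 451, 4),
    ([(139,36), (18,0), (4,0), (8,16), (16,0), (32,16), (80,0), (128,16)], 451, 5),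
    ([(131,76), (2,0), (20,0), (8,16), (16,0), (32,16), (80,0), (144,0)], 452, 4),
    ([(195,44), (18,0), (4,16), (8,16), (16,0), (32,16), (80,0), (144,0)], 452, 5),
    ([(163,12), (2,16), (4,0), (8,16), (16,0), (32,16), (80,0), (144,0)], 453, 5),
    ([(131,100), (18,0), (20,0), (8,16), (16,0), (32,16), (80,0), (128,0)], 454, 5),
    ([(227,4), (2,16), (4,16), (8,16), (16,0), (32,16), (80,0), (128,0)], 455, 5),
    ([(11,196), (2,0), (20,0), (24,0), (16,0), (32,16), (80,0), (128,16)], 457, 4),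
    ([(75,164), (18,0), (4,16), (24,0), (16,0), (32,16), (80,0), (128,16)], 457, 5),
    ([(43,132), (2,16), (4,0), (24,0), (16,0), (32,16), (80,0), (128,16)], 458, 5),
    ([(3,252), (18,0), (20,0), (24,0), (16,0), (32,16), (80,0), (144,0)], 459, 5),
    ([(99,156), (2,16), (4,16), (24,0), (16,0), (32,16), (80,0), (144,0)], 460, 5),
    ([(51,196), (2,16), (20,0), (24,0), (16,0), (32,16), (80,0), (128,0)], 462, 5),
    ([(11,100), (18,0), (20,0), (8,0), (16,0), (32,16), (80,0), (128,16)], 464, 5),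
    ([(107,4), (2,16), (4,16), (8,0), (16,0), (32,16), (80,0), (128,16)], 465, 5),
    ([(51,76), (2,16), (20,0), (8,0), (16,0), (32,16), (80,0), (144,0)], 467, 5),
    ([(139,80), (2,0), (20,0), (8,16), (16,0), (32,16), (64,0), (128,16)], 470, 4),
    ([(203,32), (18,0), (4,16), (8,16), (16,0), (32,16), (64,0), (128,16)], 470, 5),
    ([(187,0), (2,16), (4,0), (8,16), (16,0), (32,16), (64,0), (128,16)], 471, 5),
    ([(131,120), (18,0), (20,0), (8,16), (16,0), (32,16), (64,0), (144,0)], 472, 5),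
    ([(227,8), (2,16), (4,16), (8,16), (16,0), (32,16), (64,0), (144,0)], 473, 5),
    ([(163,80), (2,16), (20,0), (8,16), (16,0), (32,16), (64,0), (128,0)], 475, 5),
    ([(11,240), (18,0), (20,0), (24,0), (16,0), (32,16), (64,0), (128,16)], 477, 5),
    ([(107,128), (2,16), (4,16), (24,0), (16,0), (32,16), (64,0), (128,16)], 478, 5),
    ([(51,200), (2,16), (20,0), (24,0), (16,0), (32,16), (64,0), (144,0)], 480, 5),
    ([(43,80), (2,16), (20,0), (8,0), (16,0), (32,16), (64,0), (128,16)], 483, 5),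
    ([(221,2), (2,0), (4,16), (8,16), (16,0), (48,0), (64,16), (128,16)], 486, 4),
    ([(157,34), (18,0), (4,0), (8,16), (16,0), (48,0), (64,16), (128,16)], 486, 5),
    ([(133,90), (2,0), (20,0), (8,16), (16,0), (48,0), (64,16), (144,0)], 487, 4),
    ([(197,58), (18,0), (4,16), (8,16), (16,0), (48,0), (64,16), (144,0)], 487, 5),
    ([(165,26), (2,16), (4,0), (8,16), (16,0), (48,0), (64,16), (144,0)], 488, 5),
    ([(133,98), (18,0), (20,0), (8,16), (16,0), (48,0), (64,16), (128,0)], 489, 5),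
    ([(229,2), (2,16), (4,16), (8,16), (16,0), (48,0), (64,16), (128,0)], 490, 5),
    ([(13,210), (2,0), (20,0), (24,0), (16,0), (48,0), (64,16), (128,16)], 492, 4),
    ([(77,178), (18,0), (4,16), (24,0), (16,0), (48,0), (64,16), (128,16)], 492, 5),
    ([(45,146), (2,16), (4,0), (24,0), (16,0), (48,0), (64,16), (128,16)], 493, 5),
    ([(5,250), (18,0), (20,0), (24,0), (16,0), (48,0), (64,16), (144,0)], 494, 5),
    ([(101,154), (2,16), (4,16), (24,0), (16,0), (48,0), (64,16), (144,0)], 495, 5),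
    ([(37,210), (2,16), (20,0), (24,0), (16,0), (48,0), (64,16), (128,0)], 497, 5),
    ([(13,98), (18,0), (20,0), (8,0), (16,0), (48,0), (64,16), (128,16)], 499, 5),
    ([(109,2), (2,16), (4,16), (8,0), (16,0), (48,0), (64,16), (128,16)], 500, 5),
    ([(37,90), (2,16), (20,0), (8,0), (16,0), (48,0), (64,16), (144,0)], 502, 5),
    ([(153,70), (2,0), (20,0), (8,16), (16,0), (48,0), (80,0), (128,16)], 505, 4),
    ([(201,54), (18,0), (4,16), (8,16), (16,0), (48,0), (80,0), (128,16)], 505, 5),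
    ([(169,6), (2,16), (4,0), (8,16), (16,0), (48,0), (80,0), (128,16)], 506, 5),
    ([(129,126), (18,0), (20,0), (8,16), (16,0), (48,0), (80,0), (144,0)], 507, 5),
    ([(225,14), (2,16), (4,16), (8,16), (16,0), (48,0), (80,0), (144,0)], 508, 5),
    ([(161,70), (2,16), (20,0), (8,16), (16,0), (48,0), (80,0), (128,0)], 510, 5),
    ([(9,246), (18,0), (20,0), (24,0), (16,0), (48,0), (80,0), (128,16)], 512, 5),
    ([(105,134), (2,16), (4,16), (24,0), (16,0), (48,0), (80,0), (128,16)], 513, 5),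
    ([(33,222), (2,16), (20,0), (24,0), (16,0), (48,0), (80,0), (144,0)], 515, 5),
    ([(41,70), (2,16), (20,0), (8,0), (16,0), (48,0), (80,0), (128,16)], 518, 5),
    ([(153,98), (18,0), (20,0), (8,16), (16,0), (48,0), (64,0), (128,16)], 521, 5),
    ([(233,2), (2,16), (4,16), (8,16), (16,0), (48,0), (64,0), (128,16)], 522, 5),
    ([(161,90), (2,16), (20,0), (8,16), (16,0), (48,0), (64,0), (144,0)], 524, 5),
    ([(41,210), (2,16), (20,0), (24,0), (16,0), (48,0), (64,0), (128,16)], 527, 5),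
    ([(141,64), (2,0), (20,0), (8,16), (16,0), (32,0), (64,16), (128,16)], 531, 4),
    ([(221,32), (18,0), (4,16), (8,16), (16,0), (32,0), (64,16), (128,16)], 531, 5),
    ([(173,16), (2,16), (4,0), (8,16), (16,0), (32,0), (64,16), (128,16)], 532, 5),
    ([(133,120), (18,0), (20,0), (8,16), (16,0), (32,0), (64,16), (144,0)], 533, 5),
    ([(229,8), (2,16), (4,16), (8,16), (16,0), (32,0), (64,16), (144,0)], 534, 5),
    ([(181,64), (2,16), (20,0), (8,16), (16,0), (32,0), (64,16), (128,0)], 536, 5),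
    ([(13,240), (18,0), (20,0), (24,0), (16,0), (32,0), (64,16), (128,16)], 538, 5),
    ([(109,128), (2,16), (4,16), (24,0), (16,0), (32,0), (64,16), (128,16)], 539, 5),
    ([(37,200), (2,16), (20,0), (24,0), (16,0), (32,0), (64,16), (144,0)], 541, 5),
    ([(61,64), (2,16), (20,0), (8,0), (16,0), (32,0), (64,16), (128,16)], 544, 5),
    ([(153,100), (18,0), (20,0), (8,16), (16,0), (32,0), (80,0), (128,16)], 547, 5),
    ([(233,4), (2,16), (4,16), (8,16), (16,0), (32,0), (80,0), (128,16)], 548, 5),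
    ([(161,76), (2,16), (20,0), (8,16), (16,0), (32,0), (80,0), (144,0)], 550, 5),
    ([(41,196), (2,16), (20,0), (24,0), (16,0), (32,0), (80,0), (128,16)], 553, 5),
    ([(169,80), (2,16), (20,0), (8,16), (16,0), (32,0), (64,0), (128,16)], 557, 5),
    ([(223,0), (2,0), (4,16), (8,16), (16,0), (32,16), (64,16), (128,16)], 561, 4),
    ([(143,32), (18,0), (4,0), (8,16), (16,0), (32,16), (64,16), (128,16)], 561, 5),
    ([(135,88), (2,0), (20,0), (8,16), (16,0), (32,16), (64,16), (144,0)], 562, 4),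
    ([(215,40), (18,0), (4,16), (8,16), (16,0), (32,16), (64,16), (144,0)], 562, 5),
    ([(167,8), (2,16), (4,0), (8,16), (16,0), (32,16), (64,16), (144,0)], 563, 5),
    ([(135,112), (18,0), (20,0), (8,16), (16,0), (32,16), (64,16), (128,0)], 564, 5),
    ([(247,0), (2,16), (4,16), (8,16), (16,0), (32,16), (64,16), (128,0)], 565, 5),
    ([(15,208), (2,0), (20,0), (24,0), (16,0), (32,16), (64,16), (128,16)], 567, 4),
    ([(95,160), (18,0), (4,16), (24,0), (16,0), (32,16), (64,16), (128,16)], 567, 5),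
    ([(47,128), (2,16), (4,0), (24,0), (16,0), (32,16), (64,16), (128,16)], 568, 5),
    ([(23,232), (18,0), (20,0), (24,0), (16,0), (32,16), (64,16), (144,0)], 569, 5),
    ([(103,136), (2,16), (4,16), (24,0), (16,0), (32,16), (64,16), (144,0)], 570, 5),
    ([(39,192), (2,16), (20,0), (24,0), (16,0), (32,16), (64,16), (128,0)], 572, 5),
    ([(15,112), (18,0), (20,0), (8,0), (16,0), (32,16), (64,16), (128,16)], 574, 5),
    ([(127,0), (2,16), (4,16), (8,0), (16,0), (32,16), (64,16), (128,16)], 575, 5),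
    ([(39,72), (2,16), (20,0), (8,0), (16,0), (32,16), (64,16), (144,0)], 577, 5),
    ([(155,68), (2,0), (20,0), (8,16), (16,0), (32,16), (80,0), (128,16)], 580, 4),
    ([(219,36), (18,0), (4,16), (8,16), (16,0), (32,16), (80,0), (128,16)], 580, 5),
    ([(187,4), (2,16), (4,0), (8,16), (16,0), (32,16), (80,0), (128,16)], 581, 5),
    ([(147,108), (18,0), (20,0), (8,16), (16,0), (32,16), (80,0), (144,0)], 582, 5),
    ([(243,12), (2,16), (4,16), (8,16), (16,0), (32,16), (80,0), (144,0)], 583, 5),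
    ([(179,68), (2,16), (20,0), (8,16), (16,0), (32,16), (80,0), (128,0)], 585, 5),
    ([(27,228), (18,0), (20,0), (24,0), (16,0), (32,16), (80,0), (128,16)], 587, 5),
    ([(123,132), (2,16), (4,16), (24,0), (16,0), (32,16), (80,0), (128,16)], 588, 5),
    ([(35,204), (2,16), (20,0), (24,0), (16,0), (32,16), (80,0), (144,0)], 590, 5),
    ([(59,68), (2,16), (20,0), (8,0), (16,0), (32,16), (80,0), (128,16)], 593, 5),
    ([(139,96), (18,0), (20,0), (8,16), (16,0), (32,16), (64,0), (128,16)], 596, 5),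
    ([(251,0), (2,16), (4,16), (8,16), (16,0), (32,16), (64,0), (128,16)], 597, 5),
    ([(163,72), (2,16), (20,0), (8,16), (16,0), (32,16), (64,0), (144,0)], 599, 5),
    ([(43,192), (2,16), (20,0), (24,0), (16,0), (32,16), (64,0), (128,16)], 602, 5),
    ([(141,66), (2,0), (20,0), (8,16), (16,0), (48,0), (64,16), (128,16)], 606, 4),
    ([(205,34), (18,0), (4,16), (8,16), (16,0), (48,0), (64,16), (128,16)], 606, 5),
    ([(173,2), (2,16), (4,0), (8,16), (16,0), (48,0), (64,16), (128,16)], 607, 5),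
    ([(149,106), (18,0), (20,0), (8,16), (16,0), (48,0), (64,16), (144,0)], 608, 5),
    ([(245,10), (2,16), (4,16), (8,16), (16,0), (48,0), (64,16), (144,0)], 609, 5),
    ([(165,82), (2,16), (20,0), (8,16), (16,0), (48,0), (64,16), (128,0)], 611, 5),
    ([(29,226), (18,0), (20,0), (24,0), (16,0), (48,0), (64,16), (128,16)], 613, 5),
    ([(125,130), (2,16), (4,16), (24,0), (16,0), (48,0), (64,16), (128,16)], 614, 5),
    ([(53,202), (2,16), (20,0), (24,0), (16,0), (48,0), (64,16), (144,0)], 616, 5),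
    ([(45,82), (2,16), (20,0), (8,0), (16,0), (48,0), (64,16), (128,16)], 619, 5),
    ([(137,102), (18,0), (20,0), (8,16), (16,0), (48,0), (80,0), (128,16)], 622, 5),
    ([(249,6), (2,16), (4,16), (8,16), (16,0), (48,0), (80,0), (128,16)], 623, 5),
    ([(177,78), (2,16), (20,0), (8,16), (16,0), (48,0), (80,0), (144,0)], 625, 5),
    ([(57,198), (2,16), (20,0), (24,0), (16,0), (48,0), (80,0), (128,16)], 628, 5),
    ([(169,66), (2,16), (20,0), (8,16), (16,0), (48,0), (64,0), (128,16)], 632, 5),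
    ([(141,96), (18,0), (20,0), (8,16), (16,0), (32,0), (64,16), (128,16)], 636, 5),
    ([(253,0), (2,16), (4,16), (8,16), (16,0), (32,0), (64,16), (128,16)], 637, 5),
    ([(165,88), (2,16), (20,0), (8,16), (16,0), (32,0), (64,16), (144,0)], 639, 5),
    ([(45,208), (2,16), (20,0), (24,0), (16,0), (32,0), (64,16), (128,16)], 642, 5),
    ([(185,68), (2,16), (20,0), (8,16), (16,0), (32,0), (80,0), (128,16)], 646, 5),
    ([(143,64), (2,0), (20,0), (8,16), (16,0), (32,16), (64,16), (128,16)], 651, 4),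
    ([(207,48), (18,0), (4,16), (8,16), (16,0), (32,16), (64,16), (128,16)], 651, 5),
    ([(191,0), (2,16), (4,0), (8,16), (16,0), (32,16), (64,16), (128,16)], 652, 5),
    ([(135,104), (18,0), (20,0), (8,16), (16,0), (32,16), (64,16), (144,0)], 653, 5),
    ([(231,24), (2,16), (4,16), (8,16), (16,0), (32,16), (64,16), (144,0)], 654, 5),
    ([(167,64), (2,16), (20,0), (8,16), (16,0), (32,16), (64,16), (128,0)], 656, 5),
    ([(15,224), (18,0), (20,0), (24,0), (16,0), (32,16), (64,16), (128,16)], 658, 5),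
    ([(111,144), (2,16), (4,16), (24,0), (16,0), (32,16), (64,16), (128,16)], 659, 5),
    ([(39,216), (2,16), (20,0), (24,0), (16,0), (32,16), (64,16), (144,0)], 661, 5),
    ([(47,64), (2,16), (20,0), (8,0), (16,0), (32,16), (64,16), (128,16)], 664, 5),
    ([(139,116), (18,0), (20,0), (8,16), (16,0), (32,16), (80,0), (128,16)], 667, 5),
    ([(235,20), (2,16), (4,16), (8,16), (16,0), (32,16), (80,0), (128,16)], 668, 5),
    ([(163,92), (2,16), (20,0), (8,16), (16,0), (32,16), (80,0), (144,0)], 670, 5),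
    ([(43,212), (2,16), (20,0), (24,0), (16,0), (32,16), (80,0), (128,16)], 673, 5),
    ([(187,64), (2,16), (20,0), (8,16), (16,0), (32,16), (64,0), (128,16)], 677, 5),
    ([(141,114), (18,0), (20,0), (8,16), (16,0), (48,0), (64,16), (128,16)], 681, 5),
    ([(237,18), (2,16), (4,16), (8,16), (16,0), (48,0), (64,16), (128,16)], 682, 5),
    ([(165,74), (2,16), (20,0), (8,16), (16,0), (48,0), (64,16), (144,0)], 684, 5),
    ([(45,194), (2,16), (20,0), (24,0), (16,0), (48,0), (64,16), (128,16)], 687, 5),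
    ([(169,86), (2,16), (20,0), (8,16), (16,0), (48,0), (80,0), (128,16)], 691, 5),
    ([(173,64), (2,16), (20,0), (8,16), (16,0), (32,0), (64,16), (128,16)], 696, 5),
    ([(159,96), (18,0), (20,0), (8,16), (16,0), (32,16), (64,16), (128,16)], 701, 5),
    ([(239,0), (2,16), (4,16), (8,16), (16,0), (32,16), (64,16), (128,16)], 702, 5),
    ([(183,72), (2,16), (20,0), (8,16), (16,0), (32,16), (64,16), (144,0)], 704, 5),
    ([(63,192), (2,16), (20,0), (24,0), (16,0), (32,16), (64,16), (128,16)], 707, 5),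
    ([(171,68), (2,16), (20,0), (8,16), (16,0), (32,16), (80,0), (128,16)], 711, 5),
    ([(189,66), (2,16), (20,0), (8,16), (16,0), (48,0), (64,16), (128,16)], 716, 5),
    ([(175,80), (2,16), (20,0), (8,16), (16,0), (32,16), (64,16), (128,16)], 722, 5)]

/-- The Levi part of the Sylow subgroup. -/
def lList : List (List Row × ℕ × ℕ) :=
  [
    ([(1,0), (2,0), (4,0), (8,0), (16,0), (32,0), (64,0), (128,0)], 0, 0),
    ([(1,0), (2,0), (4,128), (72,0), (16,0), (32,0), (64,0), (128,0)], 0, 0),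
    ([(1,0), (2,0), (4,8), (8,0), (16,0), (32,0), (64,0), (192,0)], 0, 1),
    ([(1,0), (2,4), (4,0), (8,0), (16,0), (32,0), (96,0), (128,0)], 0, 2),
    ([(1,0), (2,128), (4,0), (40,0), (16,0), (32,0), (64,0), (128,0)], 0, 3),
    ([(1,0), (2,8), (4,0), (8,0), (16,0), (32,0), (64,0), (160,0)], 0, 4),
    ([(1,0), (66,0), (4,32), (8,0), (16,0), (32,0), (64,0), (128,0)], 0, 5),
    ([(1,0), (2,0), (132,0), (8,64), (16,0), (32,0), (64,0), (128,0)], 1, 0),
    ([(1,0), (2,0), (4,200), (72,0), (16,0), (32,0), (64,0), (192,0)], 1, 1),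
    ([(1,0), (2,4), (4,128), (104,0), (16,0), (32,0), (96,0), (128,0)], 1, 2),
    ([(1,0), (2,128), (4,128), (104,0), (16,0), (32,0), (64,0), (128,0)], 1, 3),
    ([(1,0), (2,8), (4,160), (72,0), (16,0), (32,0), (64,0), (160,0)], 1, 4),
    ([(1,0), (66,0), (4,160), (72,0), (16,0), (32,0), (64,0), (128,0)], 1, 5),
    ([(1,0), (2,0), (12,0), (8,0), (16,0), (32,0), (64,0), (128,64)], 2, 1),
    ([(1,0), (2,4), (4,8), (8,0), (16,0), (32,0), (96,0), (224,0)], 2, 2),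
    ([(1,0), (2,128), (4,40), (40,0), (16,0), (32,0), (64,0), (192,0)], 2, 3),
    ([(1,0), (2,8), (4,8), (8,0), (16,0), (32,0), (64,0), (224,0)], 2, 4),
    ([(1,0), (66,0), (4,40), (8,0), (16,0), (32,0), (64,0), (192,0)], 2, 5),
    ([(1,0), (130,4), (4,128), (72,0), (16,0), (32,0), (96,0), (128,0)], 3, 0),
    ([(1,0), (10,4), (4,8), (8,0), (16,0), (32,0), (96,0), (192,0)], 3, 1),
    ([(1,0), (6,0), (4,0), (8,0), (16,0), (32,0), (64,32), (128,0)], 3, 2),
    ([(1,0), (2,132), (4,0), (40,0), (16,0), (32,0), (96,0), (128,0)], 3, 3),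
    ([(1,0), (2,12), (4,0), (8,0), (16,0), (32,0), (96,0), (160,0)], 3, 4),
    ([(1,0), (98,4), (4,32), (8,0), (16,0), (32,0), (96,0), (128,0)], 3, 5),
    ([(1,0), (2,192), (4,8), (40,0), (16,0), (32,0), (64,0), (192,0)], 4, 1),
    ([(1,0), (130,0), (4,0), (8,32), (16,0), (32,0), (64,0), (128,0)], 4, 3),
    ([(1,0), (2,168), (4,0), (40,0), (16,0), (32,0), (64,0), (160,0)], 4, 4),
    ([(1,0), (66,128), (4,32), (40,0), (16,0), (32,0), (64,0), (128,0)], 4, 5),
    ([(1,0), (2,72), (4,128), (72,0), (16,0), (32,0), (64,0), (160,0)], 5, 0),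
    ([(1,0), (10,0), (4,0), (8,0), (16,0), (32,0), (64,0), (128,32)], 5, 4),
    ([(1,0), (66,8), (4,32), (8,0), (16,0), (32,0), (64,0), (160,0)], 5, 5),
    ([(1,0), (2,64), (36,0), (8,0), (16,0), (32,0), (64,0), (128,0)], 6, 5),
    ([(1,0), (2,0), (196,8), (8,64), (16,0), (32,0), (64,0), (192,0)], 7, 1),
    ([(1,0), (2,4), (132,0), (8,96), (16,0), (32,0), (96,0), (128,0)], 7, 2),
    ([(1,0), (2,128), (132,0), (40,64), (16,0), (32,0), (64,0), (128,0)], 7, 3),
    ([(1,0), (2,8), (164,0), (8,64), (16,0), (32,0), (64,0), (160,0)], 7, 4),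
    ([(1,0), (66,0), (132,32), (8,64), (16,0), (32,0), (64,0), (128,0)], 7, 5),
    ([(1,0), (2,0), (76,128), (72,0), (16,0), (32,0), (64,0), (128,64)], 8, 1),
    ([(1,0), (2,4), (4,232), (104,0), (16,0), (32,0), (96,0), (224,0)], 8, 2),
    ([(1,0), (2,128), (4,232), (104,0), (16,0), (32,0), (64,0), (192,0)], 8, 3),
    ([(1,0), (2,8), (4,232), (72,0), (16,0), (32,0), (64,0), (224,0)], 8, 4),
    ([(1,0), (66,0), (4,232), (72,0), (16,0), (32,0), (64,0), (192,0)], 8, 5),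
    ([(1,0), (130,4), (132,0), (40,64), (16,0), (32,0), (96,0), (128,0)], 9, 0),
    ([(1,0), (10,4), (4,200), (104,0), (16,0), (32,0), (96,0), (192,0)], 9, 1),
    ([(1,0), (6,0), (4,128), (72,32), (16,0), (32,0), (64,32), (128,0)], 9, 2),
    ([(1,0), (2,132), (4,128), (72,32), (16,0), (32,0), (96,0), (128,0)], 9, 3),
    ([(1,0), (2,12), (4,160), (104,0), (16,0), (32,0), (96,0), (160,0)], 9, 4),
    ([(1,0), (98,4), (4,160), (104,0), (16,0), (32,0), (96,0), (128,0)], 9, 5),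
    ([(1,0), (2,192), (4,200), (104,0), (16,0), (32,0), (64,0), (192,0)], 10, 1),
    ([(1,0), (130,0), (4,128), (72,32), (16,0), (32,0), (64,0), (128,0)], 10, 3),
    ([(1,0), (2,168), (4,160), (104,0), (16,0), (32,0), (64,0), (160,0)], 10, 4),
    ([(1,0), (66,128), (4,160), (104,0), (16,0), (32,0), (64,0), (128,0)], 10, 5),
    ([(1,0), (2,72), (132,32), (8,64), (16,0), (32,0), (64,0), (160,0)], 11, 0),
    ([(1,0), (10,0), (36,128), (72,0), (16,0), (32,0), (64,0), (128,32)], 11, 4),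
    ([(1,0), (66,8), (36,128), (72,0), (16,0), (32,0), (64,0), (160,0)], 11, 5),
    ([(1,0), (2,64), (36,128), (72,0), (16,0), (32,0), (64,0), (128,0)], 12, 5),
    ([(1,0), (2,4), (12,0), (8,0), (16,0), (32,0), (96,0), (128,96)], 13, 2),
    ([(1,0), (2,128), (44,0), (40,0), (16,0), (32,0), (64,0), (128,64)], 13, 3),
    ([(1,0), (2,8), (12,0), (8,0), (16,0), (32,0), (64,0), (160,64)], 13, 4),
    ([(1,0), (66,0), (12,32), (8,0), (16,0), (32,0), (64,0), (128,64)], 13, 5),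
    ([(1,0), (130,4), (4,200), (72,0), (16,0), (32,0), (96,0), (224,0)], 14, 0),
    ([(1,0), (10,4), (12,0), (8,0), (16,0), (32,0), (96,0), (160,64)], 14, 1),
    ([(1,0), (6,0), (4,8), (8,0), (16,0), (32,0), (64,32), (192,32)], 14, 2),
    ([(1,0), (2,132), (4,40), (40,0), (16,0), (32,0), (96,0), (224,0)], 14, 3),
    ([(1,0), (2,12), (4,8), (8,0), (16,0), (32,0), (96,0), (192,32)], 14, 4),
    ([(1,0), (98,4), (4,40), (8,0), (16,0), (32,0), (96,0), (224,0)], 14, 5),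
    ([(1,0), (2,192), (12,32), (40,0), (16,0), (32,0), (64,0), (128,64)], 15, 1),
    ([(1,0), (130,0), (36,8), (8,32), (16,0), (32,0), (64,0), (192,0)], 15, 3),
    ([(1,0), (2,168), (4,40), (40,0), (16,0), (32,0), (64,0), (224,0)], 15, 4),
    ([(1,0), (66,128), (36,8), (40,0), (16,0), (32,0), (64,0), (192,0)], 15, 5),
    ([(1,0), (2,72), (4,200), (72,0), (16,0), (32,0), (64,0), (224,0)], 16, 0),
    ([(1,0), (10,0), (4,8), (8,0), (16,0), (32,0), (64,0), (192,32)], 16, 4),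
    ([(1,0), (66,8), (4,40), (8,0), (16,0), (32,0), (64,0), (224,0)], 16, 5),
    ([(1,0), (2,64), (36,8), (8,0), (16,0), (32,0), (64,0), (192,0)], 17, 5),
    ([(1,0), (2,132), (132,0), (8,64), (16,0), (32,0), (96,0), (128,0)], 18, 0),
    ([(1,0), (202,4), (4,200), (72,0), (16,0), (32,0), (96,0), (192,0)], 18, 1),
    ([(1,0), (134,0), (4,128), (104,0), (16,0), (32,0), (64,32), (128,0)], 18, 2),
    ([(1,0), (162,12), (4,160), (72,0), (16,0), (32,0), (96,0), (160,0)], 18, 4),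
    ([(1,0), (226,4), (4,160), (72,0), (16,0), (32,0), (96,0), (128,0)], 18, 5),
    ([(1,0), (2,12), (12,0), (8,0), (16,0), (32,0), (96,0), (128,64)], 19, 1),
    ([(1,0), (14,0), (4,8), (8,0), (16,0), (32,0), (64,32), (224,0)], 19, 2),
    ([(1,0), (42,132), (4,40), (40,0), (16,0), (32,0), (96,0), (192,0)], 19, 3),
    ([(1,0), (106,4), (4,40), (8,0), (16,0), (32,0), (96,0), (192,0)], 19, 5),
    ([(1,0), (6,128), (4,128), (72,0), (16,0), (32,0), (64,32), (128,0)], 20, 0),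
    ([(1,0), (6,8), (4,8), (8,0), (16,0), (32,0), (64,32), (192,0)], 20, 1),
    ([(1,0), (6,128), (4,0), (40,0), (16,0), (32,0), (64,32), (128,0)], 20, 3),
    ([(1,0), (6,8), (4,0), (8,0), (16,0), (32,0), (64,32), (160,0)], 20, 4),
    ([(1,0), (70,32), (4,32), (8,0), (16,0), (32,0), (64,32), (128,0)], 20, 5),
    ([(1,0), (10,196), (4,8), (40,0), (16,0), (32,0), (96,0), (192,0)], 21, 1),
    ([(1,0), (130,4), (4,0), (8,32), (16,0), (32,0), (96,0), (128,0)], 21, 3),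
    ([(1,0), (2,172), (4,0), (40,0), (16,0), (32,0), (96,0), (160,0)], 21, 4),
    ([(1,0), (98,132), (4,32), (40,0), (16,0), (32,0), (96,0), (128,0)], 21, 5),
    ([(1,0), (130,76), (4,128), (72,0), (16,0), (32,0), (96,0), (160,0)], 22, 0),
    ([(1,0), (10,4), (4,0), (8,0), (16,0), (32,0), (96,0), (128,32)], 22, 4),
    ([(1,0), (98,12), (4,32), (8,0), (16,0), (32,0), (96,0), (160,0)], 22, 5),
    ([(1,0), (2,100), (36,0), (8,0), (16,0), (32,0), (96,0), (128,0)], 23, 5),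
    ([(1,0), (66,128), (12,0), (40,0), (16,0), (32,0), (64,0), (128,64)], 24, 1),
    ([(1,0), (2,228), (4,8), (40,0), (16,0), (32,0), (96,0), (224,0)], 24, 2),
    ([(1,0), (130,64), (4,40), (8,32), (16,0), (32,0), (64,0), (192,0)], 24, 3),
    ([(1,0), (2,232), (4,8), (40,0), (16,0), (32,0), (64,0), (224,0)], 24, 4),
    ([(1,0), (194,0), (4,8), (8,32), (16,0), (32,0), (64,0), (192,0)], 25, 1),
    ([(1,0), (162,8), (4,0), (8,32), (16,0), (32,0), (64,0), (160,0)], 25, 4),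
    ([(1,0), (194,0), (4,32), (8,32), (16,0), (32,0), (64,0), (128,0)], 25, 5),
    ([(1,0), (2,232), (4,128), (104,0), (16,0), (32,0), (64,0), (160,0)], 26, 0),
    ([(1,0), (42,128), (4,0), (40,0), (16,0), (32,0), (64,0), (128,32)], 26, 4),
    ([(1,0), (66,168), (4,32), (40,0), (16,0), (32,0), (64,0), (160,0)], 26, 5),
    ([(1,0), (2,192), (36,0), (40,0), (16,0), (32,0), (64,0), (128,0)], 27, 5),
    ([(1,0), (66,8), (132,0), (8,64), (16,0), (32,0), (64,0), (160,0)], 28, 0),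
    ([(1,0), (2,108), (4,128), (104,0), (16,0), (32,0), (96,0), (160,0)], 28, 2),
    ([(1,0), (10,64), (4,160), (72,0), (16,0), (32,0), (64,0), (128,32)], 28, 4),
    ([(1,0), (74,0), (4,128), (72,0), (16,0), (32,0), (64,0), (128,32)], 29, 0),
    ([(1,0), (74,0), (4,32), (8,0), (16,0), (32,0), (64,0), (128,32)], 29, 5),
    ([(1,0), (2,72), (36,0), (8,0), (16,0), (32,0), (64,0), (160,0)], 30, 5),
    ([(1,0), (2,0), (140,64), (8,64), (16,0), (32,0), (64,0), (128,64)], 32, 1),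
    ([(1,0), (2,4), (228,8), (8,96), (16,0), (32,0), (96,0), (224,0)], 32, 2),
    ([(1,0), (2,128), (196,40), (40,64), (16,0), (32,0), (64,0), (192,0)], 32, 3),
    ([(1,0), (2,8), (228,8), (8,64), (16,0), (32,0), (64,0), (224,0)], 32, 4),
    ([(1,0), (66,0), (196,40), (8,64), (16,0), (32,0), (64,0), (192,0)], 32, 5),
    ([(1,0), (10,4), (196,8), (8,96), (16,0), (32,0), (96,0), (192,0)], 33, 1),
    ([(1,0), (6,0), (132,0), (40,64), (16,0), (32,0), (64,32), (128,0)], 33, 2),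
    ([(1,0), (2,12), (164,0), (8,96), (16,0), (32,0), (96,0), (160,0)], 33, 4),
    ([(1,0), (98,4), (132,32), (8,96), (16,0), (32,0), (96,0), (128,0)], 33, 5),
    ([(1,0), (2,192), (196,8), (40,64), (16,0), (32,0), (64,0), (192,0)], 34, 1),
    ([(1,0), (130,0), (132,0), (8,96), (16,0), (32,0), (64,0), (128,0)], 34, 3),
    ([(1,0), (2,168), (164,0), (40,64), (16,0), (32,0), (64,0), (160,0)], 34, 4),
    ([(1,0), (66,128), (132,32), (40,64), (16,0), (32,0), (64,0), (128,0)], 34, 5),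
    ([(1,0), (10,0), (132,32), (8,64), (16,0), (32,0), (64,0), (128,32)], 35, 4),
    ([(1,0), (2,64), (164,0), (8,64), (16,0), (32,0), (64,0), (128,0)], 36, 5),
    ([(1,0), (2,4), (108,128), (104,0), (16,0), (32,0), (96,0), (128,96)], 37, 2),
    ([(1,0), (2,128), (108,128), (104,0), (16,0), (32,0), (64,0), (128,64)], 37, 3),
    ([(1,0), (2,8), (76,160), (72,0), (16,0), (32,0), (64,0), (160,64)], 37, 4),
    ([(1,0), (66,0), (76,160), (72,0), (16,0), (32,0), (64,0), (128,64)], 37, 5),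
    ([(1,0), (130,4), (196,40), (40,64), (16,0), (32,0), (96,0), (224,0)], 38, 0),
    ([(1,0), (10,4), (76,160), (104,0), (16,0), (32,0), (96,0), (160,64)], 38, 1),
    ([(1,0), (6,0), (36,200), (72,32), (16,0), (32,0), (64,32), (192,32)], 38, 2),
    ([(1,0), (2,132), (36,200), (72,32), (16,0), (32,0), (96,0), (224,0)], 38, 3),
    ([(1,0), (2,12), (36,200), (104,0), (16,0), (32,0), (96,0), (192,32)], 38, 4),
    ([(1,0), (98,4), (36,200), (104,0), (16,0), (32,0), (96,0), (224,0)], 38, 5),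
    ([(1,0), (2,192), (76,160), (104,0), (16,0), (32,0), (64,0), (128,64)], 39, 1),
    ([(1,0), (130,0), (36,200), (72,32), (16,0), (32,0), (64,0), (192,0)], 39, 3),
    ([(1,0), (2,168), (36,200), (104,0), (16,0), (32,0), (64,0), (224,0)], 39, 4),
    ([(1,0), (66,128), (36,200), (104,0), (16,0), (32,0), (64,0), (192,0)], 39, 5),
    ([(1,0), (2,72), (196,40), (8,64), (16,0), (32,0), (64,0), (224,0)], 40, 0),
    ([(1,0), (10,0), (36,200), (72,0), (16,0), (32,0), (64,0), (192,32)], 40, 4),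
    ([(1,0), (66,8), (36,200), (72,0), (16,0), (32,0), (64,0), (224,0)], 40, 5),
    ([(1,0), (2,64), (36,200), (72,0), (16,0), (32,0), (64,0), (192,0)], 41, 5),
    ([(1,0), (202,4), (196,8), (40,64), (16,0), (32,0), (96,0), (192,0)], 42, 1),
    ([(1,0), (134,0), (132,0), (8,64), (16,0), (32,0), (64,32), (128,0)], 42, 2),
    ([(1,0), (162,12), (164,0), (40,64), (16,0), (32,0), (96,0), (160,0)], 42, 4),
    ([(1,0), (226,4), (132,32), (40,64), (16,0), (32,0), (96,0), (128,0)], 42, 5),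
    ([(1,0), (2,12), (76,128), (104,0), (16,0), (32,0), (96,0), (128,64)], 43, 1),
    ([(1,0), (14,0), (4,232), (72,32), (16,0), (32,0), (64,32), (224,0)], 43, 2),
    ([(1,0), (42,132), (4,232), (72,32), (16,0), (32,0), (96,0), (192,0)], 43, 3),
    ([(1,0), (106,4), (4,232), (104,0), (16,0), (32,0), (96,0), (192,0)], 43, 5),
    ([(1,0), (6,128), (132,0), (8,96), (16,0), (32,0), (64,32), (128,0)], 44, 0),
    ([(1,0), (6,8), (4,200), (72,32), (16,0), (32,0), (64,32), (192,0)], 44, 1),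
    ([(1,0), (6,8), (4,160), (72,32), (16,0), (32,0), (64,32), (160,0)], 44, 4),
    ([(1,0), (70,32), (4,160), (72,32), (16,0), (32,0), (64,32), (128,0)], 44, 5),
    ([(1,0), (10,196), (4,200), (72,32), (16,0), (32,0), (96,0), (192,0)], 45, 1),
    ([(1,0), (2,172), (4,160), (72,32), (16,0), (32,0), (96,0), (160,0)], 45, 4),
    ([(1,0), (98,132), (4,160), (72,32), (16,0), (32,0), (96,0), (128,0)], 45, 5),
    ([(1,0), (130,76), (132,32), (40,64), (16,0), (32,0), (96,0), (160,0)], 46, 0),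
    ([(1,0), (10,4), (36,128), (104,0), (16,0), (32,0), (96,0), (128,32)], 46, 4),
    ([(1,0), (98,12), (36,128), (104,0), (16,0), (32,0), (96,0), (160,0)], 46, 5),
    ([(1,0), (2,100), (36,128), (104,0), (16,0), (32,0), (96,0), (128,0)], 47, 5),
    ([(1,0), (66,128), (76,128), (104,0), (16,0), (32,0), (64,0), (128,64)], 48, 1),
    ([(1,0), (2,228), (4,232), (72,32), (16,0), (32,0), (96,0), (224,0)], 48, 2),
    ([(1,0), (130,64), (4,232), (72,32), (16,0), (32,0), (64,0), (192,0)], 48, 3),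
    ([(1,0), (2,232), (4,232), (104,0), (16,0), (32,0), (64,0), (224,0)], 48, 4),
    ([(1,0), (194,0), (4,200), (72,32), (16,0), (32,0), (64,0), (192,0)], 49, 1),
    ([(1,0), (162,8), (4,160), (72,32), (16,0), (32,0), (64,0), (160,0)], 49, 4),
    ([(1,0), (194,0), (4,160), (72,32), (16,0), (32,0), (64,0), (128,0)], 49, 5),
    ([(1,0), (2,232), (132,32), (40,64), (16,0), (32,0), (64,0), (160,0)], 50, 0),
    ([(1,0), (42,128), (36,128), (104,0), (16,0), (32,0), (64,0), (128,32)], 50, 4),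
    ([(1,0), (66,168), (36,128), (104,0), (16,0), (32,0), (64,0), (160,0)], 50, 5),
    ([(1,0), (2,192), (36,128), (104,0), (16,0), (32,0), (64,0), (128,0)], 51, 5),
    ([(1,0), (2,108), (132,32), (8,96), (16,0), (32,0), (96,0), (160,0)], 52, 2),
    ([(1,0), (10,64), (132,0), (8,64), (16,0), (32,0), (64,0), (128,32)], 52, 4),
    ([(1,0), (74,0), (164,0), (8,64), (16,0), (32,0), (64,0), (128,32)], 53, 0),
    ([(1,0), (130,4), (76,128), (72,0), (16,0), (32,0), (96,0), (128,96)], 56, 0),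
    ([(1,0), (6,0), (12,0), (8,0), (16,0), (32,0), (64,32), (160,64)], 56, 2),
    ([(1,0), (2,132), (44,0), (40,0), (16,0), (32,0), (96,0), (128,96)], 56, 3),
    ([(1,0), (98,4), (12,32), (8,0), (16,0), (32,0), (96,0), (128,96)], 56, 5),
    ([(1,0), (130,0), (12,32), (8,32), (16,0), (32,0), (64,0), (128,64)], 57, 3),
    ([(1,0), (2,168), (44,0), (40,0), (16,0), (32,0), (64,0), (160,64)], 57, 4),
    ([(1,0), (2,72), (76,128), (72,0), (16,0), (32,0), (64,0), (160,64)], 58, 0),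
    ([(1,0), (10,0), (12,0), (8,0), (16,0), (32,0), (64,0), (128,96)], 58, 4),
    ([(1,0), (66,8), (12,32), (8,0), (16,0), (32,0), (64,0), (160,64)], 58, 5),
    ([(1,0), (2,64), (44,0), (8,0), (16,0), (32,0), (64,0), (128,64)], 59, 5),
    ([(1,0), (2,132), (196,8), (8,64), (16,0), (32,0), (96,0), (224,0)], 60, 0),
    ([(1,0), (202,4), (76,128), (72,0), (16,0), (32,0), (96,0), (160,64)], 60, 1),
    ([(1,0), (134,0), (4,232), (104,0), (16,0), (32,0), (64,32), (192,32)], 60, 2),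
    ([(1,0), (162,12), (4,232), (72,0), (16,0), (32,0), (96,0), (192,32)], 60, 4),
    ([(1,0), (226,4), (4,232), (72,0), (16,0), (32,0), (96,0), (224,0)], 60, 5),
    ([(1,0), (14,0), (12,0), (8,0), (16,0), (32,0), (64,32), (128,64)], 61, 2),
    ([(1,0), (42,132), (44,0), (40,0), (16,0), (32,0), (96,0), (160,64)], 61, 3),
    ([(1,0), (106,4), (12,32), (8,0), (16,0), (32,0), (96,0), (160,64)], 61, 5),
    ([(1,0), (6,128), (4,200), (72,0), (16,0), (32,0), (64,32), (192,32)], 62, 0),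
    ([(1,0), (6,8), (12,0), (8,0), (16,0), (32,0), (64,32), (128,96)], 62, 1),
    ([(1,0), (6,128), (4,40), (40,0), (16,0), (32,0), (64,32), (192,32)], 62, 3),
    ([(1,0), (70,32), (4,40), (8,0), (16,0), (32,0), (64,32), (192,32)], 62, 5),
    ([(1,0), (10,196), (12,32), (40,0), (16,0), (32,0), (96,0), (160,64)], 63, 1),
    ([(1,0), (130,4), (36,8), (8,32), (16,0), (32,0), (96,0), (224,0)], 63, 3),
    ([(1,0), (2,172), (4,40), (40,0), (16,0), (32,0), (96,0), (192,32)], 63, 4),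
    ([(1,0), (98,132), (36,8), (40,0), (16,0), (32,0), (96,0), (224,0)], 63, 5),
    ([(1,0), (130,76), (4,200), (72,0), (16,0), (32,0), (96,0), (192,32)], 64, 0),
    ([(1,0), (98,12), (4,40), (8,0), (16,0), (32,0), (96,0), (192,32)], 64, 5),
    ([(1,0), (2,100), (36,8), (8,0), (16,0), (32,0), (96,0), (224,0)], 65, 5),
    ([(1,0), (2,228), (12,32), (40,0), (16,0), (32,0), (96,0), (128,96)], 66, 2),
    ([(1,0), (130,64), (12,0), (8,32), (16,0), (32,0), (64,0), (128,64)], 66, 3),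
    ([(1,0), (2,232), (12,32), (40,0), (16,0), (32,0), (64,0), (160,64)], 66, 4),
    ([(1,0), (194,0), (44,0), (8,32), (16,0), (32,0), (64,0), (128,64)], 67, 1),
    ([(1,0), (162,8), (36,8), (8,32), (16,0), (32,0), (64,0), (224,0)], 67, 4),
    ([(1,0), (42,128), (4,40), (40,0), (16,0), (32,0), (64,0), (192,32)], 68, 4),
    ([(1,0), (66,168), (36,8), (40,0), (16,0), (32,0), (64,0), (224,0)], 68, 5),
    ([(1,0), (66,8), (196,8), (8,64), (16,0), (32,0), (64,0), (224,0)], 70, 0),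
    ([(1,0), (2,108), (4,232), (104,0), (16,0), (32,0), (96,0), (192,32)], 70, 2),
    ([(1,0), (10,64), (4,232), (72,0), (16,0), (32,0), (64,0), (192,32)], 70, 4),
    ([(1,0), (74,0), (4,200), (72,0), (16,0), (32,0), (64,0), (192,32)], 71, 0),
    ([(1,0), (74,0), (4,40), (8,0), (16,0), (32,0), (64,0), (192,32)], 71, 5),
    ([(1,0), (2,72), (36,8), (8,0), (16,0), (32,0), (64,0), (224,0)], 72, 5),
    ([(1,0), (10,196), (196,8), (8,64), (16,0), (32,0), (96,0), (192,0)], 74, 1),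
    ([(1,0), (2,172), (164,0), (8,64), (16,0), (32,0), (96,0), (160,0)], 74, 4),
    ([(1,0), (98,132), (132,32), (8,64), (16,0), (32,0), (96,0), (128,0)], 74, 5),
    ([(1,0), (130,76), (76,128), (72,0), (16,0), (32,0), (96,0), (128,64)], 75, 1),
    ([(1,0), (238,0), (4,232), (104,0), (16,0), (32,0), (64,32), (224,0)], 75, 2),
    ([(1,0), (170,68), (4,232), (72,0), (16,0), (32,0), (96,0), (192,0)], 75, 5),
    ([(1,0), (198,8), (4,200), (104,0), (16,0), (32,0), (64,32), (192,0)], 76, 1),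
    ([(1,0), (166,8), (4,160), (104,0), (16,0), (32,0), (64,32), (160,0)], 76, 4),
    ([(1,0), (198,32), (4,160), (104,0), (16,0), (32,0), (64,32), (128,0)], 76, 5),
    ([(1,0), (34,204), (132,32), (8,64), (16,0), (32,0), (96,0), (160,0)], 77, 0),
    ([(1,0), (138,36), (36,128), (72,0), (16,0), (32,0), (96,0), (128,32)], 77, 4),
    ([(1,0), (194,44), (36,128), (72,0), (16,0), (32,0), (96,0), (160,0)], 77, 5),
    ([(1,0), (130,100), (36,128), (72,0), (16,0), (32,0), (96,0), (128,0)], 78, 5),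
    ([(1,0), (2,172), (44,0), (40,0), (16,0), (32,0), (96,0), (128,64)], 79, 3),
    ([(1,0), (98,12), (12,32), (8,0), (16,0), (32,0), (96,0), (128,64)], 79, 5),
    ([(1,0), (78,128), (4,200), (72,0), (16,0), (32,0), (64,32), (224,0)], 80, 0),
    ([(1,0), (46,128), (4,40), (40,0), (16,0), (32,0), (64,32), (224,0)], 80, 3),
    ([(1,0), (78,32), (4,40), (8,0), (16,0), (32,0), (64,32), (224,0)], 80, 5),
    ([(1,0), (34,204), (12,32), (40,0), (16,0), (32,0), (96,0), (128,64)], 81, 1),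
    ([(1,0), (138,36), (36,8), (8,32), (16,0), (32,0), (96,0), (192,0)], 81, 3),
    ([(1,0), (74,164), (36,8), (40,0), (16,0), (32,0), (96,0), (192,0)], 81, 5),
    ([(1,0), (10,100), (36,8), (8,0), (16,0), (32,0), (96,0), (192,0)], 82, 5),
    ([(1,0), (6,200), (4,200), (72,0), (16,0), (32,0), (64,32), (192,0)], 83, 1),
    ([(1,0), (6,168), (4,160), (72,0), (16,0), (32,0), (64,32), (160,0)], 83, 4),
    ([(1,0), (70,160), (4,160), (72,0), (16,0), (32,0), (64,32), (128,0)], 83, 5),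
    ([(1,0), (6,168), (4,40), (40,0), (16,0), (32,0), (64,32), (192,0)], 84, 3),
    ([(1,0), (70,40), (4,40), (8,0), (16,0), (32,0), (64,32), (192,0)], 84, 5),
    ([(1,0), (6,200), (4,8), (40,0), (16,0), (32,0), (64,32), (192,0)], 85, 1),
    ([(1,0), (134,0), (4,0), (8,32), (16,0), (32,0), (64,32), (128,0)], 85, 3),
    ([(1,0), (6,168), (4,0), (40,0), (16,0), (32,0), (64,32), (160,0)], 85, 4),
    ([(1,0), (70,160), (4,32), (40,0), (16,0), (32,0), (64,32), (128,0)], 85, 5),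
    ([(1,0), (6,200), (4,128), (72,0), (16,0), (32,0), (64,32), (160,0)], 86, 0),
    ([(1,0), (14,0), (4,0), (8,0), (16,0), (32,0), (64,32), (128,32)], 86, 4),
    ([(1,0), (70,40), (4,32), (8,0), (16,0), (32,0), (64,32), (160,0)], 86, 5),
    ([(1,0), (38,64), (36,0), (8,0), (16,0), (32,0), (64,32), (128,0)], 87, 5),
    ([(1,0), (66,140), (12,0), (40,0), (16,0), (32,0), (96,0), (128,64)], 88, 1),
    ([(1,0), (14,224), (4,8), (40,0), (16,0), (32,0), (64,32), (224,0)], 88, 2),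
    ([(1,0), (170,68), (4,40), (8,32), (16,0), (32,0), (96,0), (192,0)], 88, 3),
    ([(1,0), (202,4), (4,8), (8,32), (16,0), (32,0), (96,0), (192,0)], 89, 1),
    ([(1,0), (162,12), (4,0), (8,32), (16,0), (32,0), (96,0), (160,0)], 89, 4),
    ([(1,0), (226,4), (4,32), (8,32), (16,0), (32,0), (96,0), (128,0)], 89, 5),
    ([(1,0), (42,132), (4,0), (40,0), (16,0), (32,0), (96,0), (128,32)], 90, 4),
    ([(1,0), (66,140), (4,32), (40,0), (16,0), (32,0), (96,0), (160,0)], 90, 5),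
    ([(1,0), (2,228), (36,0), (40,0), (16,0), (32,0), (96,0), (128,0)], 91, 5),
    ([(1,0), (66,140), (132,0), (8,64), (16,0), (32,0), (96,0), (160,0)], 92, 0),
    ([(1,0), (134,104), (4,128), (104,0), (16,0), (32,0), (64,32), (160,0)], 92, 2),
    ([(1,0), (170,68), (4,160), (72,0), (16,0), (32,0), (96,0), (128,32)], 92, 4),
    ([(1,0), (202,4), (4,128), (72,0), (16,0), (32,0), (96,0), (128,32)], 93, 0),
    ([(1,0), (106,4), (4,32), (8,0), (16,0), (32,0), (96,0), (128,32)], 93, 5),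
    ([(1,0), (2,108), (36,0), (8,0), (16,0), (32,0), (96,0), (160,0)], 94, 5),
    ([(1,0), (98,132), (12,0), (40,0), (16,0), (32,0), (96,0), (128,96)], 96, 2),
    ([(1,0), (66,168), (12,0), (40,0), (16,0), (32,0), (64,0), (160,64)], 96, 4),
    ([(1,0), (2,100), (4,200), (104,0), (16,0), (32,0), (96,0), (224,0)], 97, 0),
    ([(1,0), (74,164), (12,0), (40,0), (16,0), (32,0), (96,0), (160,64)], 97, 1),
    ([(1,0), (38,192), (4,8), (40,0), (16,0), (32,0), (64,32), (192,32)], 97, 2),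
    ([(1,0), (130,100), (4,40), (8,32), (16,0), (32,0), (96,0), (224,0)], 97, 3),
    ([(1,0), (34,204), (4,8), (40,0), (16,0), (32,0), (96,0), (192,32)], 97, 4),
    ([(1,0), (162,72), (4,40), (8,32), (16,0), (32,0), (64,0), (224,0)], 98, 4),
    ([(1,0), (66,168), (4,200), (104,0), (16,0), (32,0), (64,0), (224,0)], 99, 0),
    ([(1,0), (42,192), (4,8), (40,0), (16,0), (32,0), (64,0), (192,32)], 99, 4),
    ([(1,0), (226,4), (4,8), (8,32), (16,0), (32,0), (96,0), (224,0)], 100, 2),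
    ([(1,0), (226,8), (4,8), (8,32), (16,0), (32,0), (64,0), (224,0)], 100, 4),
    ([(1,0), (162,72), (4,128), (72,32), (16,0), (32,0), (64,0), (160,0)], 101, 0),
    ([(1,0), (138,32), (4,0), (8,32), (16,0), (32,0), (64,0), (128,32)], 101, 4),
    ([(1,0), (226,8), (4,32), (8,32), (16,0), (32,0), (64,0), (160,0)], 101, 5),
    ([(1,0), (130,64), (36,0), (8,32), (16,0), (32,0), (64,0), (128,0)], 102, 5),
    ([(1,0), (66,168), (132,0), (40,64), (16,0), (32,0), (64,0), (160,0)], 103, 0),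
    ([(1,0), (34,204), (4,128), (72,32), (16,0), (32,0), (96,0), (160,0)], 103, 2),
    ([(1,0), (42,192), (4,160), (104,0), (16,0), (32,0), (64,0), (128,32)], 103, 4),
    ([(1,0), (106,128), (4,128), (104,0), (16,0), (32,0), (64,0), (128,32)], 104, 0),
    ([(1,0), (106,128), (4,32), (40,0), (16,0), (32,0), (64,0), (128,32)], 104, 5),
    ([(1,0), (2,232), (36,0), (40,0), (16,0), (32,0), (64,0), (160,0)], 105, 5),
    ([(1,0), (98,12), (132,0), (8,96), (16,0), (32,0), (96,0), (160,0)], 107, 2),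
    ([(1,0), (194,44), (132,0), (40,64), (16,0), (32,0), (96,0), (160,0)], 108, 0),
    ([(1,0), (38,72), (4,128), (72,32), (16,0), (32,0), (64,32), (160,0)], 108, 2),
    ([(1,0), (10,100), (4,160), (104,0), (16,0), (32,0), (96,0), (128,32)], 108, 4),
    ([(1,0), (106,4), (4,128), (104,0), (16,0), (32,0), (96,0), (128,32)], 110, 2),
    ([(1,0), (10,64), (36,0), (8,0), (16,0), (32,0), (64,0), (128,32)], 111, 5),
    ([(1,0), (2,4), (140,96), (8,96), (16,0), (32,0), (96,0), (128,96)], 113, 2),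
    ([(1,0), (2,128), (172,64), (40,64), (16,0), (32,0), (64,0), (128,64)], 113, 3),
    ([(1,0), (2,8), (172,64), (8,64), (16,0), (32,0), (64,0), (160,64)], 113, 4),
    ([(1,0), (66,0), (140,96), (8,64), (16,0), (32,0), (64,0), (128,64)], 113, 5),
    ([(1,0), (10,4), (172,64), (8,96), (16,0), (32,0), (96,0), (160,64)], 114, 1),
    ([(1,0), (6,0), (196,40), (40,64), (16,0), (32,0), (64,32), (192,32)], 114, 2),
    ([(1,0), (2,12), (196,40), (8,96), (16,0), (32,0), (96,0), (192,32)], 114, 4),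
    ([(1,0), (98,4), (196,8), (8,96), (16,0), (32,0), (96,0), (224,0)], 114, 5),
    ([(1,0), (2,192), (140,96), (40,64), (16,0), (32,0), (64,0), (128,64)], 115, 1),
    ([(1,0), (130,0), (228,8), (8,96), (16,0), (32,0), (64,0), (192,0)], 115, 3),
    ([(1,0), (2,168), (196,8), (40,64), (16,0), (32,0), (64,0), (224,0)], 115, 4),
    ([(1,0), (66,128), (228,8), (40,64), (16,0), (32,0), (64,0), (192,0)], 115, 5),
    ([(1,0), (10,0), (196,40), (8,64), (16,0), (32,0), (64,0), (192,32)], 116, 4),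
    ([(1,0), (2,64), (228,8), (8,64), (16,0), (32,0), (64,0), (192,0)], 117, 5),
    ([(1,0), (2,12), (140,64), (8,96), (16,0), (32,0), (96,0), (128,64)], 118, 1),
    ([(1,0), (14,0), (228,8), (40,64), (16,0), (32,0), (64,32), (224,0)], 118, 2),
    ([(1,0), (42,132), (196,40), (8,64), (16,0), (32,0), (96,0), (192,0)], 118, 3),
    ([(1,0), (106,4), (196,40), (8,96), (16,0), (32,0), (96,0), (192,0)], 118, 5),
    ([(1,0), (6,8), (196,8), (40,64), (16,0), (32,0), (64,32), (192,0)], 119, 1),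
    ([(1,0), (6,8), (164,0), (40,64), (16,0), (32,0), (64,32), (160,0)], 119, 4),
    ([(1,0), (70,32), (132,32), (40,64), (16,0), (32,0), (64,32), (128,0)], 119, 5),
    ([(1,0), (130,76), (36,0), (8,32), (16,0), (32,0), (96,0), (160,0)], 120, 0),
    ([(1,0), (10,4), (132,32), (8,96), (16,0), (32,0), (96,0), (128,32)], 120, 4),
    ([(1,0), (2,100), (164,0), (8,96), (16,0), (32,0), (96,0), (128,0)], 121, 5),
    ([(1,0), (66,128), (140,64), (40,64), (16,0), (32,0), (64,0), (128,64)], 122, 1),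
    ([(1,0), (2,228), (228,8), (8,64), (16,0), (32,0), (96,0), (224,0)], 122, 2),
    ([(1,0), (130,64), (196,40), (8,96), (16,0), (32,0), (64,0), (192,0)], 122, 3),
    ([(1,0), (2,232), (228,8), (40,64), (16,0), (32,0), (64,0), (224,0)], 122, 4),
    ([(1,0), (194,0), (196,8), (8,96), (16,0), (32,0), (64,0), (192,0)], 123, 1),
    ([(1,0), (162,8), (164,0), (8,96), (16,0), (32,0), (64,0), (160,0)], 123, 4),
    ([(1,0), (194,0), (132,32), (8,96), (16,0), (32,0), (64,0), (128,0)], 123, 5),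
    ([(1,0), (42,128), (132,32), (40,64), (16,0), (32,0), (64,0), (128,32)], 124, 4),
    ([(1,0), (2,192), (164,0), (40,64), (16,0), (32,0), (64,0), (128,0)], 125, 5),
    ([(1,0), (130,4), (172,64), (40,64), (16,0), (32,0), (96,0), (128,96)], 128, 0),
    ([(1,0), (6,0), (76,160), (72,32), (16,0), (32,0), (64,32), (160,64)], 128, 2),
    ([(1,0), (2,132), (76,160), (72,32), (16,0), (32,0), (96,0), (128,96)], 128, 3),
    ([(1,0), (98,4), (76,128), (104,0), (16,0), (32,0), (96,0), (128,96)], 128, 5),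
    ([(1,0), (130,0), (76,160), (72,32), (16,0), (32,0), (64,0), (128,64)], 129, 3),
    ([(1,0), (2,168), (76,128), (104,0), (16,0), (32,0), (64,0), (160,64)], 129, 4),
    ([(1,0), (2,72), (140,96), (8,64), (16,0), (32,0), (64,0), (160,64)], 130, 0),
    ([(1,0), (10,0), (108,128), (72,0), (16,0), (32,0), (64,0), (128,96)], 130, 4),
    ([(1,0), (66,8), (108,128), (72,0), (16,0), (32,0), (64,0), (160,64)], 130, 5),
    ([(1,0), (2,64), (108,128), (72,0), (16,0), (32,0), (64,0), (128,64)], 131, 5),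
    ([(1,0), (202,4), (140,96), (40,64), (16,0), (32,0), (96,0), (160,64)], 132, 1),
    ([(1,0), (134,0), (196,8), (8,64), (16,0), (32,0), (64,32), (192,32)], 132, 2),
    ([(1,0), (162,12), (196,8), (40,64), (16,0), (32,0), (96,0), (192,32)], 132, 4),
    ([(1,0), (226,4), (228,8), (40,64), (16,0), (32,0), (96,0), (224,0)], 132, 5),
    ([(1,0), (14,0), (76,128), (72,32), (16,0), (32,0), (64,32), (128,64)], 133, 2),
    ([(1,0), (42,132), (76,128), (72,32), (16,0), (32,0), (96,0), (160,64)], 133, 3),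
    ([(1,0), (106,4), (108,128), (104,0), (16,0), (32,0), (96,0), (160,64)], 133, 5),
    ([(1,0), (6,128), (228,8), (8,96), (16,0), (32,0), (64,32), (192,32)], 134, 0),
    ([(1,0), (6,8), (108,128), (72,32), (16,0), (32,0), (64,32), (128,96)], 134, 1),
    ([(1,0), (70,32), (4,200), (72,32), (16,0), (32,0), (64,32), (192,32)], 134, 5),
    ([(1,0), (10,196), (108,128), (72,32), (16,0), (32,0), (96,0), (160,64)], 135, 1),
    ([(1,0), (2,172), (4,200), (72,32), (16,0), (32,0), (96,0), (192,32)], 135, 4),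
    ([(1,0), (98,132), (4,200), (72,32), (16,0), (32,0), (96,0), (224,0)], 135, 5),
    ([(1,0), (130,76), (228,8), (40,64), (16,0), (32,0), (96,0), (192,32)], 136, 0),
    ([(1,0), (98,12), (4,200), (104,0), (16,0), (32,0), (96,0), (192,32)], 136, 5),
    ([(1,0), (2,228), (76,128), (72,32), (16,0), (32,0), (96,0), (128,96)], 138, 2),
    ([(1,0), (130,64), (76,128), (72,32), (16,0), (32,0), (64,0), (128,64)], 138, 3),
    ([(1,0), (2,232), (108,128), (104,0), (16,0), (32,0), (64,0), (160,64)], 138, 4),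
    ([(1,0), (194,0), (108,128), (72,32), (16,0), (32,0), (64,0), (128,64)], 139, 1),
    ([(1,0), (162,8), (4,200), (72,32), (16,0), (32,0), (64,0), (224,0)], 139, 4),
    ([(1,0), (42,128), (4,200), (104,0), (16,0), (32,0), (64,0), (192,32)], 140, 4),
    ([(1,0), (2,108), (196,8), (8,96), (16,0), (32,0), (96,0), (192,32)], 142, 2),
    ([(1,0), (10,64), (196,8), (8,64), (16,0), (32,0), (64,0), (192,32)], 142, 4),
    ([(1,0), (74,0), (228,8), (8,64), (16,0), (32,0), (64,0), (192,32)], 143, 0),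
    ([(1,0), (130,76), (140,64), (40,64), (16,0), (32,0), (96,0), (128,64)], 146, 1),
    ([(1,0), (238,0), (228,8), (8,64), (16,0), (32,0), (64,32), (224,0)], 146, 2),
    ([(1,0), (170,68), (196,40), (40,64), (16,0), (32,0), (96,0), (192,0)], 146, 5),
    ([(1,0), (198,8), (196,8), (8,64), (16,0), (32,0), (64,32), (192,0)], 147, 1),
    ([(1,0), (166,8), (164,0), (8,64), (16,0), (32,0), (64,32), (160,0)], 147, 4),
    ([(1,0), (198,32), (132,32), (8,64), (16,0), (32,0), (64,32), (128,0)], 147, 5),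
    ([(1,0), (34,204), (36,0), (40,0), (16,0), (32,0), (96,0), (160,0)], 148, 0),
    ([(1,0), (138,36), (132,32), (40,64), (16,0), (32,0), (96,0), (128,32)], 148, 4),
    ([(1,0), (130,100), (164,0), (40,64), (16,0), (32,0), (96,0), (128,0)], 149, 5),
    ([(1,0), (2,172), (108,128), (72,32), (16,0), (32,0), (96,0), (128,64)], 150, 3),
    ([(1,0), (98,12), (76,160), (104,0), (16,0), (32,0), (96,0), (128,64)], 150, 5),
    ([(1,0), (78,128), (196,40), (8,96), (16,0), (32,0), (64,32), (224,0)], 151, 0),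
    ([(1,0), (46,128), (36,200), (72,0), (16,0), (32,0), (64,32), (224,0)], 151, 3),
    ([(1,0), (78,32), (36,200), (72,32), (16,0), (32,0), (64,32), (224,0)], 151, 5),
    ([(1,0), (34,204), (76,160), (72,32), (16,0), (32,0), (96,0), (128,64)], 152, 1),
    ([(1,0), (138,36), (36,200), (72,0), (16,0), (32,0), (96,0), (192,0)], 152, 3),
    ([(1,0), (74,164), (36,200), (72,32), (16,0), (32,0), (96,0), (192,0)], 152, 5),
    ([(1,0), (10,100), (36,200), (104,0), (16,0), (32,0), (96,0), (192,0)], 153, 5),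
    ([(1,0), (6,200), (196,8), (8,96), (16,0), (32,0), (64,32), (192,0)], 154, 1),
    ([(1,0), (6,168), (164,0), (8,96), (16,0), (32,0), (64,32), (160,0)], 154, 4),
    ([(1,0), (70,160), (132,32), (8,96), (16,0), (32,0), (64,32), (128,0)], 154, 5),
    ([(1,0), (6,168), (4,232), (72,0), (16,0), (32,0), (64,32), (192,0)], 155, 3),
    ([(1,0), (70,40), (4,232), (72,32), (16,0), (32,0), (64,32), (192,0)], 155, 5),
    ([(1,0), (6,200), (132,32), (8,96), (16,0), (32,0), (64,32), (160,0)], 156, 0),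
    ([(1,0), (14,0), (36,128), (72,32), (16,0), (32,0), (64,32), (128,32)], 156, 4),
    ([(1,0), (70,40), (36,128), (72,32), (16,0), (32,0), (64,32), (160,0)], 156, 5),
    ([(1,0), (38,64), (36,128), (72,32), (16,0), (32,0), (64,32), (128,0)], 157, 5),
    ([(1,0), (66,140), (76,128), (72,32), (16,0), (32,0), (96,0), (128,64)], 158, 1),
    ([(1,0), (14,224), (4,232), (72,0), (16,0), (32,0), (64,32), (224,0)], 158, 2),
    ([(1,0), (42,132), (36,128), (72,32), (16,0), (32,0), (96,0), (128,32)], 159, 4),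
    ([(1,0), (66,140), (36,128), (72,32), (16,0), (32,0), (96,0), (160,0)], 159, 5),
    ([(1,0), (2,228), (36,128), (72,32), (16,0), (32,0), (96,0), (128,0)], 160, 5),
    ([(1,0), (134,104), (132,32), (8,64), (16,0), (32,0), (64,32), (160,0)], 161, 2),
    ([(1,0), (170,68), (132,0), (40,64), (16,0), (32,0), (96,0), (128,32)], 161, 4),
    ([(1,0), (202,4), (164,0), (40,64), (16,0), (32,0), (96,0), (128,32)], 162, 0),
    ([(1,0), (98,132), (108,128), (72,32), (16,0), (32,0), (96,0), (128,96)], 165, 2),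
    ([(1,0), (66,168), (76,160), (104,0), (16,0), (32,0), (64,0), (160,64)], 165, 4),
    ([(1,0), (2,100), (196,40), (8,96), (16,0), (32,0), (96,0), (224,0)], 166, 0),
    ([(1,0), (74,164), (76,160), (72,32), (16,0), (32,0), (96,0), (160,64)], 166, 1),
    ([(1,0), (38,192), (36,200), (72,0), (16,0), (32,0), (64,32), (192,32)], 166, 2),
    ([(1,0), (130,100), (36,200), (72,0), (16,0), (32,0), (96,0), (224,0)], 166, 3),
    ([(1,0), (34,204), (36,200), (72,32), (16,0), (32,0), (96,0), (192,32)], 166, 4),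
    ([(1,0), (162,72), (36,200), (72,32), (16,0), (32,0), (64,0), (224,0)], 167, 4),
    ([(1,0), (66,168), (196,40), (40,64), (16,0), (32,0), (64,0), (224,0)], 168, 0),
    ([(1,0), (42,192), (36,200), (104,0), (16,0), (32,0), (64,0), (192,32)], 168, 4),
    ([(1,0), (226,8), (4,232), (72,32), (16,0), (32,0), (64,0), (224,0)], 169, 4),
    ([(1,0), (162,72), (132,32), (8,96), (16,0), (32,0), (64,0), (160,0)], 170, 0),
    ([(1,0), (138,32), (36,128), (72,32), (16,0), (32,0), (64,0), (128,32)], 170, 4),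
    ([(1,0), (226,8), (36,128), (72,32), (16,0), (32,0), (64,0), (160,0)], 170, 5),
    ([(1,0), (130,64), (36,128), (72,32), (16,0), (32,0), (64,0), (128,0)], 171, 5),
    ([(1,0), (42,192), (132,0), (40,64), (16,0), (32,0), (64,0), (128,32)], 172, 4),
    ([(1,0), (106,128), (164,0), (40,64), (16,0), (32,0), (64,0), (128,32)], 173, 0),
    ([(1,0), (194,44), (4,32), (8,32), (16,0), (32,0), (96,0), (160,0)], 176, 0),
    ([(1,0), (38,72), (132,32), (40,64), (16,0), (32,0), (64,32), (160,0)], 176, 2),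
    ([(1,0), (10,100), (132,0), (8,96), (16,0), (32,0), (96,0), (128,32)], 176, 4),
    ([(1,0), (106,4), (164,0), (8,96), (16,0), (32,0), (96,0), (128,32)], 178, 2),
    ([(1,0), (2,132), (140,64), (8,64), (16,0), (32,0), (96,0), (128,96)], 179, 0),
    ([(1,0), (134,0), (108,128), (104,0), (16,0), (32,0), (64,32), (160,64)], 179, 2),
    ([(1,0), (162,12), (76,160), (72,0), (16,0), (32,0), (96,0), (128,64)], 179, 4),
    ([(1,0), (226,4), (76,160), (72,0), (16,0), (32,0), (96,0), (128,96)], 179, 5),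
    ([(1,0), (6,128), (76,128), (72,0), (16,0), (32,0), (64,32), (160,64)], 180, 0),
    ([(1,0), (6,128), (44,0), (40,0), (16,0), (32,0), (64,32), (160,64)], 180, 3),
    ([(1,0), (70,32), (12,32), (8,0), (16,0), (32,0), (64,32), (160,64)], 180, 5),
    ([(1,0), (10,196), (36,0), (40,0), (16,0), (32,0), (96,0), (128,32)], 181, 1),
    ([(1,0), (130,4), (12,32), (8,32), (16,0), (32,0), (96,0), (128,96)], 181, 3),
    ([(1,0), (2,100), (44,0), (8,0), (16,0), (32,0), (96,0), (128,96)], 182, 5),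
    ([(1,0), (162,8), (12,32), (8,32), (16,0), (32,0), (64,0), (160,64)], 183, 4),
    ([(1,0), (42,128), (44,0), (40,0), (16,0), (32,0), (64,0), (128,96)], 184, 4),
    ([(1,0), (66,8), (140,64), (8,64), (16,0), (32,0), (64,0), (160,64)], 185, 0),
    ([(1,0), (2,108), (108,128), (104,0), (16,0), (32,0), (96,0), (128,64)], 185, 2),
    ([(1,0), (10,64), (76,160), (72,0), (16,0), (32,0), (64,0), (128,96)], 185, 4),
    ([(1,0), (74,0), (76,128), (72,0), (16,0), (32,0), (64,0), (128,96)], 186, 0),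
    ([(1,0), (74,0), (12,32), (8,0), (16,0), (32,0), (64,0), (128,96)], 186, 5),
    ([(1,0), (2,72), (44,0), (8,0), (16,0), (32,0), (64,0), (160,64)], 187, 5),
    ([(1,0), (10,196), (140,64), (8,64), (16,0), (32,0), (96,0), (160,64)], 189, 1),
    ([(1,0), (2,172), (228,8), (8,64), (16,0), (32,0), (96,0), (192,32)], 189, 4),
    ([(1,0), (98,132), (196,40), (8,64), (16,0), (32,0), (96,0), (224,0)], 189, 5),
    ([(1,0), (238,0), (108,128), (104,0), (16,0), (32,0), (64,32), (128,64)], 190, 2),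
    ([(1,0), (170,68), (76,160), (72,0), (16,0), (32,0), (96,0), (160,64)], 190, 5),
    ([(1,0), (198,8), (76,160), (104,0), (16,0), (32,0), (64,32), (128,96)], 191, 1),
    ([(1,0), (166,8), (36,200), (104,0), (16,0), (32,0), (64,32), (192,0)], 191, 4),
    ([(1,0), (198,32), (36,200), (104,0), (16,0), (32,0), (64,32), (192,32)], 191, 5),
    ([(1,0), (34,204), (196,40), (8,64), (16,0), (32,0), (96,0), (192,32)], 192, 0),
    ([(1,0), (194,44), (36,200), (72,0), (16,0), (32,0), (96,0), (192,32)], 192, 5),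
    ([(1,0), (78,128), (76,128), (72,0), (16,0), (32,0), (64,32), (128,64)], 194, 0),
    ([(1,0), (46,128), (44,0), (40,0), (16,0), (32,0), (64,32), (128,64)], 194, 3),
    ([(1,0), (78,32), (12,32), (8,0), (16,0), (32,0), (64,32), (128,64)], 194, 5),
    ([(1,0), (138,36), (12,32), (8,32), (16,0), (32,0), (96,0), (160,64)], 195, 3),
    ([(1,0), (10,100), (44,0), (8,0), (16,0), (32,0), (96,0), (160,64)], 196, 5),
    ([(1,0), (6,200), (76,128), (72,0), (16,0), (32,0), (64,32), (128,96)], 197, 1),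
    ([(1,0), (70,160), (4,232), (72,0), (16,0), (32,0), (64,32), (192,32)], 197, 5),
    ([(1,0), (6,168), (44,0), (40,0), (16,0), (32,0), (64,32), (128,96)], 198, 3),
    ([(1,0), (70,40), (12,32), (8,0), (16,0), (32,0), (64,32), (128,96)], 198, 5),
    ([(1,0), (6,200), (12,32), (40,0), (16,0), (32,0), (64,32), (128,96)], 199, 1),
    ([(1,0), (134,0), (36,8), (8,32), (16,0), (32,0), (64,32), (192,32)], 199, 3),
    ([(1,0), (70,160), (36,8), (40,0), (16,0), (32,0), (64,32), (192,32)], 199, 5),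
    ([(1,0), (38,64), (36,8), (8,0), (16,0), (32,0), (64,32), (192,32)], 200, 5),
    ([(1,0), (14,224), (12,32), (40,0), (16,0), (32,0), (64,32), (128,64)], 201, 2),
    ([(1,0), (170,68), (12,0), (8,32), (16,0), (32,0), (96,0), (160,64)], 201, 3),
    ([(1,0), (202,4), (44,0), (8,32), (16,0), (32,0), (96,0), (160,64)], 202, 1),
    ([(1,0), (162,12), (36,8), (8,32), (16,0), (32,0), (96,0), (192,32)], 202, 4),
    ([(1,0), (66,140), (36,8), (40,0), (16,0), (32,0), (96,0), (192,32)], 203, 5),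
    ([(1,0), (66,140), (196,8), (8,64), (16,0), (32,0), (96,0), (192,32)], 205, 0),
    ([(1,0), (134,104), (4,232), (104,0), (16,0), (32,0), (64,32), (192,0)], 205, 2),
    ([(1,0), (2,108), (36,8), (8,0), (16,0), (32,0), (96,0), (192,32)], 206, 5),
    ([(1,0), (2,100), (76,160), (104,0), (16,0), (32,0), (96,0), (128,96)], 208, 0),
    ([(1,0), (74,164), (4,32), (40,0), (16,0), (32,0), (96,0), (128,32)], 208, 1),
    ([(1,0), (38,192), (12,32), (40,0), (16,0), (32,0), (64,32), (160,64)], 208, 2),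
    ([(1,0), (130,100), (12,0), (8,32), (16,0), (32,0), (96,0), (128,96)], 208, 3),
    ([(1,0), (162,72), (12,0), (8,32), (16,0), (32,0), (64,0), (160,64)], 209, 4),
    ([(1,0), (42,192), (12,32), (40,0), (16,0), (32,0), (64,0), (128,96)], 210, 4),
    ([(1,0), (226,4), (44,0), (8,32), (16,0), (32,0), (96,0), (128,96)], 211, 2),
    ([(1,0), (226,8), (44,0), (8,32), (16,0), (32,0), (64,0), (160,64)], 211, 4),
    ([(1,0), (138,32), (36,8), (8,32), (16,0), (32,0), (64,0), (192,32)], 212, 4),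
    ([(1,0), (106,128), (4,232), (104,0), (16,0), (32,0), (64,0), (192,32)], 213, 0),
    ([(1,0), (106,128), (36,8), (40,0), (16,0), (32,0), (64,0), (192,32)], 213, 5),
    ([(1,0), (98,12), (228,8), (8,96), (16,0), (32,0), (96,0), (192,32)], 215, 2),
    ([(1,0), (194,44), (196,40), (40,64), (16,0), (32,0), (96,0), (192,32)], 216, 0),
    ([(1,0), (38,72), (36,200), (72,32), (16,0), (32,0), (64,32), (192,0)], 216, 2),
    ([(1,0), (10,64), (36,8), (8,0), (16,0), (32,0), (64,0), (192,32)], 219, 5),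
    ([(1,0), (66,140), (140,64), (8,64), (16,0), (32,0), (96,0), (128,64)], 221, 1),
    ([(1,0), (14,224), (228,8), (8,96), (16,0), (32,0), (64,32), (224,0)], 221, 2),
    ([(1,0), (42,132), (132,32), (8,64), (16,0), (32,0), (96,0), (128,32)], 222, 4),
    ([(1,0), (2,228), (164,0), (8,64), (16,0), (32,0), (96,0), (128,0)], 223, 5),
    ([(1,0), (134,104), (108,128), (104,0), (16,0), (32,0), (64,32), (128,96)], 224, 2),
    ([(1,0), (46,64), (196,40), (40,64), (16,0), (32,0), (64,32), (224,0)], 225, 0),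
    ([(1,0), (166,64), (76,160), (104,0), (16,0), (32,0), (64,32), (160,64)], 225, 1),
    ([(1,0), (202,32), (36,200), (72,32), (16,0), (32,0), (64,0), (192,32)], 225, 2),
    ([(1,0), (142,64), (36,200), (104,0), (16,0), (32,0), (64,32), (224,0)], 225, 5),
    ([(1,0), (142,64), (76,128), (104,0), (16,0), (32,0), (64,32), (128,64)], 227, 1),
    ([(1,0), (142,32), (36,128), (104,0), (16,0), (32,0), (64,32), (128,32)], 228, 4),
    ([(1,0), (198,8), (36,128), (104,0), (16,0), (32,0), (64,32), (160,0)], 228, 5),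
    ([(1,0), (166,64), (36,128), (104,0), (16,0), (32,0), (64,32), (128,0)], 229, 5),
    ([(1,0), (10,196), (132,0), (8,64), (16,0), (32,0), (96,0), (128,32)], 230, 4),
    ([(1,0), (74,164), (164,0), (8,64), (16,0), (32,0), (96,0), (128,32)], 231, 0),
    ([(1,0), (162,12), (12,32), (8,32), (16,0), (32,0), (96,0), (128,64)], 234, 3),
    ([(1,0), (2,108), (44,0), (8,0), (16,0), (32,0), (96,0), (128,64)], 235, 5),
    ([(1,0), (142,64), (196,8), (8,64), (16,0), (32,0), (64,32), (224,0)], 236, 0),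
    ([(1,0), (142,32), (36,8), (8,32), (16,0), (32,0), (64,32), (224,0)], 237, 3),
    ([(1,0), (78,128), (36,8), (40,0), (16,0), (32,0), (64,32), (224,0)], 237, 5),
    ([(1,0), (46,64), (36,8), (8,0), (16,0), (32,0), (64,32), (224,0)], 238, 5),
    ([(1,0), (130,76), (12,0), (8,32), (16,0), (32,0), (96,0), (128,64)], 239, 3),
    ([(1,0), (194,44), (44,0), (8,32), (16,0), (32,0), (96,0), (128,64)], 240, 1),
    ([(1,0), (46,128), (36,128), (72,0), (16,0), (32,0), (64,32), (128,32)], 244, 4),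
    ([(1,0), (102,136), (36,128), (72,0), (16,0), (32,0), (64,32), (160,0)], 244, 5),
    ([(1,0), (38,192), (36,128), (72,0), (16,0), (32,0), (64,32), (128,0)], 245, 5),
    ([(1,0), (166,8), (36,8), (8,32), (16,0), (32,0), (64,32), (192,0)], 246, 3),
    ([(1,0), (102,136), (36,8), (40,0), (16,0), (32,0), (64,32), (192,0)], 246, 5),
    ([(1,0), (38,72), (36,8), (8,0), (16,0), (32,0), (64,32), (192,0)], 247, 5),
    ([(1,0), (78,128), (12,0), (40,0), (16,0), (32,0), (64,32), (128,64)], 248, 1),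
    ([(1,0), (134,104), (4,40), (8,32), (16,0), (32,0), (64,32), (192,0)], 248, 3),
    ([(1,0), (198,8), (4,8), (8,32), (16,0), (32,0), (64,32), (192,0)], 249, 1),
    ([(1,0), (166,8), (4,0), (8,32), (16,0), (32,0), (64,32), (160,0)], 249, 4),
    ([(1,0), (198,32), (4,32), (8,32), (16,0), (32,0), (64,32), (128,0)], 249, 5),
    ([(1,0), (46,128), (4,0), (40,0), (16,0), (32,0), (64,32), (128,32)], 250, 4),
    ([(1,0), (102,136), (4,32), (40,0), (16,0), (32,0), (64,32), (160,0)], 250, 5),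
    ([(1,0), (38,192), (36,0), (40,0), (16,0), (32,0), (64,32), (128,0)], 251, 5),
    ([(1,0), (198,8), (132,0), (8,64), (16,0), (32,0), (64,32), (160,0)], 252, 0),
    ([(1,0), (14,224), (4,160), (72,0), (16,0), (32,0), (64,32), (128,32)], 252, 4),
    ([(1,0), (78,128), (4,128), (72,0), (16,0), (32,0), (64,32), (128,32)], 253, 0),
    ([(1,0), (78,32), (4,32), (8,0), (16,0), (32,0), (64,32), (128,32)], 253, 5),
    ([(1,0), (38,72), (36,0), (8,0), (16,0), (32,0), (64,32), (160,0)], 254, 5),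
    ([(1,0), (102,136), (12,0), (40,0), (16,0), (32,0), (64,32), (128,96)], 256, 2),
    ([(1,0), (142,32), (4,200), (104,0), (16,0), (32,0), (64,32), (224,0)], 257, 0),
    ([(1,0), (70,160), (12,0), (40,0), (16,0), (32,0), (64,32), (160,64)], 257, 1),
    ([(1,0), (142,64), (4,40), (8,32), (16,0), (32,0), (64,32), (224,0)], 257, 3),
    ([(1,0), (238,0), (4,8), (8,32), (16,0), (32,0), (64,32), (224,0)], 259, 2),
    ([(1,0), (138,36), (4,0), (8,32), (16,0), (32,0), (96,0), (128,32)], 260, 4),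
    ([(1,0), (130,100), (36,0), (8,32), (16,0), (32,0), (96,0), (128,0)], 261, 5),
    ([(1,0), (102,136), (132,0), (8,96), (16,0), (32,0), (64,32), (160,0)], 265, 2),
    ([(1,0), (70,40), (132,0), (40,64), (16,0), (32,0), (64,32), (160,0)], 266, 0),
    ([(1,0), (142,64), (4,160), (104,0), (16,0), (32,0), (64,32), (128,32)], 266, 4),
    ([(1,0), (238,0), (4,128), (104,0), (16,0), (32,0), (64,32), (128,32)], 268, 2),
    ([(1,0), (10,100), (36,0), (8,0), (16,0), (32,0), (96,0), (128,32)], 269, 5),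
    ([(1,0), (106,128), (12,0), (40,0), (16,0), (32,0), (64,0), (128,96)], 272, 4),
    ([(1,0), (130,100), (196,8), (40,64), (16,0), (32,0), (96,0), (224,0)], 273, 0),
    ([(1,0), (10,100), (76,128), (104,0), (16,0), (32,0), (96,0), (160,64)], 273, 1),
    ([(1,0), (38,64), (4,232), (72,32), (16,0), (32,0), (64,32), (192,32)], 273, 2),
    ([(1,0), (166,64), (4,200), (104,0), (16,0), (32,0), (64,32), (192,32)], 275, 0),
    ([(1,0), (166,64), (4,40), (8,32), (16,0), (32,0), (64,32), (192,32)], 275, 3),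
    ([(1,0), (130,76), (4,40), (8,32), (16,0), (32,0), (96,0), (192,32)], 276, 4),
    ([(1,0), (138,96), (4,40), (8,32), (16,0), (32,0), (64,0), (192,32)], 278, 4),
    ([(1,0), (66,140), (4,232), (72,32), (16,0), (32,0), (96,0), (192,32)], 279, 2),
    ([(1,0), (198,32), (4,8), (8,32), (16,0), (32,0), (64,32), (192,32)], 281, 2),
    ([(1,0), (194,44), (4,8), (8,32), (16,0), (32,0), (96,0), (192,32)], 281, 4),
    ([(1,0), (202,32), (4,8), (8,32), (16,0), (32,0), (64,0), (192,32)], 282, 4),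
    ([(1,0), (226,8), (132,0), (8,96), (16,0), (32,0), (64,0), (160,0)], 283, 0),
    ([(1,0), (138,96), (4,160), (72,32), (16,0), (32,0), (64,0), (128,32)], 283, 4),
    ([(1,0), (202,32), (4,128), (72,32), (16,0), (32,0), (64,0), (128,32)], 284, 0),
    ([(1,0), (202,32), (4,32), (8,32), (16,0), (32,0), (64,0), (128,32)], 284, 5),
    ([(1,0), (162,72), (36,0), (8,32), (16,0), (32,0), (64,0), (160,0)], 285, 5),
    ([(1,0), (10,196), (4,160), (72,32), (16,0), (32,0), (96,0), (128,32)], 288, 4),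
    ([(1,0), (74,164), (4,128), (72,32), (16,0), (32,0), (96,0), (128,32)], 290, 2),
    ([(1,0), (42,192), (36,0), (40,0), (16,0), (32,0), (64,0), (128,32)], 291, 5),
    ([(1,0), (46,64), (4,200), (72,32), (16,0), (32,0), (64,32), (224,0)], 295, 1),
    ([(1,0), (46,64), (4,160), (72,32), (16,0), (32,0), (64,32), (128,32)], 295, 4),
    ([(1,0), (78,32), (4,128), (72,32), (16,0), (32,0), (64,32), (128,32)], 297, 2),
    ([(1,0), (6,0), (172,64), (40,64), (16,0), (32,0), (64,32), (160,64)], 299, 2),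
    ([(1,0), (98,4), (172,64), (8,96), (16,0), (32,0), (96,0), (128,96)], 299, 5),
    ([(1,0), (130,0), (140,96), (8,96), (16,0), (32,0), (64,0), (128,64)], 300, 3),
    ([(1,0), (2,168), (140,96), (40,64), (16,0), (32,0), (64,0), (160,64)], 300, 4),
    ([(1,0), (10,0), (140,96), (8,64), (16,0), (32,0), (64,0), (128,96)], 301, 4),
    ([(1,0), (2,64), (172,64), (8,64), (16,0), (32,0), (64,0), (128,64)], 302, 5),
    ([(1,0), (14,0), (140,64), (40,64), (16,0), (32,0), (64,32), (128,64)], 303, 2),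
    ([(1,0), (42,132), (140,96), (8,64), (16,0), (32,0), (96,0), (160,64)], 303, 3),
    ([(1,0), (106,4), (140,64), (8,96), (16,0), (32,0), (96,0), (160,64)], 303, 5),
    ([(1,0), (6,8), (140,96), (40,64), (16,0), (32,0), (64,32), (128,96)], 304, 1),
    ([(1,0), (70,32), (228,8), (40,64), (16,0), (32,0), (64,32), (192,32)], 304, 5),
    ([(1,0), (2,228), (172,64), (8,64), (16,0), (32,0), (96,0), (128,96)], 307, 2),
    ([(1,0), (130,64), (140,64), (8,96), (16,0), (32,0), (64,0), (128,64)], 307, 3),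
    ([(1,0), (2,232), (140,64), (40,64), (16,0), (32,0), (64,0), (160,64)], 307, 4),
    ([(1,0), (194,0), (172,64), (8,96), (16,0), (32,0), (64,0), (128,64)], 308, 1),
    ([(1,0), (162,8), (196,40), (8,96), (16,0), (32,0), (64,0), (224,0)], 308, 4),
    ([(1,0), (42,128), (228,8), (40,64), (16,0), (32,0), (64,0), (192,32)], 309, 4),
    ([(1,0), (2,172), (172,64), (8,64), (16,0), (32,0), (96,0), (128,64)], 313, 3),
    ([(1,0), (98,12), (140,96), (8,96), (16,0), (32,0), (96,0), (128,64)], 313, 5),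
    ([(1,0), (46,128), (196,8), (8,96), (16,0), (32,0), (64,32), (224,0)], 314, 3),
    ([(1,0), (78,32), (196,8), (40,64), (16,0), (32,0), (64,32), (224,0)], 314, 5),
    ([(1,0), (34,204), (140,96), (8,64), (16,0), (32,0), (96,0), (128,64)], 315, 1),
    ([(1,0), (138,36), (228,8), (40,64), (16,0), (32,0), (96,0), (192,0)], 315, 3),
    ([(1,0), (74,164), (228,8), (8,64), (16,0), (32,0), (96,0), (192,0)], 315, 5),
    ([(1,0), (10,100), (228,8), (8,96), (16,0), (32,0), (96,0), (192,0)], 316, 5),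
    ([(1,0), (6,168), (196,40), (8,96), (16,0), (32,0), (64,32), (192,0)], 317, 3),
    ([(1,0), (70,40), (196,40), (40,64), (16,0), (32,0), (64,32), (192,0)], 317, 5),
    ([(1,0), (6,200), (36,0), (40,0), (16,0), (32,0), (64,32), (160,0)], 318, 0),
    ([(1,0), (14,0), (132,32), (40,64), (16,0), (32,0), (64,32), (128,32)], 318, 4),
    ([(1,0), (38,64), (164,0), (40,64), (16,0), (32,0), (64,32), (128,0)], 319, 5),
    ([(1,0), (134,104), (36,0), (8,32), (16,0), (32,0), (64,32), (160,0)], 320, 2),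
    ([(1,0), (170,68), (36,0), (8,32), (16,0), (32,0), (96,0), (128,32)], 320, 4),
    ([(1,0), (202,4), (4,32), (8,32), (16,0), (32,0), (96,0), (128,32)], 321, 0),
    ([(1,0), (98,132), (140,96), (8,64), (16,0), (32,0), (96,0), (128,96)], 323, 2),
    ([(1,0), (66,168), (172,64), (40,64), (16,0), (32,0), (64,0), (160,64)], 323, 4),
    ([(1,0), (74,164), (172,64), (8,64), (16,0), (32,0), (96,0), (160,64)], 324, 1),
    ([(1,0), (38,192), (196,40), (8,96), (16,0), (32,0), (64,32), (192,32)], 324, 2),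
    ([(1,0), (162,72), (196,8), (8,96), (16,0), (32,0), (64,0), (224,0)], 325, 4),
    ([(1,0), (42,192), (196,40), (40,64), (16,0), (32,0), (64,0), (192,32)], 326, 4),
    ([(1,0), (226,8), (228,8), (8,96), (16,0), (32,0), (64,0), (224,0)], 327, 4),
    ([(1,0), (138,32), (132,32), (8,96), (16,0), (32,0), (64,0), (128,32)], 328, 4),
    ([(1,0), (130,64), (164,0), (8,96), (16,0), (32,0), (64,0), (128,0)], 329, 5),
    ([(1,0), (134,0), (140,64), (8,64), (16,0), (32,0), (64,32), (160,64)], 332, 2),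
    ([(1,0), (162,12), (140,96), (40,64), (16,0), (32,0), (96,0), (128,64)], 332, 4),
    ([(1,0), (226,4), (140,64), (40,64), (16,0), (32,0), (96,0), (128,96)], 332, 5),
    ([(1,0), (6,128), (140,96), (8,96), (16,0), (32,0), (64,32), (160,64)], 333, 0),
    ([(1,0), (70,32), (108,128), (72,32), (16,0), (32,0), (64,32), (160,64)], 333, 5),
    ([(1,0), (162,8), (108,128), (72,32), (16,0), (32,0), (64,0), (160,64)], 336, 4),
    ([(1,0), (42,128), (76,160), (104,0), (16,0), (32,0), (64,0), (128,96)], 337, 4),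
    ([(1,0), (2,108), (172,64), (8,96), (16,0), (32,0), (96,0), (128,64)], 338, 2),
    ([(1,0), (10,64), (140,64), (8,64), (16,0), (32,0), (64,0), (128,96)], 338, 4),
    ([(1,0), (74,0), (172,64), (8,64), (16,0), (32,0), (64,0), (128,96)], 339, 0),
    ([(1,0), (238,0), (172,64), (8,64), (16,0), (32,0), (64,32), (128,64)], 342, 2),
    ([(1,0), (170,68), (172,64), (40,64), (16,0), (32,0), (96,0), (160,64)], 342, 5),
    ([(1,0), (198,8), (140,64), (8,64), (16,0), (32,0), (64,32), (128,96)], 343, 1),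
    ([(1,0), (166,8), (228,8), (8,64), (16,0), (32,0), (64,32), (192,0)], 343, 4),
    ([(1,0), (198,32), (196,40), (8,64), (16,0), (32,0), (64,32), (192,32)], 343, 5),
    ([(1,0), (78,128), (140,64), (8,96), (16,0), (32,0), (64,32), (128,64)], 346, 0),
    ([(1,0), (46,128), (108,128), (72,0), (16,0), (32,0), (64,32), (128,64)], 346, 3),
    ([(1,0), (78,32), (76,160), (72,32), (16,0), (32,0), (64,32), (128,64)], 346, 5),
    ([(1,0), (138,36), (108,128), (72,0), (16,0), (32,0), (96,0), (160,64)], 347, 3),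
    ([(1,0), (6,200), (172,64), (8,96), (16,0), (32,0), (64,32), (128,96)], 349, 1),
    ([(1,0), (70,160), (196,8), (8,96), (16,0), (32,0), (64,32), (192,32)], 349, 5),
    ([(1,0), (6,168), (76,160), (72,0), (16,0), (32,0), (64,32), (128,96)], 350, 3),
    ([(1,0), (70,40), (76,128), (72,32), (16,0), (32,0), (64,32), (128,96)], 350, 5),
    ([(1,0), (14,224), (76,160), (72,0), (16,0), (32,0), (64,32), (128,64)], 352, 2),
    ([(1,0), (134,104), (196,40), (8,64), (16,0), (32,0), (64,32), (192,0)], 355, 2),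
    ([(1,0), (2,100), (140,64), (8,96), (16,0), (32,0), (96,0), (128,96)], 357, 0),
    ([(1,0), (38,192), (108,128), (72,0), (16,0), (32,0), (64,32), (160,64)], 357, 2),
    ([(1,0), (130,100), (108,128), (72,0), (16,0), (32,0), (96,0), (128,96)], 357, 3),
    ([(1,0), (162,72), (76,160), (72,32), (16,0), (32,0), (64,0), (160,64)], 358, 4),
    ([(1,0), (42,192), (76,128), (104,0), (16,0), (32,0), (64,0), (128,96)], 359, 4),
    ([(1,0), (226,8), (76,128), (72,32), (16,0), (32,0), (64,0), (160,64)], 360, 4),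
    ([(1,0), (138,32), (4,232), (72,32), (16,0), (32,0), (64,0), (192,32)], 361, 4),
    ([(1,0), (106,128), (196,8), (40,64), (16,0), (32,0), (64,0), (192,32)], 362, 0),
    ([(1,0), (38,72), (228,8), (40,64), (16,0), (32,0), (64,32), (192,0)], 363, 2),
    ([(1,0), (134,104), (140,96), (8,64), (16,0), (32,0), (64,32), (128,96)], 366, 2),
    ([(1,0), (166,64), (172,64), (8,64), (16,0), (32,0), (64,32), (160,64)], 367, 1),
    ([(1,0), (202,32), (196,40), (8,96), (16,0), (32,0), (64,0), (192,32)], 367, 2),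
    ([(1,0), (142,64), (140,64), (8,64), (16,0), (32,0), (64,32), (128,64)], 369, 1),
    ([(1,0), (142,32), (132,32), (8,64), (16,0), (32,0), (64,32), (128,32)], 370, 4),
    ([(1,0), (166,64), (164,0), (8,64), (16,0), (32,0), (64,32), (128,0)], 371, 5),
    ([(1,0), (194,44), (108,128), (72,0), (16,0), (32,0), (96,0), (128,64)], 381, 1),
    ([(1,0), (46,128), (132,32), (8,96), (16,0), (32,0), (64,32), (128,32)], 385, 4),
    ([(1,0), (38,192), (164,0), (8,96), (16,0), (32,0), (64,32), (128,0)], 386, 5),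
    ([(1,0), (102,136), (36,200), (72,0), (16,0), (32,0), (64,32), (192,0)], 387, 5),
    ([(1,0), (198,8), (4,32), (8,32), (16,0), (32,0), (64,32), (160,0)], 389, 0),
    ([(1,0), (14,224), (132,0), (8,96), (16,0), (32,0), (64,32), (128,32)], 389, 4),
    ([(1,0), (78,128), (164,0), (8,96), (16,0), (32,0), (64,32), (128,32)], 390, 0),
    ([(1,0), (102,136), (108,128), (72,0), (16,0), (32,0), (64,32), (128,96)], 393, 2),
    ([(1,0), (142,32), (196,40), (8,64), (16,0), (32,0), (64,32), (224,0)], 394, 0),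
    ([(1,0), (70,160), (76,160), (72,0), (16,0), (32,0), (64,32), (160,64)], 394, 1),
    ([(1,0), (142,64), (132,0), (8,64), (16,0), (32,0), (64,32), (128,32)], 398, 4),
    ([(1,0), (238,0), (164,0), (8,64), (16,0), (32,0), (64,32), (128,32)], 400, 2),
    ([(1,0), (106,128), (108,128), (104,0), (16,0), (32,0), (64,0), (128,96)], 402, 4),
    ([(1,0), (10,100), (140,96), (8,96), (16,0), (32,0), (96,0), (160,64)], 403, 1),
    ([(1,0), (38,64), (196,8), (40,64), (16,0), (32,0), (64,32), (192,32)], 403, 2),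
    ([(1,0), (166,64), (228,8), (8,64), (16,0), (32,0), (64,32), (192,32)], 405, 0),
    ([(1,0), (138,96), (4,200), (72,32), (16,0), (32,0), (64,0), (192,32)], 408, 4),
    ([(1,0), (138,96), (132,0), (8,96), (16,0), (32,0), (64,0), (128,32)], 412, 4),
    ([(1,0), (202,32), (164,0), (8,96), (16,0), (32,0), (64,0), (128,32)], 413, 0),
    ([(1,0), (46,64), (132,0), (40,64), (16,0), (32,0), (64,32), (128,32)], 419, 4),
    ([(1,0), (78,32), (164,0), (40,64), (16,0), (32,0), (64,32), (128,32)], 421, 2),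
    ([(1,0), (166,8), (76,128), (104,0), (16,0), (32,0), (64,32), (128,96)], 423, 4),
    ([(1,0), (198,32), (76,128), (104,0), (16,0), (32,0), (64,32), (160,64)], 423, 5),
    ([(1,0), (134,0), (12,32), (8,32), (16,0), (32,0), (64,32), (160,64)], 427, 3),
    ([(1,0), (38,64), (44,0), (8,0), (16,0), (32,0), (64,32), (160,64)], 428, 5),
    ([(1,0), (14,224), (36,0), (40,0), (16,0), (32,0), (64,32), (128,32)], 429, 2),
    ([(1,0), (138,32), (12,32), (8,32), (16,0), (32,0), (64,0), (128,96)], 432, 4),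
    ([(1,0), (194,44), (172,64), (40,64), (16,0), (32,0), (96,0), (128,64)], 435, 0),
    ([(1,0), (38,72), (76,160), (72,32), (16,0), (32,0), (64,32), (128,96)], 435, 2),
    ([(1,0), (10,64), (44,0), (8,0), (16,0), (32,0), (64,0), (128,96)], 438, 5),
    ([(1,0), (14,224), (140,96), (8,96), (16,0), (32,0), (64,32), (128,64)], 440, 2),
    ([(1,0), (46,64), (172,64), (40,64), (16,0), (32,0), (64,32), (128,64)], 443, 0),
    ([(1,0), (202,32), (76,160), (72,32), (16,0), (32,0), (64,0), (128,96)], 443, 2),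
    ([(1,0), (142,32), (12,32), (8,32), (16,0), (32,0), (64,32), (128,64)], 451, 3),
    ([(1,0), (46,64), (44,0), (8,0), (16,0), (32,0), (64,32), (128,64)], 452, 5),
    ([(1,0), (166,8), (12,32), (8,32), (16,0), (32,0), (64,32), (128,96)], 457, 3),
    ([(1,0), (38,72), (44,0), (8,0), (16,0), (32,0), (64,32), (128,96)], 458, 5),
    ([(1,0), (78,128), (4,32), (40,0), (16,0), (32,0), (64,32), (128,32)], 459, 1),
    ([(1,0), (134,104), (12,0), (8,32), (16,0), (32,0), (64,32), (128,96)], 459, 3),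
    ([(1,0), (198,8), (44,0), (8,32), (16,0), (32,0), (64,32), (128,96)], 460, 1),
    ([(1,0), (142,32), (76,160), (104,0), (16,0), (32,0), (64,32), (128,64)], 463, 0),
    ([(1,0), (142,64), (12,0), (8,32), (16,0), (32,0), (64,32), (128,64)], 463, 3),
    ([(1,0), (238,0), (44,0), (8,32), (16,0), (32,0), (64,32), (128,64)], 465, 2),
    ([(1,0), (102,136), (228,8), (8,96), (16,0), (32,0), (64,32), (192,0)], 468, 2),
    ([(1,0), (130,100), (140,96), (40,64), (16,0), (32,0), (96,0), (128,96)], 471, 0),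
    ([(1,0), (38,64), (76,128), (72,32), (16,0), (32,0), (64,32), (160,64)], 471, 2),
    ([(1,0), (166,64), (12,0), (8,32), (16,0), (32,0), (64,32), (160,64)], 473, 3),
    ([(1,0), (138,96), (12,0), (8,32), (16,0), (32,0), (64,0), (128,96)], 475, 4),
    ([(1,0), (198,32), (44,0), (8,32), (16,0), (32,0), (64,32), (160,64)], 477, 2),
    ([(1,0), (202,32), (44,0), (8,32), (16,0), (32,0), (64,0), (128,96)], 478, 4),
    ([(1,0), (46,64), (108,128), (72,32), (16,0), (32,0), (64,32), (128,64)], 484, 1),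
    ([(1,0), (102,136), (140,96), (8,96), (16,0), (32,0), (64,32), (128,96)], 486, 2),
    ([(1,0), (70,160), (172,64), (8,96), (16,0), (32,0), (64,32), (160,64)], 487, 1),
    ([(1,0), (70,40), (172,64), (40,64), (16,0), (32,0), (64,32), (128,96)], 490, 0),
    ([(1,0), (38,64), (140,96), (40,64), (16,0), (32,0), (64,32), (160,64)], 491, 1),
    ([(1,0), (138,96), (228,8), (8,96), (16,0), (32,0), (64,0), (192,32)], 493, 0),
    ([(1,0), (138,96), (108,128), (72,32), (16,0), (32,0), (64,0), (128,96)], 493, 1),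
    ([(1,0), (142,32), (4,0), (8,32), (16,0), (32,0), (64,32), (128,32)], 518, 4),
    ([(1,0), (166,64), (36,0), (8,32), (16,0), (32,0), (64,32), (128,0)], 519, 5),
    ([(1,0), (46,64), (36,0), (8,0), (16,0), (32,0), (64,32), (128,32)], 526, 5),
    ([(1,0), (138,36), (140,64), (40,64), (16,0), (32,0), (96,0), (160,64)], 541, 1),
    ([(1,0), (138,96), (36,0), (8,32), (16,0), (32,0), (64,0), (128,32)], 555, 5),
    ([(1,0), (70,32), (140,64), (40,64), (16,0), (32,0), (64,32), (160,64)], 563, 5),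
    ([(1,0), (162,8), (140,64), (8,96), (16,0), (32,0), (64,0), (160,64)], 565, 4),
    ([(1,0), (42,128), (140,64), (40,64), (16,0), (32,0), (64,0), (128,96)], 566, 4),
    ([(1,0), (46,128), (172,64), (8,96), (16,0), (32,0), (64,32), (128,64)], 569, 3),
    ([(1,0), (78,32), (140,96), (40,64), (16,0), (32,0), (64,32), (128,64)], 569, 5),
    ([(1,0), (6,168), (140,64), (8,96), (16,0), (32,0), (64,32), (128,96)], 572, 3),
    ([(1,0), (38,192), (140,64), (8,96), (16,0), (32,0), (64,32), (160,64)], 574, 2),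
    ([(1,0), (162,72), (172,64), (8,96), (16,0), (32,0), (64,0), (160,64)], 575, 4),
    ([(1,0), (42,192), (172,64), (40,64), (16,0), (32,0), (64,0), (128,96)], 576, 4),
    ([(1,0), (226,8), (140,96), (8,96), (16,0), (32,0), (64,0), (160,64)], 577, 4),
    ([(1,0), (138,32), (196,8), (8,96), (16,0), (32,0), (64,0), (192,32)], 578, 4),
    ([(1,0), (142,64), (36,0), (8,32), (16,0), (32,0), (64,32), (128,32)], 593, 4),
    ([(1,0), (238,0), (4,32), (8,32), (16,0), (32,0), (64,32), (128,32)], 595, 2),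
    ([(1,0), (106,128), (140,96), (40,64), (16,0), (32,0), (64,0), (128,96)], 597, 4),
    ([(1,0), (166,8), (172,64), (8,64), (16,0), (32,0), (64,32), (128,96)], 605, 4),
    ([(1,0), (198,32), (140,96), (8,64), (16,0), (32,0), (64,32), (160,64)], 605, 5),
    ([(1,0), (138,32), (76,128), (72,32), (16,0), (32,0), (64,0), (128,96)], 610, 4),
    ([(1,0), (38,72), (140,64), (40,64), (16,0), (32,0), (64,32), (128,96)], 612, 2),
    ([(1,0), (202,32), (140,64), (8,96), (16,0), (32,0), (64,0), (128,96)], 615, 2),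
    ([(1,0), (142,32), (140,96), (8,64), (16,0), (32,0), (64,32), (128,64)], 628, 0),
    ([(1,0), (138,96), (140,96), (8,96), (16,0), (32,0), (64,0), (128,96)], 641, 1),
    ([(1,0), (138,32), (172,64), (8,96), (16,0), (32,0), (64,0), (128,96)], 700, 1)]

/-- Positions of the products with the generators. -/
def qNext : List (List ℕ) :=
  [
    [1,2,3,4,5,6],
    [7,8,9,10,11,12],
    [8,13,14,15,16,17],
    [9,14,18,19,20,21],
    [10,15,19,22,23,24],
    [11,16,20,23,25,26],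
    [12,17,21,24,26,27],
    [0,28,29,30,31,32],
    [28,33,34,35,36,37],
    [29,34,38,39,40,41],
    [30,35,39,42,43,44],
    [31,36,40,43,45,46],
    [32,37,41,44,46,47],
    [33,0,48,49,50,51],
    [34,48,52,53,54,55],
    [35,49,53,56,57,58],
    [36,50,54,57,59,60],
    [37,51,55,58,60,61],
    [38,52,0,62,63,64],
    [39,53,62,65,66,67],
    [40,54,63,66,68,69],
    [41,55,64,67,69,70],
    [42,56,65,0,71,72],
    [43,57,66,71,73,74],
    [44,58,67,72,74,75],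
    [45,59,68,73,0,76],
    [46,60,69,74,76,77],
    [47,61,70,75,77,0],
    [2,78,79,80,81,82],
    [3,79,83,84,85,86],
    [4,80,84,87,88,89],
    [5,81,85,88,90,91],
    [6,82,86,89,91,92],
    [78,1,93,94,95,96],
    [79,93,97,98,99,100],
    [80,94,98,101,102,103],
    [81,95,99,102,104,105],
    [82,96,100,103,105,106],
    [83,97,1,107,108,109],
    [84,98,107,110,111,112],
    [85,99,108,111,113,114],
    [86,100,109,112,114,115],
    [87,101,110,1,116,117],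
    [88,102,111,116,118,119],
    [89,103,112,117,119,120],
    [90,104,113,118,1,121],
    [91,105,114,119,121,122],
    [92,106,115,120,122,1],
    [93,3,123,124,125,126],
    [94,4,124,127,128,129],
    [95,5,125,128,130,131],
    [96,6,126,129,131,132],
    [97,123,2,133,134,135],
    [98,124,133,136,137,138],
    [99,125,134,137,139,140],
    [100,126,135,138,140,141],
    [101,127,136,2,142,143],
    [102,128,137,142,144,145],
    [103,129,138,143,145,146],
    [104,130,139,144,2,147],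
    [105,131,140,145,147,148],
    [106,132,141,146,148,2],
    [107,133,4,149,150,151],
    [108,134,5,150,152,153],
    [109,135,6,151,153,154],
    [110,136,149,3,155,156],
    [111,137,150,155,157,158],
    [112,138,151,156,158,159],
    [113,139,152,157,3,160],
    [114,140,153,158,160,161],
    [115,141,154,159,161,3],
    [116,142,155,5,162,163],
    [117,143,156,6,163,164],
    [118,144,157,162,4,165],
    [119,145,158,163,165,166],
    [120,146,159,164,166,4],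
    [121,147,160,165,6,167],
    [122,148,161,166,167,5],
    [13,7,168,169,170,171],
    [14,168,172,173,174,175],
    [15,169,173,176,177,178],
    [16,170,174,177,179,180],
    [17,171,175,178,180,181],
    [18,172,7,182,183,184],
    [19,173,182,185,186,187],
    [20,174,183,186,188,189],
    [21,175,184,187,189,190],
    [22,176,185,7,191,192],
    [23,177,186,191,193,194],
    [24,178,187,192,194,195],
    [25,179,188,193,7,196],
    [26,180,189,194,196,197],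
    [27,181,190,195,197,7],
    [168,9,198,199,200,201],
    [169,10,199,202,203,204],
    [170,11,200,203,205,206],
    [171,12,201,204,206,207],
    [172,198,8,208,209,210],
    [173,199,208,211,212,213],
    [174,200,209,212,214,215],
    [175,201,210,213,215,216],
    [176,202,211,8,217,218],
    [177,203,212,217,219,220],
    [178,204,213,218,220,221],
    [179,205,214,219,8,222],
    [180,206,215,220,222,223],
    [181,207,216,221,223,8],
    [182,208,10,224,225,226],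
    [183,209,11,225,227,228],
    [184,210,12,226,228,229],
    [185,211,224,9,230,231],
    [186,212,225,230,232,233],
    [187,213,226,231,233,234],
    [188,214,227,232,9,235],
    [189,215,228,233,235,236],
    [190,216,229,234,236,9],
    [191,217,230,11,237,238],
    [192,218,231,12,238,239],
    [193,219,232,237,10,240],
    [194,220,233,238,240,241],
    [195,221,234,239,241,10],
    [196,222,235,240,12,242],
    [197,223,236,241,242,11],
    [198,18,13,243,244,245],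
    [199,19,243,246,247,248],
    [200,20,244,247,249,250],
    [201,21,245,248,250,251],
    [202,22,246,13,252,253],
    [203,23,247,252,254,255],
    [204,24,248,253,255,256],
    [205,25,249,254,13,257],
    [206,26,250,255,257,258],
    [207,27,251,256,258,13],
    [208,243,15,259,260,261],
    [209,244,16,260,262,263],
    [210,245,17,261,263,264],
    [211,246,259,14,265,266],
    [212,247,260,265,267,268],
    [213,248,261,266,268,269],
    [214,249,262,267,14,270],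
    [215,250,263,268,270,271],
    [216,251,264,269,271,14],
    [217,252,265,16,272,273],
    [218,253,266,17,273,274],
    [219,254,267,272,15,275],
    [220,255,268,273,275,276],
    [221,256,269,274,276,15],
    [222,257,270,275,17,277],
    [223,258,271,276,277,16],
    [224,259,22,18,278,279],
    [225,260,23,278,280,281],
    [226,261,24,279,281,282],
    [227,262,25,280,18,283],
    [228,263,26,281,283,284],
    [229,264,27,282,284,18],
    [230,265,278,20,285,286],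
    [231,266,279,21,286,287],
    [232,267,280,285,19,288],
    [233,268,281,286,288,289],
    [234,269,282,287,289,19],
    [235,270,283,288,21,290],
    [236,271,284,289,290,20],
    [237,272,285,25,22,291],
    [238,273,286,26,291,292],
    [239,274,287,27,292,22],
    [240,275,288,291,24,293],
    [241,276,289,292,293,23],
    [242,277,290,293,27,25],
    [48,29,294,295,296,297],
    [49,30,295,298,299,300],
    [50,31,296,299,301,302],
    [51,32,297,300,302,303],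
    [52,294,28,304,305,306],
    [53,295,304,307,308,309],
    [54,296,305,308,310,311],
    [55,297,306,309,311,312],
    [56,298,307,28,313,314],
    [57,299,308,313,315,316],
    [58,300,309,314,316,317],
    [59,301,310,315,28,318],
    [60,302,311,316,318,319],
    [61,303,312,317,319,28],
    [62,304,30,320,321,322],
    [63,305,31,321,323,324],
    [64,306,32,322,324,325],
    [65,307,320,29,326,327],
    [66,308,321,326,328,329],
    [67,309,322,327,329,330],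
    [68,310,323,328,29,331],
    [69,311,324,329,331,332],
    [70,312,325,330,332,29],
    [71,313,326,31,333,334],
    [72,314,327,32,334,335],
    [73,315,328,333,30,336],
    [74,316,329,334,336,337],
    [75,317,330,335,337,30],
    [76,318,331,336,32,338],
    [77,319,332,337,338,31],
    [294,38,33,339,340,341],
    [295,39,339,342,343,344],
    [296,40,340,343,345,346],
    [297,41,341,344,346,347],
    [298,42,342,33,348,349],
    [299,43,343,348,350,351],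
    [300,44,344,349,351,352],
    [301,45,345,350,33,353],
    [302,46,346,351,353,354],
    [303,47,347,352,354,33],
    [304,339,35,355,356,357],
    [305,340,36,356,358,359],
    [306,341,37,357,359,360],
    [307,342,355,34,361,362],
    [308,343,356,361,363,364],
    [309,344,357,362,364,365],
    [310,345,358,363,34,366],
    [311,346,359,364,366,367],
    [312,347,360,365,367,34],
    [313,348,361,36,368,369],
    [314,349,362,37,369,370],
    [315,350,363,368,35,371],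
    [316,351,364,369,371,372],
    [317,352,365,370,372,35],
    [318,353,366,371,37,373],
    [319,354,367,372,373,36],
    [320,355,42,38,374,375],
    [321,356,43,374,376,377],
    [322,357,44,375,377,378],
    [323,358,45,376,38,379],
    [324,359,46,377,379,380],
    [325,360,47,378,380,38],
    [326,361,374,40,381,382],
    [327,362,375,41,382,383],
    [328,363,376,381,39,384],
    [329,364,377,382,384,385],
    [330,365,378,383,385,39],
    [331,366,379,384,41,386],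
    [332,367,380,385,386,40],
    [333,368,381,45,42,387],
    [334,369,382,46,387,388],
    [335,370,383,47,388,42],
    [336,371,384,387,44,389],
    [337,372,385,388,389,43],
    [338,373,386,389,47,45],
    [339,62,49,390,391,392],
    [340,63,50,391,393,394],
    [341,64,51,392,394,395],
    [342,65,390,48,396,397],
    [343,66,391,396,398,399],
    [344,67,392,397,399,400],
    [345,68,393,398,48,401],
    [346,69,394,399,401,402],
    [347,70,395,400,402,48],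
    [348,71,396,50,403,404],
    [349,72,397,51,404,405],
    [350,73,398,403,49,406],
    [351,74,399,404,406,407],
    [352,75,400,405,407,49],
    [353,76,401,406,51,408],
    [354,77,402,407,408,50],
    [355,390,56,52,409,410],
    [356,391,57,409,411,412],
    [357,392,58,410,412,413],
    [358,393,59,411,52,414],
    [359,394,60,412,414,415],
    [360,395,61,413,415,52],
    [361,396,409,54,416,417],
    [362,397,410,55,417,418],
    [363,398,411,416,53,419],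
    [364,399,412,417,419,420],
    [365,400,413,418,420,53],
    [366,401,414,419,55,421],
    [367,402,415,420,421,54],
    [368,403,416,59,56,422],
    [369,404,417,60,422,423],
    [370,405,418,61,423,56],
    [371,406,419,422,58,424],
    [372,407,420,423,424,57],
    [373,408,421,424,61,59],
    [374,409,71,63,425,426],
    [375,410,72,64,426,427],
    [376,411,73,425,62,428],
    [377,412,74,426,428,429],
    [378,413,75,427,429,62],
    [379,414,76,428,64,430],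
    [380,415,77,429,430,63],
    [381,416,425,68,65,431],
    [382,417,426,69,431,432],
    [383,418,427,70,432,65],
    [384,419,428,431,67,433],
    [385,420,429,432,433,66],
    [386,421,430,433,70,68],
    [387,422,431,76,72,434],
    [388,423,432,77,434,71],
    [389,424,433,434,75,73],
    [123,83,78,435,436,437],
    [124,84,435,438,439,440],
    [125,85,436,439,441,442],
    [126,86,437,440,442,443],
    [127,87,438,78,444,445],
    [128,88,439,444,446,447],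
    [129,89,440,445,447,448],
    [130,90,441,446,78,449],
    [131,91,442,447,449,450],
    [132,92,443,448,450,78],
    [133,435,80,451,452,453],
    [134,436,81,452,454,455],
    [135,437,82,453,455,456],
    [136,438,451,79,457,458],
    [137,439,452,457,459,460],
    [138,440,453,458,460,461],
    [139,441,454,459,79,462],
    [140,442,455,460,462,463],
    [141,443,456,461,463,79],
    [142,444,457,81,464,465],
    [143,445,458,82,465,466],
    [144,446,459,464,80,467],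
    [145,447,460,465,467,468],
    [146,448,461,466,468,80],
    [147,449,462,467,82,469],
    [148,450,463,468,469,81],
    [149,451,87,83,470,471],
    [150,452,88,470,472,473],
    [151,453,89,471,473,474],
    [152,454,90,472,83,475],
    [153,455,91,473,475,476],
    [154,456,92,474,476,83],
    [155,457,470,85,477,478],
    [156,458,471,86,478,479],
    [157,459,472,477,84,480],
    [158,460,473,478,480,481],
    [159,461,474,479,481,84],
    [160,462,475,480,86,482],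
    [161,463,476,481,482,85],
    [162,464,477,90,87,483],
    [163,465,478,91,483,484],
    [164,466,479,92,484,87],
    [165,467,480,483,89,485],
    [166,468,481,484,485,88],
    [167,469,482,485,92,90],
    [435,107,94,486,487,488],
    [436,108,95,487,489,490],
    [437,109,96,488,490,491],
    [438,110,486,93,492,493],
    [439,111,487,492,494,495],
    [440,112,488,493,495,496],
    [441,113,489,494,93,497],
    [442,114,490,495,497,498],
    [443,115,491,496,498,93],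
    [444,116,492,95,499,500],
    [445,117,493,96,500,501],
    [446,118,494,499,94,502],
    [447,119,495,500,502,503],
    [448,120,496,501,503,94],
    [449,121,497,502,96,504],
    [450,122,498,503,504,95],
    [451,486,101,97,505,506],
    [452,487,102,505,507,508],
    [453,488,103,506,508,509],
    [454,489,104,507,97,510],
    [455,490,105,508,510,511],
    [456,491,106,509,511,97],
    [457,492,505,99,512,513],
    [458,493,506,100,513,514],
    [459,494,507,512,98,515],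
    [460,495,508,513,515,516],
    [461,496,509,514,516,98],
    [462,497,510,515,100,517],
    [463,498,511,516,517,99],
    [464,499,512,104,101,518],
    [465,500,513,105,518,519],
    [466,501,514,106,519,101],
    [467,502,515,518,103,520],
    [468,503,516,519,520,102],
    [469,504,517,520,106,104],
    [470,505,116,108,521,522],
    [471,506,117,109,522,523],
    [472,507,118,521,107,524],
    [473,508,119,522,524,525],
    [474,509,120,523,525,107],
    [475,510,121,524,109,526],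
    [476,511,122,525,526,108],
    [477,512,521,113,110,527],
    [478,513,522,114,527,528],
    [479,514,523,115,528,110],
    [480,515,524,527,112,529],
    [481,516,525,528,529,111],
    [482,517,526,529,115,113],
    [483,518,527,121,117,530],
    [484,519,528,122,530,116],
    [485,520,529,530,120,118],
    [486,149,127,123,531,532],
    [487,150,128,531,533,534],
    [488,151,129,532,534,535],
    [489,152,130,533,123,536],
    [490,153,131,534,536,537],
    [491,154,132,535,537,123],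
    [492,155,531,125,538,539],
    [493,156,532,126,539,540],
    [494,157,533,538,124,541],
    [495,158,534,539,541,542],
    [496,159,535,540,542,124],
    [497,160,536,541,126,543],
    [498,161,537,542,543,125],
    [499,162,538,130,127,544],
    [500,163,539,131,544,545],
    [501,164,540,132,545,127],
    [502,165,541,544,129,546],
    [503,166,542,545,546,128],
    [504,167,543,546,132,130],
    [505,531,142,134,547,548],
    [506,532,143,135,548,549],
    [507,533,144,547,133,550],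
    [508,534,145,548,550,551],
    [509,535,146,549,551,133],
    [510,536,147,550,135,552],
    [511,537,148,551,552,134],
    [512,538,547,139,136,553],
    [513,539,548,140,553,554],
    [514,540,549,141,554,136],
    [515,541,550,553,138,555],
    [516,542,551,554,555,137],
    [517,543,552,555,141,139],
    [518,544,553,147,143,556],
    [519,545,554,148,556,142],
    [520,546,555,556,146,144],
    [521,547,162,152,149,557],
    [522,548,163,153,557,558],
    [523,549,164,154,558,149],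
    [524,550,165,557,151,559],
    [525,551,166,558,559,150],
    [526,552,167,559,154,152],
    [527,553,557,160,156,560],
    [528,554,558,161,560,155],
    [529,555,559,560,159,157],
    [530,556,560,167,164,162],
    [243,182,169,561,562,563],
    [244,183,170,562,564,565],
    [245,184,171,563,565,566],
    [246,185,561,168,567,568],
    [247,186,562,567,569,570],
    [248,187,563,568,570,571],
    [249,188,564,569,168,572],
    [250,189,565,570,572,573],
    [251,190,566,571,573,168],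
    [252,191,567,170,574,575],
    [253,192,568,171,575,576],
    [254,193,569,574,169,577],
    [255,194,570,575,577,578],
    [256,195,571,576,578,169],
    [257,196,572,577,171,579],
    [258,197,573,578,579,170],
    [259,561,176,172,580,581],
    [260,562,177,580,582,583],
    [261,563,178,581,583,584],
    [262,564,179,582,172,585],
    [263,565,180,583,585,586],
    [264,566,181,584,586,172],
    [265,567,580,174,587,588],
    [266,568,581,175,588,589],
    [267,569,582,587,173,590],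
    [268,570,583,588,590,591],
    [269,571,584,589,591,173],
    [270,572,585,590,175,592],
    [271,573,586,591,592,174],
    [272,574,587,179,176,593],
    [273,575,588,180,593,594],
    [274,576,589,181,594,176],
    [275,577,590,593,178,595],
    [276,578,591,594,595,177],
    [277,579,592,595,181,179],
    [278,580,191,183,596,597],
    [279,581,192,184,597,598],
    [280,582,193,596,182,599],
    [281,583,194,597,599,600],
    [282,584,195,598,600,182],
    [283,585,196,599,184,601],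
    [284,586,197,600,601,183],
    [285,587,596,188,185,602],
    [286,588,597,189,602,603],
    [287,589,598,190,603,185],
    [288,590,599,602,187,604],
    [289,591,600,603,604,186],
    [290,592,601,604,190,188],
    [291,593,602,196,192,605],
    [292,594,603,197,605,191],
    [293,595,604,605,195,193],
    [561,224,202,198,606,607],
    [562,225,203,606,608,609],
    [563,226,204,607,609,610],
    [564,227,205,608,198,611],
    [565,228,206,609,611,612],
    [566,229,207,610,612,198],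
    [567,230,606,200,613,614],
    [568,231,607,201,614,615],
    [569,232,608,613,199,616],
    [570,233,609,614,616,617],
    [571,234,610,615,617,199],
    [572,235,611,616,201,618],
    [573,236,612,617,618,200],
    [574,237,613,205,202,619],
    [575,238,614,206,619,620],
    [576,239,615,207,620,202],
    [577,240,616,619,204,621],
    [578,241,617,620,621,203],
    [579,242,618,621,207,205],
    [580,606,217,209,622,623],
    [581,607,218,210,623,624],
    [582,608,219,622,208,625],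
    [583,609,220,623,625,626],
    [584,610,221,624,626,208],
    [585,611,222,625,210,627],
    [586,612,223,626,627,209],
    [587,613,622,214,211,628],
    [588,614,623,215,628,629],
    [589,615,624,216,629,211],
    [590,616,625,628,213,630],
    [591,617,626,629,630,212],
    [592,618,627,630,216,214],
    [593,619,628,222,218,631],
    [594,620,629,223,631,217],
    [595,621,630,631,221,219],
    [596,622,237,227,224,632],
    [597,623,238,228,632,633],
    [598,624,239,229,633,224],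
    [599,625,240,632,226,634],
    [600,626,241,633,634,225],
    [601,627,242,634,229,227],
    [602,628,632,235,231,635],
    [603,629,633,236,635,230],
    [604,630,634,635,234,232],
    [605,631,635,242,239,237],
    [606,278,252,244,636,637],
    [607,279,253,245,637,638],
    [608,280,254,636,243,639],
    [609,281,255,637,639,640],
    [610,282,256,638,640,243],
    [611,283,257,639,245,641],
    [612,284,258,640,641,244],
    [613,285,636,249,246,642],
    [614,286,637,250,642,643],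
    [615,287,638,251,643,246],
    [616,288,639,642,248,644],
    [617,289,640,643,644,247],
    [618,290,641,644,251,249],
    [619,291,642,257,253,645],
    [620,292,643,258,645,252],
    [621,293,644,645,256,254],
    [622,636,272,262,259,646],
    [623,637,273,263,646,647],
    [624,638,274,264,647,259],
    [625,639,275,646,261,648],
    [626,640,276,647,648,260],
    [627,641,277,648,264,262],
    [628,642,646,270,266,649],
    [629,643,647,271,649,265],
    [630,644,648,649,269,267],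
    [631,645,649,277,274,272],
    [632,646,291,283,279,650],
    [633,647,292,284,650,278],
    [634,648,293,650,282,280],
    [635,649,650,290,287,285],
    [390,320,298,294,651,652],
    [391,321,299,651,653,654],
    [392,322,300,652,654,655],
    [393,323,301,653,294,656],
    [394,324,302,654,656,657],
    [395,325,303,655,657,294],
    [396,326,651,296,658,659],
    [397,327,652,297,659,660],
    [398,328,653,658,295,661],
    [399,329,654,659,661,662],
    [400,330,655,660,662,295],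
    [401,331,656,661,297,663],
    [402,332,657,662,663,296],
    [403,333,658,301,298,664],
    [404,334,659,302,664,665],
    [405,335,660,303,665,298],
    [406,336,661,664,300,666],
    [407,337,662,665,666,299],
    [408,338,663,666,303,301],
    [409,651,313,305,667,668],
    [410,652,314,306,668,669],
    [411,653,315,667,304,670],
    [412,654,316,668,670,671],
    [413,655,317,669,671,304],
    [414,656,318,670,306,672],
    [415,657,319,671,672,305],
    [416,658,667,310,307,673],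
    [417,659,668,311,673,674],
    [418,660,669,312,674,307],
    [419,661,670,673,309,675],
    [420,662,671,674,675,308],
    [421,663,672,675,312,310],
    [422,664,673,318,314,676],
    [423,665,674,319,676,313],
    [424,666,675,676,317,315],
    [425,667,333,323,320,677],
    [426,668,334,324,677,678],
    [427,669,335,325,678,320],
    [428,670,336,677,322,679],
    [429,671,337,678,679,321],
    [430,672,338,679,325,323],
    [431,673,677,331,327,680],
    [432,674,678,332,680,326],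
    [433,675,679,680,330,328],
    [434,676,680,338,335,333],
    [651,374,348,340,681,682],
    [652,375,349,341,682,683],
    [653,376,350,681,339,684],
    [654,377,351,682,684,685],
    [655,378,352,683,685,339],
    [656,379,353,684,341,686],
    [657,380,354,685,686,340],
    [658,381,681,345,342,687],
    [659,382,682,346,687,688],
    [660,383,683,347,688,342],
    [661,384,684,687,344,689],
    [662,385,685,688,689,343],
    [663,386,686,689,347,345],
    [664,387,687,353,349,690],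
    [665,388,688,354,690,348],
    [666,389,689,690,352,350],
    [667,681,368,358,355,691],
    [668,682,369,359,691,692],
    [669,683,370,360,692,355],
    [670,684,371,691,357,693],
    [671,685,372,692,693,356],
    [672,686,373,693,360,358],
    [673,687,691,366,362,694],
    [674,688,692,367,694,361],
    [675,689,693,694,365,363],
    [676,690,694,373,370,368],
    [677,691,387,379,375,695],
    [678,692,388,380,695,374],
    [679,693,389,695,378,376],
    [680,694,695,386,383,381],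
    [681,425,403,393,390,696],
    [682,426,404,394,696,697],
    [683,427,405,395,697,390],
    [684,428,406,696,392,698],
    [685,429,407,697,698,391],
    [686,430,408,698,395,393],
    [687,431,696,401,397,699],
    [688,432,697,402,699,396],
    [689,433,698,699,400,398],
    [690,434,699,408,405,403],
    [691,696,422,414,410,700],
    [692,697,423,415,700,409],
    [693,698,424,700,413,411],
    [694,699,700,421,418,416],
    [695,700,434,430,427,425],
    [531,470,444,436,701,702],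
    [532,471,445,437,702,703],
    [533,472,446,701,435,704],
    [534,473,447,702,704,705],
    [535,474,448,703,705,435],
    [536,475,449,704,437,706],
    [537,476,450,705,706,436],
    [538,477,701,441,438,707],
    [539,478,702,442,707,708],
    [540,479,703,443,708,438],
    [541,480,704,707,440,709],
    [542,481,705,708,709,439],
    [543,482,706,709,443,441],
    [544,483,707,449,445,710],
    [545,484,708,450,710,444],
    [546,485,709,710,448,446],
    [547,701,464,454,451,711],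
    [548,702,465,455,711,712],
    [549,703,466,456,712,451],
    [550,704,467,711,453,713],
    [551,705,468,712,713,452],
    [552,706,469,713,456,454],
    [553,707,711,462,458,714],
    [554,708,712,463,714,457],
    [555,709,713,714,461,459],
    [556,710,714,469,466,464],
    [557,711,483,475,471,715],
    [558,712,484,476,715,470],
    [559,713,485,715,474,472],
    [560,714,715,482,479,477],
    [701,521,499,489,486,716],
    [702,522,500,490,716,717],
    [703,523,501,491,717,486],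
    [704,524,502,716,488,718],
    [705,525,503,717,718,487],
    [706,526,504,718,491,489],
    [707,527,716,497,493,719],
    [708,528,717,498,719,492],
    [709,529,718,719,496,494],
    [710,530,719,504,501,499],
    [711,716,518,510,506,720],
    [712,717,519,511,720,505],
    [713,718,520,720,509,507],
    [714,719,720,517,514,512],
    [715,720,530,526,523,521],
    [716,557,544,536,532,721],
    [717,558,545,537,721,531],
    [718,559,546,721,535,533],
    [719,560,721,543,540,538],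
    [720,721,556,552,549,547],
    [636,596,574,564,561,722],
    [637,597,575,565,722,723],
    [638,598,576,566,723,561],
    [639,599,577,722,563,724],
    [640,600,578,723,724,562],
    [641,601,579,724,566,564],
    [642,602,722,572,568,725],
    [643,603,723,573,725,567],
    [644,604,724,725,571,569],
    [645,605,725,579,576,574],
    [646,722,593,585,581,726],
    [647,723,594,586,726,580],
    [648,724,595,726,584,582],
    [649,725,726,592,589,587],
    [650,726,605,601,598,596],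
    [722,632,619,611,607,727],
    [723,633,620,612,727,606],
    [724,634,621,727,610,608],
    [725,635,727,618,615,613],
    [726,727,631,627,624,622],
    [727,650,645,641,638,636],
    [696,677,664,656,652,728],
    [697,678,665,657,728,651],
    [698,679,666,728,655,653],
    [699,680,728,663,660,658],
    [700,728,676,672,669,667],
    [728,695,690,686,683,681],
    [721,715,710,706,703,701]]

/-- Positions of the products with the generators. -/
def lNext : List (List ℕ) :=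
  [
    [1,2,3,4,5,6],
    [7,8,9,10,11,12],
    [8,13,14,15,16,17],
    [18,19,20,21,22,23],
    [10,24,21,25,26,27],
    [28,16,22,26,29,30],
    [12,17,23,27,30,31],
    [0,32,33,34,35,36],
    [32,37,38,39,40,41],
    [42,43,44,45,46,47],
    [34,48,45,49,50,51],
    [52,40,46,50,53,54],
    [36,41,47,51,54,55],
    [37,0,56,57,58,59],
    [60,61,62,63,64,65],
    [39,66,63,67,68,69],
    [70,58,64,68,71,72],
    [41,59,65,69,72,73],
    [74,75,76,9,77,78],
    [75,79,80,81,14,82],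
    [83,84,0,85,86,87],
    [9,88,85,89,90,91],
    [92,14,86,90,93,94],
    [78,82,87,91,94,95],
    [48,96,97,98,99,15],
    [49,100,89,0,101,102],
    [103,99,90,101,104,105],
    [51,15,91,102,105,106],
    [107,70,108,103,109,11],
    [110,71,93,104,0,111],
    [11,72,94,105,111,112],
    [55,73,95,106,112,0],
    [2,113,114,115,116,117],
    [89,118,119,74,120,121],
    [4,122,74,123,124,125],
    [112,116,120,124,126,107],
    [6,117,121,125,107,127],
    [113,1,128,129,130,131],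
    [132,133,134,135,136,137],
    [115,138,135,139,140,141],
    [142,130,136,140,143,144],
    [117,131,137,141,144,145],
    [21,146,147,33,148,149],
    [146,150,151,152,38,153],
    [154,155,1,83,156,157],
    [33,158,83,18,159,160],
    [161,38,156,159,162,163],
    [149,153,157,160,163,164],
    [122,165,166,167,168,39],
    [123,169,18,1,170,171],
    [172,168,159,170,173,174],
    [125,39,160,171,174,175],
    [30,142,176,172,177,35],
    [178,143,162,173,1,110],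
    [35,144,163,174,110,28],
    [127,145,164,175,28,1],
    [179,93,180,181,79,182],
    [129,106,181,183,184,96],
    [185,5,79,184,186,187],
    [131,6,182,96,187,188],
    [189,190,191,38,192,193],
    [190,22,194,195,56,196],
    [197,198,2,199,84,200],
    [38,201,199,202,203,204],
    [205,56,84,203,19,206],
    [193,196,200,204,206,207],
    [138,27,208,209,210,57],
    [139,211,202,2,212,100],
    [168,210,203,212,213,214],
    [141,57,204,100,214,24],
    [215,185,216,168,217,40],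
    [218,186,19,213,2,219],
    [40,187,206,214,219,220],
    [145,188,207,24,220,2],
    [3,221,154,42,222,223],
    [221,224,225,153,193,226],
    [119,227,49,44,228,229],
    [230,193,228,46,231,232],
    [223,226,229,47,232,233],
    [224,3,198,234,61,235],
    [236,180,71,237,62,238],
    [153,239,237,240,63,241],
    [226,235,238,241,65,242],
    [147,243,10,76,244,245],
    [243,194,16,246,80,247],
    [76,248,4,249,250,251],
    [252,80,5,250,253,254],
    [245,247,6,251,254,255],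
    [43,256,257,258,97,81],
    [45,259,249,3,260,261],
    [108,97,250,260,262,263],
    [47,81,251,261,263,264],
    [265,60,266,108,267,77],
    [268,64,253,262,3,269],
    [77,65,254,263,269,270],
    [233,242,255,264,270,3],
    [165,4,271,211,272,66],
    [273,274,275,276,277,63],
    [167,183,276,73,278,67],
    [279,272,277,278,280,68],
    [169,209,281,17,282,98],
    [283,282,260,5,284,285],
    [171,98,261,6,285,286],
    [287,279,288,283,289,50],
    [290,280,262,284,4,291],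
    [50,68,263,285,291,292],
    [175,69,264,286,292,4],
    [5,215,293,287,178,52],
    [294,273,295,288,296,46],
    [126,217,296,289,55,53],
    [177,218,297,290,12,109],
    [109,219,269,291,6,298],
    [54,220,270,292,298,5],
    [13,7,299,300,301,302],
    [202,303,304,189,305,306],
    [15,307,189,308,309,310],
    [220,301,305,309,311,215],
    [17,302,306,310,215,312],
    [259,313,314,315,114,316],
    [85,317,7,154,318,319],
    [320,114,318,222,321,293],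
    [261,316,319,223,293,322],
    [24,323,324,325,326,115],
    [25,327,42,7,328,329],
    [292,326,222,328,330,287],
    [27,115,223,329,287,331],
    [111,311,321,330,7,178],
    [31,312,322,331,52,7],
    [332,162,333,334,150,335],
    [300,175,334,336,337,165],
    [338,11,150,337,339,340],
    [302,12,335,165,340,341],
    [63,342,343,114,344,345],
    [342,46,346,347,128,348],
    [349,350,8,197,155,351],
    [114,352,197,60,353,354],
    [355,128,155,353,43,356],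
    [345,348,351,354,356,273],
    [307,51,357,358,359,129],
    [308,360,60,8,361,169],
    [326,359,353,361,362,279],
    [310,129,354,169,279,48],
    [72,338,363,326,364,116],
    [365,339,43,362,8,218],
    [116,340,356,279,218,70],
    [312,341,273,48,70,8],
    [88,366,367,316,345,368],
    [20,369,123,119,370,371],
    [372,345,370,120,373,294],
    [91,368,371,121,294,374],
    [366,9,350,375,133,376],
    [377,333,143,378,134,379],
    [316,380,378,381,135,382],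
    [368,376,379,382,137,383],
    [249,384,34,147,385,386],
    [384,346,40,387,151,388],
    [389,151,11,244,390,391],
    [386,388,12,245,391,392],
    [118,393,394,226,166,152],
    [176,166,244,77,395,396],
    [121,152,245,78,396,397],
    [263,132,398,176,399,148],
    [400,136,390,395,9,297],
    [148,137,391,396,297,108],
    [374,383,392,397,108,9],
    [323,10,401,360,402,138],
    [403,404,405,406,407,135],
    [325,336,406,145,408,139],
    [409,402,407,408,410,140],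
    [327,358,193,41,411,167],
    [412,411,77,11,413,414],
    [329,167,78,12,414,415],
    [105,409,230,412,416,124],
    [417,410,395,413,10,290],
    [124,140,396,414,290,103],
    [331,141,397,415,103,10],
    [418,403,419,230,420,120],
    [29,364,420,416,127,126],
    [298,365,421,417,36,177],
    [422,268,423,128,424,425],
    [426,86,13,427,198,428],
    [128,429,427,430,234,271],
    [425,269,428,271,235,431],
    [336,102,430,13,432,211],
    [359,292,234,432,433,272],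
    [434,28,435,359,436,130],
    [437,29,61,433,13,438],
    [130,30,235,272,438,439],
    [341,31,431,66,439,13],
    [14,440,349,132,441,442],
    [440,92,443,348,425,444],
    [304,445,139,134,446,447],
    [448,425,446,136,381,449],
    [442,444,447,137,449,406],
    [450,20,186,451,180,452],
    [348,372,451,453,181,274],
    [444,94,452,274,182,454],
    [343,455,39,191,387,456],
    [455,253,58,457,194,458],
    [191,459,15,460,246,461],
    [456,458,17,461,247,462],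
    [133,263,463,464,208,195],
    [135,465,460,14,466,281],
    [216,208,246,466,81,467],
    [137,195,461,281,467,97],
    [468,179,469,216,226,192],
    [192,182,247,467,82,470],
    [406,454,462,97,470,14],
    [471,472,473,474,239,181],
    [358,25,474,188,475,183],
    [402,105,239,475,476,184],
    [360,286,477,59,478,209],
    [408,478,466,16,479,282],
    [480,476,81,479,15,481],
    [140,184,467,282,481,99],
    [16,434,482,409,365,142],
    [483,471,484,407,383,136],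
    [311,436,383,410,145,143],
    [364,437,153,480,41,217],
    [217,438,82,481,17,485],
    [144,439,470,99,485,16],
    [19,486,487,368,324,315],
    [270,324,385,148,488,265],
    [23,315,386,149,265,489],
    [486,18,490,435,444,424],
    [491,492,493,379,447,494],
    [315,424,494,383,406,381],
    [317,495,411,388,225,469],
    [419,225,170,156,496,497],
    [319,469,171,157,497,498],
    [94,442,389,161,499,222],
    [500,449,496,162,18,268],
    [222,406,497,163,268,92],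
    [489,381,498,164,92,18],
    [435,264,457,501,195,256],
    [424,23,458,256,196,502],
    [503,426,480,225,456,394],
    [225,473,213,504,199,505],
    [394,428,219,505,200,506],
    [376,91,459,507,201,234],
    [382,508,504,19,202,259],
    [383,234,505,259,204,88],
    [381,502,506,88,207,19],
    [369,450,168,469,394,387],
    [398,394,50,228,509,510],
    [371,387,51,229,510,511],
    [469,463,68,512,237,513],
    [387,452,72,513,238,514],
    [227,515,99,516,257,246],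
    [44,517,25,20,518,519],
    [266,257,26,518,520,521],
    [229,246,27,519,521,522],
    [523,236,103,266,524,244],
    [525,62,29,520,20,526],
    [244,238,30,521,526,527],
    [511,514,31,522,527,20],
    [150,21,528,508,274,239],
    [529,530,280,531,275,237],
    [152,501,531,242,276,240],
    [158,507,532,82,281,258],
    [288,281,518,22,533,418],
    [160,258,519,23,418,534],
    [297,277,520,533,21,472],
    [46,63,521,418,472,372],
    [164,241,522,534,372,21],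
    [22,189,535,294,500,230],
    [536,529,283,295,537,228],
    [488,192,537,296,233,231],
    [499,205,538,297,78,267],
    [267,206,526,472,23,539],
    [232,207,527,372,539,22],
    [335,262,530,477,256,208],
    [337,26,256,478,540,210],
    [541,542,543,166,216,38],
    [542,90,515,465,271,201],
    [544,528,24,545,248,199],
    [166,453,545,207,546,202],
    [356,271,248,546,88,203],
    [411,432,546,220,547,212],
    [309,337,548,411,480,168],
    [362,540,88,547,24,213],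
    [354,464,549,65,550,276],
    [361,475,550,72,551,278],
    [552,361,92,28,553,170],
    [554,551,533,29,25,555],
    [170,278,418,30,555,556],
    [415,67,534,31,556,25],
    [26,309,265,552,417,172],
    [293,354,252,92,557,159],
    [330,480,557,553,175,173],
    [416,362,558,554,51,289],
    [289,213,472,555,27,559],
    [174,214,372,556,559,26],
    [260,306,536,265,421,176],
    [90,541,523,293,400,161],
    [535,560,28,252,561,156],
    [373,216,561,557,164,162],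
    [399,356,562,558,47,296],
    [53,485,539,559,31,29],
    [430,321,563,422,313,564],
    [57,331,422,565,566,323],
    [439,35,313,566,567,434],
    [59,36,564,323,434,568],
    [465,120,569,570,299,571],
    [199,572,32,349,317,573],
    [546,299,317,441,118,482],
    [281,571,573,442,482,403],
    [66,125,574,575,576,300],
    [67,577,132,32,578,327],
    [99,576,441,578,579,409],
    [69,300,442,327,409,122],
    [219,567,118,579,32,365],
    [73,568,403,122,142,32],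
    [507,33,572,580,303,581],
    [505,563,311,582,304,583],
    [82,584,582,585,189,586],
    [258,581,583,586,306,587],
    [248,569,116,588,314,589],
    [590,314,35,385,591,536],
    [251,589,36,386,536,592],
    [396,202,593,270,594,260],
    [595,305,591,488,33,421],
    [534,587,592,489,176,33],
    [96,34,596,577,597,307],
    [207,598,599,541,448,189],
    [98,565,541,312,600,308],
    [214,597,448,600,601,309],
    [100,575,345,117,602,325],
    [556,602,148,35,603,552],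
    [102,325,149,36,552,604],
    [291,601,488,603,34,417],
    [106,310,489,604,172,34],
    [181,400,605,299,606,607],
    [608,156,37,426,350,609],
    [299,557,426,179,375,401],
    [607,297,609,401,376,471],
    [565,171,179,37,610,360],
    [576,103,375,610,611,402],
    [187,52,612,576,613,301],
    [614,53,133,611,37,437],
    [301,54,376,402,437,185],
    [568,55,471,138,185,37],
    [201,161,615,571,607,616],
    [62,617,308,304,618,619],
    [277,607,618,305,585,483],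
    [204,616,619,306,483,541],
    [620,44,339,621,333,622],
    [571,288,621,623,334,404],
    [616,163,622,404,335,542],
    [460,624,115,343,588,625],
    [624,390,130,626,346,627],
    [625,627,41,456,388,543],
    [303,396,628,444,357,347],
    [363,357,387,192,152,548],
    [306,347,456,193,548,166],
    [467,332,629,363,368,344],
    [344,335,388,548,153,216],
    [630,558,631,632,380,334],
    [575,49,632,341,633,336],
    [597,174,380,633,634,337],
    [577,415,425,131,635,358],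
    [600,635,192,40,636,411],
    [637,634,152,636,39,480],
    [550,630,638,448,587,305],
    [71,613,587,601,312,311],
    [485,614,316,637,117,364],
    [256,42,639,612,616,606],
    [506,640,641,583,619,503],
    [81,606,503,587,541,585],
    [84,642,602,589,367,629],
    [527,367,328,318,643,523],
    [87,629,329,319,523,644],
    [163,204,590,320,429,90],
    [472,483,643,321,42,400],
    [264,585,644,322,161,42],
    [612,397,626,424,347,393],
    [606,47,627,393,348,435],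
    [531,608,637,367,625,487],
    [367,631,362,529,197,236],
    [487,609,218,236,351,560],
    [581,160,455,224,352,375],
    [586,645,529,43,60,75],
    [587,375,236,75,354,158],
    [585,435,560,158,273,43],
    [517,620,326,629,487,588],
    [593,487,124,370,646,535],
    [519,588,125,371,535,647],
    [629,628,140,446,378,648],
    [588,622,144,648,379,484],
    [649,377,172,398,650,385],
    [651,134,53,509,44,562],
    [385,379,54,510,562,295],
    [647,484,55,511,295,44],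
    [313,45,652,645,404,380],
    [653,654,410,494,405,378],
    [421,407,509,231,45,558],
    [120,135,510,232,558,288],
    [322,382,511,233,288,45],
    [254,653,412,419,655,370],
    [262,344,655,420,374,373],
    [429,355,656,421,149,399],
    [564,395,654,425,393,357],
    [566,50,393,635,657,359],
    [276,658,659,324,363,114],
    [658,159,450,190,401,352],
    [660,652,48,544,243,197],
    [324,623,544,273,205,60],
    [482,401,243,205,158,353],
    [602,610,205,70,661,361],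
    [68,566,468,602,637,326],
    [579,657,158,661,48,362],
    [578,633,449,144,493,408],
    [285,578,161,52,662,328],
    [663,493,231,53,49,554],
    [328,408,232,54,554,283],
    [604,139,233,55,283,49],
    [104,637,499,662,331,330],
    [559,579,500,663,125,416],
    [159,276,649,94,595,320],
    [521,491,52,389,664,318],
    [533,363,664,499,322,321],
    [594,482,665,500,121,420],
    [56,499,608,332,580,596],
    [563,497,336,333,666,667],
    [584,78,666,150,623,645],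
    [596,267,667,335,645,632],
    [605,252,129,423,626,654],
    [423,590,57,668,457,530],
    [654,254,59,530,458,669],
    [162,467,670,594,264,262],
    [334,595,668,56,501,477],
    [632,539,669,208,502,56],
    [633,285,501,58,671,478],
    [657,559,195,671,57,540],
    [58,107,581,597,614,338],
    [672,164,673,380,542,150],
    [567,109,542,634,341,339],
    [613,110,348,657,131,436],
    [436,111,196,540,59,674],
    [340,112,502,210,674,58],
    [61,265,675,616,574,570],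
    [470,574,588,344,315,468],
    [65,570,625,345,468,324],
    [676,498,677,622,667,495],
    [570,77,495,542,632,623],
    [572,537,635,627,443,490],
    [638,443,361,155,529,227],
    [573,490,169,351,227,544],
    [206,596,384,355,221,441],
    [441,632,227,356,75,205],
    [642,83,657,443,654,628],
    [443,522,433,678,427,515],
    [628,87,438,515,428,679],
    [404,418,678,61,430,465],
    [623,270,679,201,431,61],
    [617,525,359,490,628,626],
    [619,626,141,447,648,405],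
    [490,670,184,680,451,528],
    [626,526,187,528,452,681],
    [445,682,210,683,463,457],
    [134,684,67,62,512,549],
    [447,457,69,549,513,275],
    [405,681,73,275,514,62],
    [685,251,476,686,473,451],
    [347,260,686,454,474,453],
    [352,320,687,196,477,464],
    [407,477,512,64,240,550],
    [136,181,513,550,241,277],
    [64,422,688,483,586,448],
    [589,685,408,484,494,446],
    [449,431,514,277,242,64],
    [689,296,690,357,435,128],
    [296,203,682,595,91,429],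
    [492,521,66,691,459,427],
    [357,533,691,431,507,430],
    [635,101,507,439,692,432],
    [611,291,201,692,66,433],
    [401,594,693,182,508,474],
    [610,556,508,187,694,475],
    [493,694,240,71,67,551],
    [601,611,382,493,141,410],
    [410,433,241,551,69,280],
    [466,564,589,468,316,363],
    [203,689,369,482,146,355],
    [688,695,70,243,560,155],
    [143,674,242,280,73,71],
    [79,74,696,672,598,584],
    [504,697,601,503,599,582],
    [269,448,646,373,74,500],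
    [95,586,647,374,230,74],
    [698,496,633,673,495,666],
    [237,699,364,487,659,314],
    [699,228,358,690,490,423],
    [700,701,75,218,169,661],
    [314,423,661,560,544,529],
    [569,76,701,695,492,685],
    [665,447,413,390,76,538],
    [318,494,414,391,538,266],
    [592,446,415,392,266,76],
    [93,468,650,399,489,488],
    [539,441,651,400,223,499],
    [380,261,680,79,453,508],
    [645,95,681,239,454,79],
    [80,605,700,491,660,653],
    [379,693,479,80,460,532],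
    [494,427,481,532,461,257],
    [378,669,485,257,462,80],
    [393,89,683,502,464,501],
    [375,534,684,235,465,507],
    [656,405,173,496,83,525],
    [370,378,174,497,525,252],
    [644,648,175,498,252,83],
    [484,687,212,84,504,517],
    [446,451,214,517,505,248],
    [648,679,220,248,506,84],
    [495,85,540,687,530,463],
    [388,678,278,514,531,512],
    [155,686,282,247,532,516],
    [295,532,101,86,702,649],
    [157,516,102,87,649,703],
    [538,275,104,702,85,682],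
    [228,237,105,649,682,590],
    [498,513,106,703,590,85],
    [86,503,552,536,656,398],
    [643,456,289,537,511,509],
    [655,197,290,538,245,524],
    [524,200,111,682,87,704],
    [510,506,112,590,704,86],
    [666,520,272,684,515,459],
    [583,667,636,151,191,225],
    [667,250,96,693,528,473],
    [151,668,547,506,545,504],
    [560,691,551,238,549,531],
    [558,550,702,93,89,595],
    [397,240,703,95,320,89],
    [518,582,287,523,651,389],
    [250,583,107,535,665,419],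
    [591,191,553,561,498,496],
    [664,544,554,562,229,537],
    [231,470,704,429,95,93],
    [634,104,274,694,96,476],
    [97,705,660,403,355,132],
    [705,108,695,352,471,133],
    [599,673,145,405,484,134],
    [659,666,167,543,469,191],
    [543,680,98,462,516,460],
    [548,430,516,470,258,466],
    [636,671,258,485,98,479],
    [305,334,648,449,382,407],
    [351,683,100,200,517,545],
    [353,474,517,206,259,546],
    [661,692,259,219,100,547],
    [101,600,294,107,663,412],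
    [603,636,267,109,415,413],
    [662,661,268,110,171,553],
    [553,547,595,111,102,706],
    [414,212,320,112,706,101],
    [321,548,524,267,397,395],
    [420,353,525,268,160,557],
    [173,481,429,706,106,104],
    [582,690,217,394,543,151],
    [646,543,109,524,392,390],
    [650,351,110,525,157,561],
    [427,318,113,608,572,707],
    [477,421,707,596,581,630],
    [183,329,332,113,708,577],
    [210,172,580,708,709,597],
    [438,126,303,709,113,614],
    [188,127,630,307,338,113],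
    [515,119,567,710,563,711],
    [196,230,710,705,422,598],
    [464,293,711,598,564,658],
    [459,591,301,712,569,698],
    [461,698,117,625,589,659],
    [431,500,713,689,584,422],
    [209,123,689,568,714,565],
    [272,287,584,714,715,566],
    [211,604,607,302,716,575],
    [278,716,344,116,717,602],
    [481,715,315,717,115,637],
    [502,489,712,606,570,486],
    [501,121,698,486,571,612],
    [532,713,579,653,349,377],
    [257,707,365,377,573,491],
    [235,223,624,366,440,580],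
    [241,672,653,118,132,146],
    [242,580,377,146,442,221],
    [240,612,491,221,403,118],
    [516,675,309,618,582,688],
    [246,711,215,688,583,638],
    [497,505,292,593,670,250],
    [682,304,126,646,119,665],
    [522,638,127,647,419,119],
    [391,504,556,527,718,518],
    [395,466,718,539,534,533],
    [557,546,719,269,261,594],
    [182,488,697,607,486,574],
    [184,124,486,716,720,576],
    [454,222,620,342,596,440],
    [545,696,122,660,384,349],
    [282,708,355,142,700,578],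
    [213,720,221,700,122,579],
    [212,714,483,215,641,600],
    [555,641,373,126,123,663],
    [286,308,374,127,412,123],
    [180,523,565,563,721,722],
    [239,149,721,313,705,672],
    [271,399,722,564,672,689],
    [668,389,300,605,712,697],
    [697,391,131,654,627,690],
    [714,414,424,130,723,635],
    [720,289,347,723,129,657],
    [508,322,724,584,658,313],
    [186,177,658,715,568,567],
    [674,178,571,720,302,613],
    [679,644,725,711,722,642],
    [195,148,642,658,689,705],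
    [198,655,716,698,615,639],
    [514,615,578,317,653,369],
    [200,639,327,573,369,660],
    [686,154,720,615,697,675],
    [615,511,611,685,426,450],
    [675,157,437,450,609,695],
    [598,232,685,133,179,190],
    [684,651,576,639,675,712],
    [549,712,310,619,688,599],
    [639,524,337,666,621,652],
    [712,562,340,652,622,673],
    [726,245,634,495,631,621],
    [247,726,600,638,503,618],
    [474,420,699,574,612,299],
    [640,510,138,492,455,426],
    [574,231,492,471,224,179],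
    [716,170,224,185,701,610],
    [709,290,352,701,138,611],
    [708,283,645,340,677,633],
    [641,677,381,143,139,493],
    [280,709,586,641,310,601],
    [513,676,142,384,491,317],
    [458,643,714,724,642,721],
    [669,370,575,699,639,605],
    [547,727,146,365,327,700],
    [194,147,727,676,640,726],
    [526,619,603,591,147,656],
    [255,618,604,592,398,147],
    [580,233,445,376,190,224],
    [719,599,330,643,154,651],
    [703,688,331,644,389,154],
    [618,621,279,227,236,243],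
    [156,531,285,254,719,593],
    [702,625,416,655,647,646],
    [718,349,417,656,386,650],
    [721,509,402,445,450,455],
    [238,722,717,314,343,367],
    [722,244,165,667,652,631],
    [253,343,662,664,644,643],
    [704,660,663,665,371,655],
    [715,173,404,677,165,634],
    [453,176,676,440,630,303],
    [275,724,312,599,638,304],
    [462,721,325,659,629,343],
    [717,723,226,217,167,636],
    [284,717,399,177,604,603],
    [706,700,400,178,329,662],
    [520,659,177,650,592,591],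
    [670,573,178,651,319,664],
    [724,538,610,350,685,445],
    [707,266,360,609,445,492],
    [333,649,183,180,680,693],
    [631,527,188,473,681,180],
    [496,461,559,718,522,520],
    [677,555,453,186,183,694],
    [234,374,617,581,342,366],
    [696,561,185,455,695,350],
    [339,298,454,476,188,186],
    [678,386,715,642,713,710],
    [451,592,613,675,699,569],
    [727,553,190,437,360,701],
    [622,519,671,194,668,687],
    [621,255,674,463,669,194],
    [673,719,432,198,678,684],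
    [652,704,439,459,679,198],
    [537,199,291,719,251,670],
    [627,702,475,681,686,680],
    [350,718,478,458,687,683],
    [711,229,723,346,423,443],
    [346,249,692,679,691,678],
    [695,703,694,452,693,686],
    [512,710,409,369,377,384],
    [208,373,640,630,366,332],
    [713,295,341,631,673,333],
    [690,518,209,669,683,668],
    [723,284,464,674,209,671],
    [609,593,211,428,684,691],
    [701,706,465,438,211,692],
    [710,392,436,628,690,346],
    [680,646,597,617,620,624],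
    [693,385,323,722,696,713],
    [457,665,434,696,711,724],
    [473,419,568,713,724,563],
    [479,728,368,364,325,717],
    [728,413,444,436,358,723],
    [562,549,284,253,249,719],
    [392,512,286,255,593,249],
    [509,462,298,670,255,253],
    [274,294,726,303,332,342],
    [413,479,594,298,286,284],
    [530,536,302,697,698,699],
    [475,552,606,301,728,716],
    [540,416,570,728,300,720],
    [687,647,709,726,608,620],
    [463,319,614,620,707,676],
    [683,650,566,721,710,696],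
    [691,535,307,640,624,608],
    [478,328,366,338,727,708],
    [433,417,440,727,307,709],
    [432,412,672,434,725,714],
    [551,725,585,311,308,641],
    [390,460,706,704,703,702],
    [561,545,555,526,519,718],
    [476,330,598,725,323,715],
    [681,656,708,572,726,617],
    [428,398,577,707,617,640],
    [725,554,623,339,336,677],
    [528,664,338,624,676,572],
    [692,662,342,614,577,727],
    [452,371,728,569,605,615],
    [671,603,616,613,575,728],
    [694,663,705,567,565,725]]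

/-- Representatives of the Levi part. -/
def jList : List (List Row) :=
  [
    [(1,0), (2,0), (4,0), (8,0), (16,0), (32,0), (64,0), (128,0)],
    [(1,0), (2,0), (4,128), (72,0), (16,0), (32,0), (64,0), (128,0)],
    [(1,0), (2,0), (4,200), (72,0), (16,0), (32,0), (64,0), (192,0)],
    [(1,0), (2,4), (4,128), (104,0), (16,0), (32,0), (96,0), (128,0)],
    [(1,0), (98,4), (4,32), (8,0), (16,0), (32,0), (96,0), (128,0)]]

/-- For each Levi element a word, a representative and an exponent. -/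
def lCert : List (List ℕ × ℕ × ℕ) :=
  [
    ([], 0, 1),
    ([], 1, 1),
    ([10,1,1,2,9,9], 1, 1),
    ([8,3,3,5,6,6], 1, 2),
    ([8,3,3], 1, 1),
    ([8,3,3,7,5,7,6,4,6], 1, 2),
    ([10,1,1], 1, 1),
    ([], 1, 2),
    ([], 2, 1),
    ([], 3, 1),
    ([8], 1, 1),
    ([7,7,4,7], 3, 1),
    ([10], 1, 1),
    ([10,1,1,2,9,9], 1, 2),
    ([7,7,8,4,8,7,3,7,8,5,8,6,6], 3, 1),
    ([4,7,4,8,4,8,3,8,8], 3, 2),
    ([10,1,1,2,9,5,9], 1, 1),
    ([10,1,1,2], 1, 1),
    ([6], 3, 1),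
    ([7,7,8,4,8,3,8,5,8,6,6], 3, 1),
    ([8,3,3,5,6,6], 1, 1),
    ([8,3,3,5,5], 1, 1),
    ([8,3,3,7,5,7,6,6], 1, 2),
    ([], 4, 1),
    ([4,7,4,8,4,8,3,3,8,3], 3, 1),
    ([8,3,3], 1, 2),
    ([8,3,3], 2, 1),
    ([8,7,1,7], 1, 1),
    ([6,7,7,4,7], 3, 1),
    ([8,3,3,7,5,7,6,4,6], 1, 1),
    ([10,1,1,5,5], 1, 1),
    ([10,1,1], 1, 2),
    ([4,5,5,7,3,7,8,8], 4, 1),
    ([0,11,0], 3, 1),
    ([8,8], 1, 2),
    ([6,7,4,4], 3, 2),
    ([10,10], 1, 2),
    ([4,5,5,7,3,7,8,8], 4, 2),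
    ([], 0, 0),
    ([7,4,4,3,3,3,3,8,8,3,3], 3, 2),
    ([7,7,4,7,3], 3, 1),
    ([9], 2, 1),
    ([5,6,5], 3, 2),
    ([], 0, 0),
    ([3,8,3], 3, 2),
    ([8], 3, 1),
    ([7,7], 3, 1),
    ([10], 3, 1),
    ([7,4,4,3,3,8], 3, 1),
    ([8,8], 1, 1),
    ([7,8,8,7,4,7], 3, 1),
    ([8,10], 1, 1),
    ([4,7,4,6,4,6], 3, 2),
    ([7,4,4], 3, 1),
    ([7,7,6,4,6], 3, 1),
    ([10,10], 1, 1),
    ([7,7,8,4,8,3,8,5,8,5,6,5], 3, 2),
    ([7,7,8,4,8,3,8,8], 3, 2),
    ([10,1,1,8,2,8,2,9,2], 1, 1),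
    ([10,1,1,2,2], 1, 1),
    ([], 0, 0),
    ([7,7,8,4,8,6,3,6,8,5,8,5,6,5], 3, 2),
    ([7,7,8,4,8,7,3,7,8,5,8,5,6,5], 3, 1),
    ([7,7,8,4,8,3,3,8,3,6,5,6], 3, 2),
    ([7,7,8,4,8,6,3,6,8,5,8,6,6], 3, 1),
    ([7,7,8,4,8,3,5,6,6], 3, 1),
    ([7,7,8,4,8,6,3,6,8,8], 3, 2),
    ([7,7,8,4,8,3,3,8,3], 3, 2),
    ([4,7,4,8,4,8,3], 3, 2),
    ([4,7,4,8,4,8,6,3,6,8,8], 3, 2),
    ([7,7,4,7,10,3,10], 3, 1),
    ([10,1,1,8,2,8,2,9,2], 1, 2),
    ([10,1,1,8,2,8], 1, 1),
    ([10,1,1,2,2], 1, 2),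
    ([3,8,3], 3, 1),
    ([], 0, 0),
    ([5,6,5], 3, 1),
    ([7,1,1,10,10,1,1], 3, 2),
    ([1,1,10,10,1,1], 3, 2),
    ([7,7,8,4,8,7,3,7,8,5,8,5,6,5], 3, 2),
    ([7,7,8,4,8,6,3,6,8,5,8,5,6,5], 3, 1),
    ([7,7,8,4,8,7,3,7,6,5,6], 3, 1),
    ([7,7,8,4,8,6,3,6,5,6,6], 3, 1),
    ([0,11,0], 3, 2),
    ([7,7,8,4,8,3,8,5,8,5,6,5], 3, 1),
    ([8,3,3,5], 1, 1),
    ([8,7,1,7,7,5,7,6,6], 1, 1),
    ([8,3,3,6,4,6,5], 2, 1),
    ([7,7,8,4,8,3,5,2,9,2], 3, 2),
    ([8,3,3,5], 1, 2),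
    ([8,3,3,4,4], 2, 1),
    ([4,4], 4, 1),
    ([6,7,7], 3, 1),
    ([8,7,1,7,7,5,7,6,6], 1, 2),
    ([5,5], 4, 1),
    ([8,3,3,6,4,6,5], 2, 2),
    ([7,7,8,4,8,3,3,8,3], 3, 1),
    ([4,7,4,8,4,8,10,3,10,5,5], 3, 2),
    ([7,7,8,4,8,6,3,6,8,8], 3, 1),
    ([4,7,4,8,4,8,10,3,10], 3, 2),
    ([7,7,8,4,8,3,8,8], 3, 1),
    ([4,5,6,4,6], 4, 2),
    ([8,8,10,3,10], 1, 1),
    ([7,1,10,1,6,4,6], 3, 2),
    ([4,5,6,4,6], 4, 1),
    ([8,8,6,3,6], 2, 2),
    ([8,8,10,3,10], 1, 2),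
    ([7,4,4], 3, 2),
    ([7,7,10,10], 3, 1),
    ([4,7,4,6,4,6], 3, 1),
    ([6,7,4,4], 3, 1),
    ([10,1,1,5], 1, 1),
    ([10,1,1,5], 1, 2),
    ([], 2, 2),
    ([], 0, 0),
    ([7,4,4,3,8,8], 3, 2),
    ([7,4,4,8,8,3,3,8,8], 3, 1),
    ([4,5,5,3,8,8], 4, 1),
    ([], 0, 0),
    ([6], 3, 2),
    ([6,4,7,4], 3, 2),
    ([10,0,11,0], 3, 1),
    ([7,4,4,3,3,8,3], 3, 1),
    ([8], 1, 2),
    ([6,4,7,4,8,4,8], 3, 2),
    ([10,4,10], 1, 2),
    ([6,7,7,4,7], 3, 2),
    ([10], 1, 2),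
    ([], 0, 0),
    ([7,7,4,7,3,3,3,3,8,8,3,3], 3, 2),
    ([7,7,4,7,3,3], 3, 1),
    ([4,5,5,3,3,8,3], 4, 1),
    ([], 0, 0),
    ([], 0, 0),
    ([], 0, 0),
    ([], 0, 0),
    ([], 0, 0),
    ([], 0, 0),
    ([7,7,6,4,6,3,3,8], 3, 1),
    ([7,7,4,7,3,3,8,3], 3, 2),
    ([8,9], 2, 1),
    ([4,7,4,6,4,6,3,3,8], 3, 1),
    ([7,4,4,6,3,6], 3, 2),
    ([7,4,4,3,3], 3, 1),
    ([7,7,4,7,6,3,6], 3, 1),
    ([9,9], 2, 1),
    ([], 0, 0),
    ([], 3, 2),
    ([7,3,3,8,8,3,3], 3, 1),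
    ([10,5,6,5], 3, 2),
    ([], 0, 0),
    ([], 0, 0),
    ([], 0, 0),
    ([], 0, 0),
    ([8], 3, 2),
    ([], 0, 0),
    ([4,4,7,7,4,4], 3, 1),
    ([10,10,3,8,3], 3, 2),
    ([], 0, 0),
    ([7,7,8], 3, 1),
    ([8,10], 3, 1),
    ([7,6,4,6], 3, 2),
    ([7], 3, 1),
    ([10,7,7], 3, 1),
    ([10,10], 3, 1),
    ([7,7,4,7,3,3,8], 3, 1),
    ([], 0, 0),
    ([7,7,4,7,6,3,6,8,8], 3, 1),
    ([8], 2, 1),
    ([7,7,4,7,3,8,8], 3, 1),
    ([7,7,8,4,8], 3, 1),
    ([8,1,1,10,10,1,1], 1, 2),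
    ([4,7,4,10,4,10], 3, 2),
    ([7,8,4,4], 3, 1),
    ([7,10,10,7,4,7], 3, 1),
    ([8,7], 1, 1),
    ([1,10,1,4,7,4], 3, 1),
    ([7,7,4,7], 3, 2),
    ([7,7,6,4,6], 3, 2),
    ([], 0, 0),
    ([7,7,8,4,8,3,8,5,8,6,6], 3, 2),
    ([7,7,8,4,8,3,5,8,5,8], 3, 2),
    ([7,7,8,4,8,6,3,6,5,5,6,5], 3, 2),
    ([4,7,4,8,4,8,3,3,8,3], 3, 2),
    ([7,8,8,7,4,7,8,3,8], 3, 2),
    ([7,7,4,7,8,3,8], 3, 2),
    ([10,1,1,2,9,5,9], 1, 2),
    ([10,1,1,2,3,8,3], 1, 1),
    ([10,1,1,2], 1, 2),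
    ([], 0, 0),
    ([], 0, 0),
    ([], 0, 0),
    ([], 0, 0),
    ([], 0, 0),
    ([7,7,8,4,8,7,3,7,8,5,8,6,6], 3, 2),
    ([7,7,8,4,8,3,5,5], 3, 2),
    ([7,7,8,4,8,3,5,5,6], 3, 2),
    ([], 0, 0),
    ([7,7,8,4,8,6,3,6,8,5,8,6,6], 3, 2),
    ([4,7,4,8,4,8,3,8,5,8], 3, 2),
    ([7,7,8,4,8,7,3,7,9,5,9,5,6,5], 3, 1),
    ([7,7,8,4,8,3,5,5,9], 3, 2),
    ([7,7,8,4,8,7,3,7,8,5,8], 3, 1),
    ([4,7,4,8,4,8,3,5,5], 3, 2),
    ([7,7,8,4,8,6,3,6,6,5,6], 3, 1),
    ([], 0, 0),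
    ([7,7,8,4,8,3,5,5,5,5,6,6,5,5], 3, 1),
    ([7,7,8,4,8,7,3,7,9,5,9,6,6], 3, 1),
    ([4,7,4,8,4,8,6,3,6,6,5,6], 3, 1),
    ([4,7,4,8,4,8,3,8,8], 3, 1),
    ([7,10,10,7,4,7,3,3], 3, 1),
    ([4,7,4,8,4,8,6,3,6,8,8], 3, 1),
    ([7,7,8,4,8,7,3,7], 3, 1),
    ([7,8,4,4,8,3,8], 3, 2),
    ([4,7,4,8,4,8,6,3,6], 3, 2),
    ([7,4,4,3], 3, 2),
    ([], 0, 0),
    ([4,7,4,6,4,6,3,3], 3, 1),
    ([7,4,4,8,3,8], 3, 2),
    ([10,1,1,2,5], 1, 1),
    ([10,1,1,2,3,3,8,8,3,3], 1, 2),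
    ([], 0, 0),
    ([7,3,8,3], 3, 1),
    ([10,3,8,3], 3, 1),
    ([], 0, 0),
    ([], 0, 0),
    ([], 0, 0),
    ([], 0, 0),
    ([4,4,7,7,4,4,8,8], 3, 1),
    ([10,10,5,6,5], 3, 1),
    ([10,4,7,4], 3, 2),
    ([7,8,8], 3, 1),
    ([7,1,10,1], 3, 2),
    ([1,10,1], 3, 2),
    ([4,7,4,8,4,8,10,3,10,6,5,6], 3, 1),
    ([7,7,8,4,8,3,5,5,6,5], 3, 2),
    ([], 0, 0),
    ([7,7,8,4,8,7,3,7,6,6,5,5,6,6], 3, 1),
    ([7,7,8,4,8,6,3,6,9,5,9,5,6,5], 3, 1),
    ([7,7,8,4,8,6,3,6,5,5], 3, 2),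
    ([7,7,8,4,8,3,9,5,9], 3, 1),
    ([4,7,4,8,4,8,6,3,6,5,5], 3, 2),
    ([7,7,8,4,8,3,9,5,9,6,6], 3, 1),
    ([], 0, 0),
    ([1,10,1,4,4,7,7,4,4], 3, 2),
    ([10,10,0,11,0], 3, 2),
    ([4,7,4,8,4,8,3,5], 3, 2),
    ([7,7,8,4,8,3,9,5,9,5,6,5], 3, 1),
    ([4,7,4,8,4,8,10,3,10,8,5,8], 3, 2),
    ([8,3,3,5,5], 1, 2),
    ([8,3,3,4], 2, 1),
    ([8,3,3,7,5,7], 2, 1),
    ([6,4,4,7,7,4,4], 3, 1),
    ([8,3,3,7,5,7,6,6], 1, 1),
    ([8,3,3,6,4,6], 2, 1),
    ([], 4, 2),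
    ([7,7,8,4,8,3,5,3,8,3], 3, 1),
    ([4,7,4,8,4,8,6,3,6,7,5,7], 3, 2),
    ([7,7,8,4,8,6,3,6,5], 3, 1),
    ([7,7,8,4,8,3,8,5,8], 3, 1),
    ([4,7,7], 4, 1),
    ([4], 4, 1),
    ([4,7,5,7], 4, 2),
    ([8,7,1,7,5,5], 1, 1),
    ([8,8,9,3,9,5,5], 2, 2),
    ([4,7,4], 3, 2),
    ([7,7,3,3,8,8,3,3], 3, 2),
    ([7,7,1,1,10,10,1,1], 3, 2),
    ([6,7], 3, 1),
    ([5], 4, 1),
    ([8,8,9,3,9,4,4], 2, 2),
    ([7,7,8,4,8,7,3,7,5,5], 3, 2),
    ([7,8,8,7,4,7,3,3], 3, 1),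
    ([], 0, 0),
    ([4,7,4,8,4,8,3,6,5,6], 3, 1),
    ([7,7,8,4,8,3,6,6,5,5,6,6], 3, 1),
    ([7,7,8,4,8,7,3,7,9,5,9], 3, 1),
    ([7,7,8,4,8,3,6,5,6], 3, 1),
    ([7,7,8,4,8,6,3,6], 3, 1),
    ([8,6], 2, 1),
    ([7,8,4,4,3,3], 3, 1),
    ([7,7,8,4,8,3,5], 3, 1),
    ([7,7,8,4,8,3], 3, 1),
    ([7,7,10,4,10], 3, 1),
    ([8,3,3], 2, 2),
    ([4,5,5], 4, 1),
    ([8,7,1,7], 1, 2),
    ([4,7,4,8,4,8], 3, 2),
    ([4,4,7,7,4,4,3,8,3], 3, 2),
    ([7,8,4,8,10,4,10], 3, 1),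
    ([7,10,4,4], 3, 1),
    ([5,4,4], 4, 1),
    ([8,8,9,3,9], 2, 2),
    ([4,7,4,8], 3, 2),
    ([7,8,4,8], 3, 2),
    ([10,4,4,7,7,4,4], 3, 1),
    ([7,10,10], 3, 1),
    ([7,10], 3, 1),
    ([10,1,1,5,5], 1, 2),
    ([], 0, 0),
    ([7,7,4,7,3,8,8], 3, 2),
    ([7,4,4,8,3,8], 3, 1),
    ([9,9], 2, 2),
    ([], 0, 0),
    ([], 0, 0),
    ([], 0, 0),
    ([], 0, 0),
    ([7,7,4,7,6,3,6,8,8], 3, 2),
    ([7,7,4,7,3,3,8], 3, 2),
    ([7,8,8,7,4,7,6,3,6], 3, 1),
    ([7,4,4,6,3,6,8,8], 3, 2),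
    ([7,7,4,7,8,3,8], 3, 1),
    ([4,5,5,3,3,8,3], 4, 2),
    ([], 0, 0),
    ([], 0, 0),
    ([], 0, 0),
    ([], 0, 0),
    ([], 0, 0),
    ([6,7], 3, 2),
    ([1,10,1], 3, 1),
    ([8,3,3,7,5,7], 1, 2),
    ([6,4,4,7,7,4,4], 3, 2),
    ([10,10,0,11,0], 3, 1),
    ([7,7,4,7,3,3,8,3], 3, 1),
    ([], 0, 0),
    ([7,7,6,4,6,3,3,8], 3, 2),
    ([7,8,8,7,4,7,3], 3, 1),
    ([7,7,4,7,3,3,3,3,8,8,3,3], 3, 1),
    ([7,10,4,4], 3, 2),
    ([8,7], 1, 2),
    ([7,7,10,4,10], 3, 2),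
    ([8,1,1,10,10,1,1], 1, 1),
    ([], 0, 0),
    ([], 0, 0),
    ([], 0, 0),
    ([], 0, 0),
    ([7,4,4,3,3,8,3], 3, 2),
    ([4,7,4,10,4,10,3,3], 3, 2),
    ([4,7,4,6,4,6,3,3], 3, 2),
    ([7,4,4,3], 3, 1),
    ([7,7,6,4,6,3,3], 3, 1),
    ([4,5,5,3,8,8], 4, 2),
    ([], 0, 0),
    ([], 0, 0),
    ([], 0, 0),
    ([], 0, 0),
    ([], 0, 0),
    ([], 0, 0),
    ([], 0, 0),
    ([], 0, 0),
    ([], 0, 0),
    ([], 0, 0),
    ([], 0, 0),
    ([], 0, 0),
    ([], 0, 0),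
    ([], 0, 0),
    ([], 0, 0),
    ([], 0, 0),
    ([7,4,4,3,8,8], 3, 1),
    ([4,7,4,8,4,8,3,3], 3, 2),
    ([7,4,4,6,3,6,8,8], 3, 1),
    ([7,8,4,4,6,3,6], 3, 2),
    ([6,7,7,10,4,10,3,3], 3, 2),
    ([], 0, 0),
    ([7,7,4,7,3,3], 3, 2),
    ([7,7,6,4,6,3,3], 3, 2),
    ([], 0, 0),
    ([], 0, 0),
    ([], 0, 0),
    ([], 0, 0),
    ([7,10], 3, 2),
    ([10,10], 3, 2),
    ([4,5], 4, 2),
    ([7,7,3,3,8,8,3,3], 3, 1),
    ([10,10,5,6,5], 3, 2),
    ([], 0, 0),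
    ([], 0, 0),
    ([], 0, 0),
    ([], 0, 0),
    ([], 0, 0),
    ([], 0, 0),
    ([], 0, 0),
    ([], 0, 0),
    ([], 0, 0),
    ([], 0, 0),
    ([4,7,4,3,8,3], 3, 1),
    ([6,10,4,10], 3, 2),
    ([], 0, 0),
    ([], 0, 0),
    ([7,6,6], 3, 2),
    ([4,7,4], 3, 1),
    ([10,10,4,4,7,7,4,4], 3, 1),
    ([10,3,8,3], 3, 2),
    ([], 0, 0),
    ([], 0, 0),
    ([7,8], 3, 1),
    ([8,7,7], 3, 1),
    ([6,10,4,10], 3, 1),
    ([7,10,10], 3, 2),
    ([4,4,7,7,4,4,8,8], 3, 2),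
    ([7,5,6,5], 3, 2),
    ([], 0, 0),
    ([4,7,4,8,4,8,8,3,8], 3, 1),
    ([], 0, 0),
    ([], 0, 0),
    ([], 0, 0),
    ([], 0, 0),
    ([], 0, 0),
    ([7,8,4,4,3], 3, 2),
    ([7,8,8,7,4,7,8,8,3,3,8,8], 3, 2),
    ([7,7,8,4,8,8,3,8], 3, 1),
    ([7,8,4,4,7,3,7], 3, 2),
    ([7,8,4,8,10,4,10], 3, 2),
    ([4,7,4,8,4,8], 3, 1),
    ([6,7,7,10,4,10], 3, 1),
    ([10,4,10], 1, 1),
    ([7,7,8,4,8], 3, 2),
    ([6,7,7,10,4,10], 3, 2),
    ([8,8,6,3,6,4,4], 2, 2),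
    ([7,7,1,1,10,10,1,1], 3, 1),
    ([1,10,1,4,4,7,7,4,4], 3, 1),
    ([4,7,4,1,10,1], 3, 1),
    ([], 0, 0),
    ([], 0, 0),
    ([], 0, 0),
    ([], 0, 0),
    ([], 0, 0),
    ([7,7,8,4,8,3,8,5,8], 3, 2),
    ([7,7,8,4,8,3,9,5,9,6,6], 3, 2),
    ([8,8,10,3,10,5,5], 1, 2),
    ([4,7,4,8,4,8,10,3,10,8,5,8], 3, 1),
    ([7,7,8,4,8,3,9,5,9,5,6,5], 3, 2),
    ([7,8,4,4,3,3], 3, 2),
    ([7,7,8,4,8,3], 3, 2),
    ([7,4,4,3,3], 3, 2),
    ([], 0, 0),
    ([7,4,4,6,3,6], 3, 1),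
    ([7,4,4,8,8,3,3,8,8], 3, 2),
    ([10,1,1,2,3,3,8,8,3,3], 1, 1),
    ([10,1,1,2,5], 1, 2),
    ([], 0, 0),
    ([], 0, 0),
    ([], 0, 0),
    ([], 0, 0),
    ([], 0, 0),
    ([], 0, 0),
    ([], 0, 0),
    ([], 0, 0),
    ([], 0, 0),
    ([], 0, 0),
    ([], 0, 0),
    ([7,7,8,4,8,3,5], 3, 2),
    ([7,7,8,4,8,7,3,7,9,5,9,6,6], 3, 2),
    ([4,7,4,8,4,8,6,3,6,7,5,7], 3, 1),
    ([7,7,8,4,8,6,3,6,9,5,9,5,6,5], 3, 2),
    ([], 0, 0),
    ([], 0, 0),
    ([7,7,8,4,8,6,3,6,9,5,9], 3, 2),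
    ([7,7,8,4,8,6,3,6,9,5,9,6,6], 3, 2),
    ([7,7,8,4,8,6,3,6,8,5,8], 3, 2),
    ([7,7,8,4,8,3,5,3,8,3], 3, 2),
    ([4,7,4,8,4,8,3,7,5,7], 3, 2),
    ([7,7,8,4,8,3,5,5,6,5], 3, 1),
    ([7,7,8,4,8,7,3,7,9,5,9], 3, 2),
    ([7,7,8,4,8,7,3,7,6,6,5,5,6,6], 3, 2),
    ([4,7,4,8,4,8,6,3,6,8,5,8], 3, 1),
    ([7,7,8,4,8,3,7,5,7], 3, 1),
    ([7,7,8,4,8,3,6,5,6,9,9], 3, 1),
    ([], 0, 0),
    ([], 0, 0),
    ([7,7,8,4,8,6,3,6,9,5,9,6,6], 3, 1),
    ([], 0, 0),
    ([8,8,6,3,6,5,5], 2, 2),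
    ([7,7,8,4,8,6,3,6,5], 3, 2),
    ([4,7,4,8,4,8,3,5], 3, 1),
    ([7,8,4,4,8,3,8], 3, 1),
    ([7,7,8,4,8,6,3,6], 3, 2),
    ([7,7,8,4,8,6,3,6,6,6,5,5,6,6], 3, 2),
    ([7,8,4,8,10,4,10,3,3], 3, 2),
    ([7,8,8,7,4,7,3,3], 3, 2),
    ([7,7,8,4,8,3,3], 3, 2),
    ([7,8,4,8,10,4,10,3,3], 3, 1),
    ([], 0, 0),
    ([], 0, 0),
    ([], 0, 0),
    ([10,1,1,2,3,8,3], 1, 2),
    ([], 0, 0),
    ([], 0, 0),
    ([10,4,4,7,7,4,4], 3, 2),
    ([10,10,3,8,3], 3, 1),
    ([], 0, 0),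
    ([], 0, 0),
    ([], 0, 0),
    ([8,8], 2, 1),
    ([], 0, 0),
    ([], 0, 0),
    ([7,8,4,8], 3, 1),
    ([7,5,6,5], 3, 1),
    ([10,5,6,5], 3, 1),
    ([4,4,7,7,4,4], 3, 2),
    ([10,10,4,4,7,7,4,4], 3, 2),
    ([7,7,8,4,8,3,6,6,5,5,6,6], 3, 2),
    ([7,7,8,4,8,7,3,7,9,5,9,5,6,5], 3, 2),
    ([], 0, 0),
    ([4,7,4,8,4,8,3,6,5,6], 3, 2),
    ([4,7,4,8,4,8,6,3,6,8,5,8], 3, 2),
    ([7,7,8,4,8,3,5,5,6], 3, 1),
    ([4,7,4,8,4,8,3,8,5,8], 3, 1),
    ([4,7,4,8,4,8,3,7,5,7], 3, 1),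
    ([4,7,4,8], 3, 1),
    ([4,7,4,1,10,1], 3, 2),
    ([10,0,11,0], 3, 2),
    ([7,7,8,4,8,7,3,7,5,5], 3, 1),
    ([7,7,8,4,8,6,3,6,6,6,5,5,6,6], 3, 1),
    ([7,7,8,4,8,6,3,6,5,5,6,5], 3, 1),
    ([7,7,8,4,8,7,3,7,8,5,8], 3, 2),
    ([4,7,4,8,4,8,6,3,6,6,5,6], 3, 2),
    ([7,7,8,4,8,3,5,8,5,8], 3, 1),
    ([4,7,5,7], 4, 1),
    ([8,8,9,3,9,5,5], 2, 1),
    ([4,7,7], 4, 2),
    ([4,7], 4, 2),
    ([4], 4, 2),
    ([7], 3, 2),
    ([1,10,1,4,7,4], 3, 2),
    ([6,4,7,4], 3, 1),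
    ([8,8,9,3,9,4,4], 2, 1),
    ([5], 4, 2),
    ([7,7,8,4,8,3,7,5,7], 3, 2),
    ([], 0, 0),
    ([7,7,8,4,8,3,9,5,9], 3, 2),
    ([7,7,8,4,8,3,5,5,9], 3, 1),
    ([7,7,8,4,8,3,5,5], 3, 1),
    ([8,3,3,4], 2, 2),
    ([8,3,3,7,5,7], 2, 2),
    ([7,8], 3, 2),
    ([7,8,8], 3, 2),
    ([7,6,4,6], 3, 1),
    ([7,3,3,8,8,3,3], 3, 2),
    ([8,3,3,6,4,6], 2, 2),
    ([7,7,8,4,8,7,3,7], 3, 2),
    ([], 0, 0),
    ([], 0, 0),
    ([], 0, 0),
    ([], 0, 0),
    ([7,7,8,4,8,6,3,6,5,5], 3, 1),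
    ([7,7,8,4,8,6,3,6,8,5,8], 3, 1),
    ([7,10,10,7,4,7,3,3], 3, 2),
    ([], 0, 0),
    ([4,7,4,8,4,8,10,3,10,6,5,6], 3, 2),
    ([7,7,8,4,8,6,3,6,9,5,9], 3, 1),
    ([7,8,8,7,4,7,8,3,8], 3, 1),
    ([7,8,4,4], 3, 2),
    ([4,7,4,10,4,10], 3, 1),
    ([6,4,7,4,8,4,8], 3, 1),
    ([8,8,9,3,9], 2, 1),
    ([5,4,4], 4, 2),
    ([7,6,6], 3, 1),
    ([4,7,4,3,8,3], 3, 2),
    ([4,5,5], 4, 2),
    ([], 0, 0),
    ([10,4,7,4], 3, 1),
    ([7,3,8,3], 3, 2),
    ([], 0, 0),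
    ([], 0, 0),
    ([7,4,4,3,3,8], 3, 2),
    ([8,1,1,10,10,1,1], 2, 1),
    ([7,7,4,7,10,3,10], 3, 2),
    ([9], 2, 2),
    ([], 0, 0),
    ([], 0, 0),
    ([], 0, 0),
    ([], 0, 0),
    ([], 0, 0),
    ([], 0, 0),
    ([7,4,4,3,3,3,3,8,8,3,3], 3, 1),
    ([8,1,10,1], 2, 1),
    ([4,7,4,6,4,6,3,3,8], 3, 2),
    ([4,5,5,6,3,6], 4, 1),
    ([4,5,5,8,3,8], 4, 1),
    ([], 0, 0),
    ([], 0, 0),
    ([], 0, 0),
    ([], 0, 0),
    ([], 0, 0),
    ([], 0, 0),
    ([], 0, 0),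
    ([], 0, 0),
    ([], 0, 0),
    ([], 0, 0),
    ([8,7,1,7,7,5,7], 1, 1),
    ([6,7,7], 3, 2),
    ([1,1,10,10,1,1], 3, 1),
    ([8,8,6,3,6,5,5], 2, 1),
    ([4,7], 4, 1),
    ([8,7,1,7,7,5,7], 1, 2),
    ([], 0, 0),
    ([8,8], 2, 2),
    ([], 0, 0),
    ([], 0, 0),
    ([4,5,5,3], 4, 1),
    ([4,5,6,4,6,3,3], 4, 1),
    ([4,5,5,7,3,7], 4, 1),
    ([7,1,10,1,6,4,6], 3, 1),
    ([8,10], 1, 2),
    ([], 0, 0),
    ([], 0, 0),
    ([], 0, 0),
    ([], 0, 0),
    ([], 0, 0),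
    ([4,5,5,3,3], 4, 1),
    ([4,5,5,3], 4, 2),
    ([], 0, 0),
    ([7,7,4,7,3], 3, 2),
    ([7,7,4,7,6,3,6], 3, 2),
    ([], 0, 0),
    ([], 0, 0),
    ([], 0, 0),
    ([], 0, 0),
    ([], 0, 0),
    ([], 0, 0),
    ([], 0, 0),
    ([], 0, 0),
    ([], 0, 0),
    ([], 0, 0),
    ([], 0, 0),
    ([], 0, 0),
    ([], 0, 0),
    ([], 0, 0),
    ([], 0, 0),
    ([], 0, 0),
    ([], 0, 0),
    ([], 0, 0),
    ([4,5,6,4,6,3,3], 4, 2),
    ([4,5,5,6,3,6], 4, 2),
    ([4,5,5,8,3,8], 4, 2),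
    ([8,1,10,1], 2, 2),
    ([4,5,5,3,3], 4, 2),
    ([], 0, 0),
    ([], 0, 0),
    ([], 0, 0),
    ([4,7,4,8,4,8,3,3], 3, 1),
    ([], 0, 0),
    ([7,7,10,10], 3, 2),
    ([10], 3, 2),
    ([], 0, 0),
    ([4,4,7,7,4,4,3,8,3], 3, 1),
    ([8,10], 3, 2),
    ([], 0, 0),
    ([8,8,10,3,10,5,5], 1, 1),
    ([7,7,8], 3, 2),
    ([8,7,7], 3, 2),
    ([], 0, 0),
    ([], 0, 0),
    ([], 0, 0),
    ([7,7], 3, 2),
    ([10,7,7], 3, 2),
    ([4,5,5,7,3,7], 4, 2),
    ([], 0, 0),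
    ([], 0, 0),
    ([], 0, 0),
    ([8,1,1,10,10,1,1], 2, 2),
    ([7,8,8,7,4,7], 3, 2),
    ([7,10,10,7,4,7], 3, 2),
    ([7,1,1,10,10,1,1], 3, 1),
    ([7,1,10,1], 3, 1),
    ([], 0, 0),
    ([], 0, 0),
    ([7,7,8,4,8,3,5,2,9,2], 3, 1),
    ([7,7,8,4,8,6,3,6,5,6,6], 3, 2),
    ([8,8,6,3,6,4,4], 2, 1),
    ([4,7,4,8,4,8,10,3,10], 3, 1),
    ([], 0, 0),
    ([], 0, 0),
    ([10,1,1,8,2,8], 1, 2),
    ([], 0, 0),
    ([], 0, 0),
    ([7,8,8,7,4,7,3], 3, 2),
    ([4,7,4,8,4,8,10,3,10,5,5], 3, 1),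
    ([7,7,8,4,8,3,5,6,6], 3, 2),
    ([7,7,8,4,8,3,6,5,6], 3, 2),
    ([7,7,8,4,8,3,5,5,5,5,6,6,5,5], 3, 2),
    ([8,3,3,7,5,7], 1, 1),
    ([4,7,4,8,4,8,3,5,5], 3, 1),
    ([7,7,8,4,8,3,6,5,6,9,9], 3, 2),
    ([], 0, 0),
    ([7,7,8,4,8,3,3,8,3,6,5,6], 3, 1),
    ([7,7,8,4,8,6,3,6,6,5,6], 3, 2),
    ([], 0, 0),
    ([], 0, 0),
    ([], 0, 0),
    ([7,7,8,4,8,7,3,7,6,5,6], 3, 2),
    ([4,7,4,8,4,8,3], 3, 1),
    ([4,7,4,8,4,8,6,3,6,5,5], 3, 1),
    ([4,7,4,8,4,8,6,3,6], 3, 1),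
    ([], 0, 0),
    ([], 0, 0),
    ([], 0, 0),
    ([], 0, 0),
    ([], 0, 0),
    ([4,7,4,8,4,8,8,3,8], 3, 2),
    ([7,8,8,7,4,7,8,8,3,3,8,8], 3, 1),
    ([8,3,3,4,4], 2, 2),
    ([4,4], 4, 2),
    ([5,5], 4, 2),
    ([], 0, 0),
    ([8,8,6,3,6], 2, 1),
    ([], 0, 0),
    ([6,7,7,10,4,10,3,3], 3, 1),
    ([7,8,4,4,6,3,6], 3, 1),
    ([], 0, 0),
    ([], 0, 0),
    ([], 0, 0),
    ([], 0, 0),
    ([7,7,8,4,8,3,3], 3, 1),
    ([7,8,4,4,7,3,7], 3, 1),
    ([7,7,8,4,8,8,3,8], 3, 2),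
    ([4,7,4,10,4,10,3,3], 3, 1),
    ([8,7,1,7,5,5], 1, 2),
    ([4,5], 4, 1),
    ([7,8,4,4,3], 3, 1),
    ([], 0, 0),
    ([], 0, 0),
    ([7,8,8,7,4,7,6,3,6], 3, 2),
    ([], 0, 0),
    ([8,9], 2, 2),
    ([], 0, 0),
    ([8], 2, 2),
    ([8,6], 2, 2)]

/-- Certificates for the elements over the representative 0. -/
def cand0 : List (List ℕ × ℕ × ℕ) :=
  [
    ([], 0, 0),
    ([19,4,4,8,15,15], 0, 2),
    ([14,9,9,18,11,18,12,5,12], 0, 1),
    ([19,4,4], 0, 1),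
    ([16,7,7,18,11,18,12,5,12], 0, 1),
    ([21,2,2], 0, 1),
    ([14,14,21,9,21,2], 0, 2),
    ([19,4,4,8,15,15], 0, 1),
    ([19,4,4,14,8,14,8,15,8], 0, 1),
    ([19,4,4,8,8], 0, 1),
    ([19,4,4,16,8,16,15,15], 0, 2),
    ([21,2,2,6,6], 0, 1),
    ([19,4,4,15,7,15,8], 5, 2),
    ([14,9,9,18,11,18,12,5,12], 0, 2),
    ([19,4,4,11,11], 0, 1),
    ([14,13,7,13,18,11,18,12,5,12], 0, 1),
    ([18,5,5], 7, 1),
    ([19,4,4,11,11,17,7,17], 0, 1),
    ([19,4,4], 0, 2),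
    ([19,4,4], 5, 1),
    ([19,13,2,13], 0, 1),
    ([16,19,4,4], 0, 1),
    ([16,7,7,18,11,18,12,5,12], 0, 2),
    ([21,2,2,11,11], 0, 1),
    ([21,21,14,2,14,12,8,12], 0, 2),
    ([21,2,2], 0, 2),
    ([21,21,14,2,14], 0, 2),
    ([14,14,21,9,21,2], 0, 1),
    ([19,4,4,8,15,11,15], 0, 1),
    ([19,4,4,8], 0, 1),
    ([21,2,2,6,17,11,17], 0, 1),
    ([21,2,2,6], 0, 1),
    ([18,5,5,14,6,14,9], 7, 1),
    ([19,4,4,8,15,11,15], 0, 2),
    ([19,4,4,8,9,14,9], 0, 1),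
    ([19,4,4,16,8,16,15,6,15], 0, 2),
    ([18,5,5,6,6], 7, 1),
    ([19,4,4,15,7,15,14,8,14], 5, 2),
    ([19,4,4,8], 0, 2),
    ([19,4,4,7,7], 5, 1),
    ([19,4,4,13,6,13], 0, 1),
    ([15,19,4,4,8,8], 5, 1),
    ([21,2,2,6,17,11,17], 0, 2),
    ([19,4,4,16,8,16,15,9,15], 0, 2),
    ([15,19,4,4,7,7], 5, 1),
    ([21,2,2,6], 0, 2),
    ([19,4,4,15,7,15,12,8,12], 5, 2),
    ([18,5,5,14,6,14,9], 7, 2),
    ([19,4,4,11], 0, 1),
    ([19,13,2,13,13,11,13,12,12], 0, 1),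
    ([19,4,4,12,10,12,11], 5, 1),
    ([19,19,16,4,16,12,6,12], 0, 1),
    ([19,4,4,11], 0, 2),
    ([19,4,4,10,10], 5, 1),
    ([18,18,12,5,12], 7, 2),
    ([19,19,16,4,16,12,11,12], 0, 1),
    ([19,13,2,13,13,11,13,12,12], 0, 2),
    ([18,18,13,5,13], 7, 2),
    ([19,13,2,13,14,11,14,11,12,11], 0, 1),
    ([19,4,4,12,10,12,11], 5, 2),
    ([18,18,14,5,14], 7, 2),
    ([19,19,16,4,16,12,6,12], 0, 2),
    ([10,10,18,11,18,12,5,12], 7, 1),
    ([19,19,21,4,21], 0, 1),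
    ([19,19,16,4,16], 0, 1),
    ([10,10,18,11,18,12,5,12], 7, 2),
    ([19,19,12,4,12], 5, 2),
    ([15,19,4,4], 5, 1),
    ([19,19,21,4,21], 0, 2),
    ([21,10,21,14,2,14], 0, 2),
    ([19,19,16,4,16], 0, 2),
    ([21,2,2,11], 0, 1),
    ([19,13,2,13,14,8,14,12,6,12], 0, 1),
    ([21,2,2,11], 0, 2),
    ([21,21,14,2,14,8], 0, 2),
    ([19,13,2,13,14,8,14,12,6,12], 0, 2),
    ([14,21,2,2], 0, 2),
    ([14,21,2,2], 0, 1),
    ([19,4,4,14,8,14,8,15,8], 0, 2),
    ([19,4,4,14,8,14], 0, 1),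
    ([19,4,4,13,11,13,12,6,12], 0, 2),
    ([18,5,5,6], 7, 1),
    ([18,5,5,17,9,17], 7, 1),
    ([19,4,4,8,8], 0, 2),
    ([19,4,4,7], 5, 1),
    ([19,4,4,13,8,13], 0, 1),
    ([10,18,11,18,17,5,17,13,6,13], 7, 1),
    ([19,4,4,16,8,16,15,15], 0, 1),
    ([21,2,2,16,6,16], 0, 1),
    ([10,18,11,18,17,5,17,12,6,12], 7, 1),
    ([21,2,2,6,6], 0, 2),
    ([18,5,5,14,6,14], 7, 1),
    ([19,4,4,15,7,15,8], 5, 1),
    ([19,4,4,11,9], 0, 1),
    ([19,4,4,16,8,16,15,10,15], 0, 2),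
    ([19,4,4,12,10,12,13,7,13], 5, 1),
    ([19,4,4,15,7,15,13,6,13], 5, 2),
    ([19,4,4,8,11], 0, 2),
    ([19,4,4,7,9,14,9], 5, 1),
    ([18,5,5,12,8,12], 7, 1),
    ([19,4,4,14,7,14,17,8,17], 5, 1),
    ([19,13,2,13,13,11,13,12,6,12], 0, 2),
    ([18,5,5,13,7,13], 7, 1),
    ([19,4,4,14,7,14,17,7,17], 5, 1),
    ([19,4,4,12,10,12,13,6,13], 5, 2),
    ([21,21,14,2,14,6,6], 0, 2),
    ([18,18,19,5,19,9,9], 7, 2),
    ([18,10,18,13,5,13,14,8,14], 7, 2),
    ([19,13,2,13,17,6,17], 0, 2),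
    ([19,4,4,16,8,16], 5, 2),
    ([18,11,18,12,5,12,14,7,14], 7, 2),
    ([19,4,4,12,6,12], 5, 1),
    ([18,18,12,5,12,14,6,14,12,8,12], 7, 2),
    ([19,13,2,13,15,8,15], 0, 2),
    ([15,19,19,12,4,12,8,8], 5, 2),
    ([18,5,5,14,6,14,15,9,15], 7, 2),
    ([21,2,2,11,7], 0, 1),
    ([19,4,4,15,7,15], 5, 2),
    ([19,13,2,13,14,6,14,15,11,15], 0, 2),
    ([15,19,19,12,4,12,7,7], 5, 2),
    ([18,5,5,14,6,14,16,9,16], 7, 2),
    ([19,4,4,15,7,15,16,9,16], 5, 2),
    ([18,18,19,5,19,6,6], 7, 2),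
    ([19,4,4,11,11], 0, 2),
    ([19,4,4,10], 5, 1),
    ([19,4,4,13,11,13], 5, 1),
    ([19,4,4,17,11,17], 0, 1),
    ([14,13,7,13,18,11,18,12,5,12], 0, 2),
    ([19,4,4,12,10,12], 5, 1),
    ([19,4,4,16,8,16,14,7,14], 0, 2),
    ([18,5,5], 7, 2),
    ([19,4,4,12,10,12,14,8,14], 5, 1),
    ([19,4,4,11,11,17,7,17], 0, 2),
    ([18,10,18,13,5,13], 7, 2),
    ([18,10,18,5], 7, 2),
    ([19,4,4,16,6,16], 0, 2),
    ([18,11,18,12,5,12], 7, 2),
    ([19,13,2,13,11,11], 0, 1),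
    ([19,19,15,4,15,12,11,12], 5, 1),
    ([19,19,20,4,20,11,11], 5, 2),
    ([10,18,10,18,14,5,14], 7, 2),
    ([19,19,16,4,16,6], 0, 2),
    ([18,11,18,5], 7, 2),
    ([19,13,2,13,14,8,14,12,7,12], 0, 1),
    ([19,19,20,4,20,10,10], 5, 2),
    ([11,18,11,18,14,5,14], 7, 2),
    ([19,13,2,13,14,11,14,12,12], 0, 2),
    ([19,4,4,12,10,12,17,11,17], 5, 2),
    ([18,18,19,5,19], 7, 2),
    ([19,4,4], 5, 2),
    ([10,10,18,11,18,13,5,13], 7, 1),
    ([18,10,18,13,5,13,16,10,16], 7, 2),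
    ([19,13,2,13], 0, 2),
    ([14,21,9,21,19,2,19], 0, 1),
    ([16,19,4,4], 0, 2),
    ([10,10,18,11,18,5], 7, 2),
    ([18,10,18,13,5,13,15,6,15], 7, 1),
    ([19,19,20,4,20], 5, 2),
    ([15,19,19,12,4,12], 5, 2),
    ([19,19,15,4,15], 5, 2),
    ([14,21,21,18,2,18], 0, 1),
    ([21,10,21,16,4,16], 0, 2),
    ([21,2,2,11,11], 0, 2),
    ([21,2,2,14,8,14], 0, 1),
    ([21,21,14,2,14,12,8,12], 0, 1),
    ([21,2,2,15,11,15], 0, 2),
    ([21,21,14,2,14,12,11,12], 0, 1),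
    ([21,21,14,2,14], 0, 1),
    ([19,4,4,8,11], 0, 1),
    ([19,13,2,13,13,11,13,12,6,12], 0, 1),
    ([19,4,4,12,10,12,13,6,13], 5, 1),
    ([18,18,19,5,19,9,9], 7, 1),
    ([19,4,4,11,9], 0, 2),
    ([19,4,4,14,7,14], 5, 1),
    ([18,5,5,12,6,12], 7, 1),
    ([18,18,12,5,12,17,9,17], 7, 2),
    ([19,4,4,16,8,16,15,10,15], 0, 1),
    ([18,5,5,13,6,13], 7, 1),
    ([18,18,13,5,13,17,9,17], 7, 2),
    ([19,4,4,12,10,12,13,7,13], 5, 2),
    ([19,4,4,12,7,12,15,11,15], 5, 1),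
    ([19,4,4,15,7,15,13,6,13], 5, 1),
    ([18,11,18,12,5,12,14,7,14], 7, 1),
    ([19,13,2,13,15,8,15], 0, 1),
    ([18,5,5,14,6,14,15,9,15], 7, 1),
    ([18,10,18,13,5,13,14,8,14], 7, 1),
    ([19,4,4,12,7,12], 5, 1),
    ([19,19,16,4,16,16,8,16], 0, 2),
    ([19,13,2,13,17,6,17], 0, 1),
    ([18,18,12,5,12,14,6,14], 7, 2),
    ([19,4,4,16,8,16], 5, 1),
    ([19,13,2,13,14,6,14,15,11,15], 0, 1),
    ([18,5,5,14,6,14,16,9,16], 7, 1),
    ([21,2,2,11,7], 0, 2),
    ([18,18,13,5,13,14,6,14], 7, 2),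
    ([19,4,4,15,7,15], 5, 1),
    ([18,18,19,5,19,6,6], 7, 1),
    ([19,4,4,15,7,15,16,9,16], 5, 1),
    ([19,4,4,14,8,14], 0, 2),
    ([19,4,4,10,9], 5, 1),
    ([19,4,4,10,13,6,13], 5, 1),
    ([19,4,4,15,6,15,16,9,16], 5, 1),
    ([19,4,4,13,11,13,12,6,12], 0, 1),
    ([19,4,4,10,12,6,12], 5, 1),
    ([19,4,4,15,6,15,15,9,15], 5, 1),
    ([18,5,5,6], 7, 2),
    ([18,18,14,5,14,6,6], 7, 2),
    ([18,5,5,17,9,17], 7, 2),
    ([18,10,18,5,13,6,13], 7, 2),
    ([18,18,12,5,12,14,9,14], 7, 1),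
    ([19,4,4,7,16,6,16], 5, 2),
    ([18,10,18,13,5,13,14,9,14], 7, 1),
    ([19,4,4,11,11,13,6,13], 0, 1),
    ([18,18,14,5,14,12,8,12], 7, 2),
    ([15,19,19,18,4,18,16,6,16], 5, 2),
    ([21,10,21,14,2,14,6,6], 0, 2),
    ([18,10,18,19,5,19,14,9,14], 7, 1),
    ([18,18,13,5,13,14,9,14], 7, 1),
    ([19,4,4,7,15,6,15], 5, 2),
    ([15,19,19,18,4,18,15,6,15], 5, 2),
    ([19,4,4,13,6,13,16,10,16], 0, 1),
    ([18,11,18,19,5,19,14,9,14], 7, 1),
    ([18,18,14,5,14,9,9], 7, 2),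
    ([19,19,12,4,12,14,7,14,7,16,7], 5, 2),
    ([19,4,4,7], 5, 2),
    ([18,10,18,19,5,19,14,8,14], 7, 2),
    ([19,4,4,16,8,16], 0, 2),
    ([19,4,4,13,8,13], 0, 2),
    ([19,19,15,4,15,12,8,12], 5, 1),
    ([10,18,11,18,17,5,17,13,6,13], 7, 2),
    ([18,11,18,19,5,19,14,7,14], 7, 2),
    ([16,19,4,4,8,8], 0, 1),
    ([19,19,12,4,12,15,8,15], 5, 1),
    ([10,18,11,18,14,5,14,17,6,17], 7, 1),
    ([19,19,16,4,16,8,8], 0, 2),
    ([15,19,19,12,4,12,15,8,15], 5, 1),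
    ([18,10,18,19,5,19,17,6,17], 7, 1),
    ([21,2,2,16,6,16], 0, 2),
    ([19,19,15,4,15,13,7,13], 5, 1),
    ([10,18,11,18,17,5,17,12,6,12], 7, 2),
    ([15,19,19,12,4,12,16,7,16], 5, 1),
    ([18,11,18,19,5,19,17,6,17], 7, 1),
    ([18,5,5,14,6,14], 7, 2),
    ([18,11,18,12,5,12], 7, 1),
    ([19,19,20,4,20,11,11], 5, 1),
    ([19,19,16,4,16,6], 0, 1),
    ([18,10,18,13,5,13], 7, 1),
    ([18,18,12,5,12,11,11], 7, 2),
    ([19,4,4,17,10,17], 5, 1),
    ([18,10,18,5], 7, 1),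
    ([19,19,12,4,12,14,11,14], 5, 2),
    ([19,4,4,16,6,16], 0, 1),
    ([19,19,20,4,20,10,10], 5, 1),
    ([19,13,2,13,14,11,14,12,12], 0, 1),
    ([18,11,18,5], 7, 1),
    ([19,19,12,4,12,14,10,14], 5, 2),
    ([19,13,2,13,14,8,14,12,7,12], 0, 2),
    ([18,18,19,5,19], 7, 1),
    ([19,4,4,12,10,12,17,11,17], 5, 1),
    ([19,4,4,10], 5, 2),
    ([19,19,12,4,12,10,10], 5, 2),
    ([18,18,14,10,14,13,5,13], 7, 2),
    ([19,4,4,13,11,13], 5, 2),
    ([18,10,18,14,5,14], 7, 2),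
    ([19,4,4,17,11,17], 0, 2),
    ([19,19,12,4,12,11,11], 5, 2),
    ([18,18,14,11,14,12,5,12], 7, 2),
    ([10,18,10,18,13,5,13], 7, 2),
    ([21,10,21,14,2,14,11,11], 0, 2),
    ([19,19,15,4,15,6], 5, 2),
    ([15,19,19,18,4,18,11,11], 5, 2),
    ([10,18,10,18,16,5,16], 7, 2),
    ([19,4,4,12,10,12], 5, 2),
    ([18,11,18,14,5,14], 7, 2),
    ([19,4,4,16,8,16,14,7,14], 0, 1),
    ([15,19,19,18,4,18,10,10], 5, 2),
    ([11,18,11,18,15,5,15], 7, 2),
    ([19,4,4,12,10,12,14,8,14], 5, 2),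
    ([19,19,20,4,20], 5, 1),
    ([19,19,15,4,15], 5, 1),
    ([10,10,18,11,18,5], 7, 1),
    ([11,11,18,10,18,14,5,14], 7, 2),
    ([18,10,18,13,5,13,15,6,15], 7, 2),
    ([21,10,21,16,4,16], 0, 1),
    ([14,21,21,18,2,18], 0, 2),
    ([10,10,18,11,18,13,5,13], 7, 2),
    ([10,10,18,11,18,14,5,14], 7, 2),
    ([18,10,18,13,5,13,16,10,16], 7, 1),
    ([15,19,19,18,4,18], 5, 2),
    ([19,2,21,2,15,4,15], 5, 1),
    ([14,21,9,21,19,2,19], 0, 2),
    ([21,21,14,2,14,12,11,12], 0, 2),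
    ([21,2,2,15,11,15], 0, 1),
    ([21,2,2,14,8,14], 0, 2),
    ([19,4,4,8,9,14,9], 0, 2),
    ([19,4,4,7,10], 5, 1),
    ([19,4,4,7,13,11,13], 5, 1),
    ([18,10,18,14,5,14,17,8,17], 7, 1),
    ([19,4,4,16,8,16,15,6,15], 0, 1),
    ([19,4,4,7,12,10,12], 5, 1),
    ([18,11,18,14,5,14,17,7,17], 7, 1),
    ([18,5,5,6,6], 7, 2),
    ([21,2,2,14,6,14], 0, 1),
    ([19,4,4,15,7,15,14,8,14], 5, 1),
    ([18,10,18,5,13,9,13], 7, 2),
    ([18,18,12,5,12,15,8,15], 7, 2),
    ([18,10,18,5,17,9,17], 7, 2),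
    ([18,10,18,13,5,13,16,7,16], 7, 2),
    ([21,10,21,14,2,14,16,6,16], 0, 2),
    ([16,19,4,4,14,8,14], 0, 1),
    ([15,19,19,18,4,18,14,8,14], 5, 2),
    ([19,19,12,4,12,14,8,14], 5, 2),
    ([19,19,15,4,15,14,8,14], 5, 2),
    ([18,18,13,5,13,16,7,16], 7, 2),
    ([18,11,18,5,17,9,17], 7, 2),
    ([15,19,19,18,4,18,14,7,14], 5, 2),
    ([19,19,12,4,12,14,7,14], 5, 2),
    ([19,19,15,4,15,14,7,14], 5, 2),
    ([14,21,2,2,6,6], 0, 2),
    ([21,21,14,2,14,14,6,14], 0, 2),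
    ([19,4,4,7,7], 5, 2),
    ([18,10,18,19,5,19,16,6,16], 7, 2),
    ([19,19,15,4,15,8,8], 5, 1),
    ([19,4,4,13,6,13], 0, 2),
    ([18,18,14,5,14,12,6,12], 7, 2),
    ([15,19,4,4,8,8], 5, 2),
    ([18,11,18,19,5,19,15,6,15], 7, 2),
    ([19,19,15,4,15,7,7], 5, 1),
    ([19,19,12,4,12,17,6,17], 5, 2),
    ([21,10,21,14,2,14,8], 0, 2),
    ([18,10,18,14,5,14,13,6,13], 7, 1),
    ([18,10,18,14,5,14,14,8,14], 7, 1),
    ([19,19,12,4,12,16,8,16], 5, 2),
    ([19,4,4,16,8,16,15,9,15], 0, 1),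
    ([18,18,14,5,14,13,6,13], 7, 2),
    ([15,19,4,4,7,7], 5, 2),
    ([18,11,18,14,5,14,14,7,14], 7, 1),
    ([19,19,12,4,12,15,7,15], 5, 2),
    ([19,4,4,15,7,15,12,8,12], 5, 1),
    ([18,10,18,13,5,13,16,7,16], 7, 1),
    ([15,19,19,18,4,18,14,8,14], 5, 1),
    ([19,19,15,4,15,14,8,14], 5, 1),
    ([18,10,18,5,13,9,13], 7, 1),
    ([18,10,18,13,5,13,13,6,13], 7, 1),
    ([19,18,10,18,13,5,13,8,8], 7, 1),
    ([18,18,12,5,12,15,8,15], 7, 1),
    ([18,10,18,14,5,14,17,6,17], 7, 1),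
    ([18,10,18,5,17,9,17], 7, 1),
    ([15,19,19,18,4,18,14,7,14], 5, 1),
    ([19,19,15,4,15,14,7,14], 5, 1),
    ([18,18,13,5,13,16,7,16], 7, 1),
    ([18,10,18,19,5,19,12,8,12], 7, 1),
    ([18,11,18,5,17,9,17], 7, 1),
    ([21,21,14,2,14,14,6,14], 0, 1),
    ([14,21,2,2,6,6], 0, 1),
    ([19,4,4,7,10], 5, 2),
    ([19,4,4,10,10,12,6,12], 5, 1),
    ([19,4,4,8,16,6,16], 0, 2),
    ([19,4,4,7,13,11,13], 5, 2),
    ([21,10,21,14,2,14,17,6,17], 0, 1),
    ([18,10,18,14,5,14,17,8,17], 7, 2),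
    ([19,4,4,10,10,13,6,13], 5, 1),
    ([19,4,4,14,8,14,17,8,17], 0, 1),
    ([18,18,12,5,12,13,7,13], 7, 2),
    ([15,19,19,12,4,12,6,6], 5, 2),
    ([19,4,4,8,8,16,10,16], 0, 1),
    ([18,10,18,14,5,14,14,9,14], 7, 1),
    ([19,19,15,4,15,13,6,13], 5, 2),
    ([19,4,4,7,12,10,12], 5, 2),
    ([19,4,4,13,11,13,14,7,14], 0, 1),
    ([18,11,18,14,5,14,17,7,17], 7, 2),
    ([18,10,18,14,5,14,13,7,13], 7, 2),
    ([19,19,15,4,15,12,6,12], 5, 2),
    ([21,2,2,14,6,14], 0, 2),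
    ([19,19,12,4,12,17,6,17], 5, 1),
    ([18,10,18,14,5,14,13,6,13], 7, 2),
    ([18,11,18,19,5,19,15,6,15], 7, 1),
    ([19,19,21,4,21,16,8,16], 0, 1),
    ([19,19,15,4,15,7,7], 5, 2),
    ([19,19,12,4,12,16,8,16], 5, 1),
    ([18,10,18,14,5,14,14,8,14], 7, 2),
    ([18,10,18,19,5,19,16,6,16], 7, 1),
    ([21,10,21,14,2,14,8,8], 0, 2),
    ([19,19,15,4,15,8,8], 5, 2),
    ([10,18,11,18,14,5,14,14,6,14], 7, 1),
    ([21,10,21,16,4,16,8,8], 0, 2),
    ([18,18,14,5,14,12,6,12], 7, 1),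
    ([19,19,12,4,12,15,7,15], 5, 1),
    ([18,11,18,14,5,14,14,7,14], 7, 2),
    ([18,18,14,5,14,13,6,13], 7, 1),
    ([19,4,4,10,10], 5, 2),
    ([19,19,21,4,21,11,11], 0, 1),
    ([19,18,11,18,12,5,12], 7, 1),
    ([18,18,12,5,12], 7, 1),
    ([15,19,19,18,4,18,12,11,12], 5, 2),
    ([19,19,16,4,16,12,11,12], 0, 2),
    ([19,4,4,13,11,13], 0, 1),
    ([19,18,10,18,13,5,13], 7, 1),
    ([19,13,2,13,13,11,13], 0, 1),
    ([18,10,18,13,14,5,14], 7, 1),
    ([19,4,4,15,6,15], 5, 1),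
    ([18,10,18,19,5,19], 7, 1),
    ([19,19,12,4,12,16,11,16], 5, 2),
    ([18,18,13,5,13], 7, 1),
    ([15,19,19,18,4,18,13,10,13], 5, 2),
    ([19,13,2,13,14,11,14,11,12,11], 0, 2),
    ([18,11,18,19,5,19], 7, 1),
    ([19,19,12,4,12,15,10,15], 5, 2),
    ([18,18,14,5,14], 7, 1),
    ([19,13,2,13,13,11,13], 0, 2),
    ([19,4,4,15,6,15], 5, 2),
    ([19,4,4,13,11,13], 0, 2),
    ([19,19,20,4,20,14,11,14], 5, 1),
    ([19,18,10,18,13,5,13], 7, 2),
    ([19,19,12,4,12,16,11,16], 5, 1),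
    ([18,10,18,19,5,19], 7, 2),
    ([19,19,21,4,21,11,11], 0, 2),
    ([19,19,20,4,20,14,10,14], 5, 1),
    ([19,18,11,18,12,5,12], 7, 2),
    ([10,18,11,18,17,5,17], 7, 1),
    ([21,10,21,14,2,14,12,11,12], 0, 1),
    ([15,19,19,18,4,18,12,11,12], 5, 1),
    ([19,19,12,4,12,15,10,15], 5, 1),
    ([18,11,18,19,5,19], 7, 2),
    ([15,19,19,18,4,18,13,10,13], 5, 1),
    ([19,19,12,4,12], 5, 1),
    ([19,4,4,15,9,15], 5, 2),
    ([15,19,4,4], 5, 2),
    ([10,10,18,11,18,16,5,16], 7, 1),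
    ([11,11,18,10,18,15,5,15], 7, 2),
    ([21,10,21,14,2,14], 0, 1),
    ([11,11,18,10,18,15,5,15], 7, 1),
    ([10,10,18,11,18,16,5,16], 7, 2),
    ([19,4,4,15,9,15], 5, 1),
    ([21,21,14,2,14,8], 0, 1),
    ([18,10,18,13,5,13,14,9,14], 7, 2),
    ([15,19,19,18,4,18,16,6,16], 5, 1),
    ([18,10,18,19,5,19,14,9,14], 7, 2),
    ([18,10,18,5,13,6,13], 7, 1),
    ([18,10,18,13,5,13,13,8,13], 7, 1),
    ([14,21,21,18,2,18,13,6,13], 0, 1),
    ([18,18,12,5,12,14,9,14], 7, 2),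
    ([19,13,2,13,14,6,14], 0, 1),
    ([19,4,4,7,16,6,16], 5, 1),
    ([15,19,19,18,4,18,15,6,15], 5, 1),
    ([18,11,18,19,5,19,14,9,14], 7, 2),
    ([18,18,13,5,13,14,9,14], 7, 2),
    ([21,21,14,2,14,13,6,13], 0, 2),
    ([19,4,4,7,15,6,15], 5, 1),
    ([19,19,12,4,12,14,7,14,7,16,7], 5, 1),
    ([18,18,14,5,14,9,9], 7, 1),
    ([19,4,4,10,9], 5, 2),
    ([15,19,19,12,4,12,15,6,15], 5, 2),
    ([15,19,4,4,14,7,14], 5, 1),
    ([19,4,4,10,13,6,13], 5, 2),
    ([19,19,20,4,20,16,6,16], 5, 1),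
    ([19,4,4,15,6,15,16,9,16], 5, 2),
    ([15,19,19,12,4,12,16,6,16], 5, 2),
    ([15,19,4,4,14,8,14], 5, 1),
    ([18,18,12,5,12,13,8,13], 7, 2),
    ([18,10,18,13,5,13,17,7,17], 7, 2),
    ([18,18,12,5,12,16,9,16], 7, 2),
    ([21,10,21,16,4,16,17,6,17], 0, 2),
    ([21,10,21,14,2,14,14,6,14], 0, 2),
    ([19,4,4,10,12,6,12], 5, 2),
    ([19,19,20,4,20,15,6,15], 5, 1),
    ([19,4,4,15,6,15,15,9,15], 5, 2),
    ([19,4,4,16,6,16,12,8,12], 0, 2),
    ([14,21,2,2,16,6,16], 0, 1),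
    ([18,18,14,5,14,6,6], 7, 1),
    ([19,19,12,4,12,15,8,15], 5, 2),
    ([19,19,16,4,16,8,8], 0, 1),
    ([18,11,18,19,5,19,14,7,14], 7, 1),
    ([15,19,4,4,12,7,12], 5, 1),
    ([16,19,4,4,8,8], 0, 2),
    ([18,10,18,19,5,19,17,6,17], 7, 2),
    ([15,19,19,12,4,12,15,8,15], 5, 2),
    ([18,10,18,19,5,19,14,8,14], 7, 1),
    ([15,19,4,4,13,8,13], 5, 1),
    ([19,4,4,16,8,16], 0, 1),
    ([21,10,21,14,2,14,13,8,13], 0, 2),
    ([18,18,12,5,12,16,6,16], 7, 2),
    ([19,19,15,4,15,12,8,12], 5, 2),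
    ([18,11,18,19,5,19,17,6,17], 7, 2),
    ([15,19,19,12,4,12,16,7,16], 5, 2),
    ([19,19,15,4,15,13,7,13], 5, 2),
    ([19,4,4,14,7,14], 5, 2),
    ([14,21,21,18,2,18,14,8,14], 0, 2),
    ([19,19,16,4,16,14,8,14], 0, 1),
    ([18,5,5,12,6,12], 7, 2),
    ([18,18,19,5,19,12,9,12], 7, 1),
    ([18,18,12,5,12,17,9,17], 7, 1),
    ([19,4,4,11,13,6,13], 0, 1),
    ([19,4,4,16,6,16,16,9,16], 0, 1),
    ([19,4,4,13,6,13,13,11,13], 0, 1),
    ([16,19,4,4,13,6,13], 0, 1),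
    ([19,4,4,8,8,16,6,16], 0, 1),
    ([21,10,21,16,4,16,15,6,15], 0, 1),
    ([21,10,21,16,4,16,6,6], 0, 2),
    ([18,5,5,13,6,13], 7, 2),
    ([18,18,19,5,19,13,9,13], 7, 1),
    ([18,18,13,5,13,17,9,17], 7, 1),
    ([14,21,2,2,13,6,13], 0, 2),
    ([19,4,4,16,8,16,17,10,17], 0, 2),
    ([19,4,4,12,7,12,15,11,15], 5, 2),
    ([19,4,4,13,8,13,13,11,13], 0, 2),
    ([18,10,18,5,17,8,17], 7, 2),
    ([19,4,4,8,13,11,13], 0, 2),
    ([18,10,18,5,16,8,16], 7, 2),
    ([15,19,19,18,4,18,13,6,13], 5, 1),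
    ([18,18,19,5,19,15,6,15], 7, 1),
    ([19,4,4,7,17,11,17], 5, 2),
    ([14,21,21,18,2,18,16,6,16], 0, 1),
    ([18,10,18,19,5,19,15,8,15], 7, 2),
    ([15,19,19,18,4,18,12,6,12], 5, 1),
    ([19,13,2,13,14,8,14,13,8,13], 0, 1),
    ([18,10,18,14,5,14,15,8,15], 7, 2),
    ([19,19,21,4,21,14,6,14], 0, 2),
    ([18,18,19,5,19,16,6,16], 7, 1),
    ([19,4,4,7,17,10,17], 5, 2),
    ([19,4,4,13,8,13,16,10,16], 0, 2),
    ([19,4,4,12,7,12], 5, 2),
    ([18,10,18,5,14,8,14], 7, 2),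
    ([19,19,16,4,16,16,8,16], 0, 1),
    ([19,13,2,13,16,8,16], 0, 2),
    ([15,19,19,12,4,12,13,8,13], 5, 1),
    ([18,18,12,5,12,14,6,14], 7, 1),
    ([21,10,21,14,2,14,15,8,15], 0, 1),
    ([15,19,19,12,4,12,12,7,12], 5, 1),
    ([21,10,21,16,4,16,15,8,15], 0, 1),
    ([18,18,13,5,13,14,6,14], 7, 1),
    ([10,18,10,18,13,5,13], 7, 1),
    ([19,19,15,4,15,6], 5, 1),
    ([19,19,12,4,12,11,11], 5, 1),
    ([21,10,21,16,4,16,13,6,13], 0, 1),
    ([18,18,14,11,14,12,5,12], 7, 1),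
    ([10,18,10,18,16,5,16], 7, 1),
    ([15,19,19,18,4,18,11,11], 5, 1),
    ([19,19,12,4,12,10,10], 5, 1),
    ([19,13,2,13,14,11,14], 0, 1),
    ([18,18,14,10,14,13,5,13], 7, 1),
    ([19,19,21,4,21,15,11,15], 0, 2),
    ([18,10,18,13,15,5,15], 7, 1),
    ([18,10,18,14,5,14], 7, 1),
    ([11,18,11,18,15,5,15], 7, 1),
    ([15,19,19,18,4,18,10,10], 5, 1),
    ([18,11,18,14,5,14], 7, 1),
    ([18,18,12,5,12,11,11], 7, 1),
    ([19,19,21,4,21,14,11,14], 0, 1),
    ([19,4,4,17,10,17], 5, 2),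
    ([19,13,2,13,15,11,15], 0, 2),
    ([19,19,20,4,20,17,11,17], 5, 1),
    ([19,19,12,4,12,14,11,14], 5, 1),
    ([14,21,21,18,2,18,11,11], 0, 1),
    ([19,19,20,4,20,17,10,17], 5, 1),
    ([10,18,11,18,14,5,14], 7, 1),
    ([19,19,12,4,12,14,10,14], 5, 1),
    ([19,2,21,2,15,4,15], 5, 2),
    ([15,19,19,18,4,18], 5, 1),
    ([10,10,18,11,18,14,5,14], 7, 1),
    ([11,11,18,10,18,14,5,14], 7, 1),
    ([19,4,4,7,9,14,9], 5, 2),
    ([14,21,21,18,2,18,16,6,16], 0, 2),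
    ([15,19,19,18,4,18,12,6,12], 5, 2),
    ([18,5,5,12,8,12], 7, 2),
    ([19,19,21,4,21,14,6,14], 0, 1),
    ([19,4,4,14,7,14,17,8,17], 5, 2),
    ([19,4,4,8,13,11,13], 0, 1),
    ([15,19,19,18,4,18,13,6,13], 5, 2),
    ([19,4,4,13,8,13,13,11,13], 0, 1),
    ([19,19,12,4,12,14,6,14], 5, 2),
    ([18,10,18,5,17,8,17], 7, 1),
    ([19,4,4,7,17,11,17], 5, 1),
    ([18,18,19,5,19,15,6,15], 7, 2),
    ([18,5,5,13,7,13], 7, 2),
    ([19,4,4,13,8,13,16,10,16], 0, 1),
    ([19,4,4,14,7,14,17,7,17], 5, 2),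
    ([19,4,4,7,17,10,17], 5, 1),
    ([18,18,19,5,19,16,6,16], 7, 2),
    ([21,21,14,2,14,6,6], 0, 1),
    ([19,4,4,13,6,13,13,11,13], 0, 2),
    ([19,4,4,8,8,16,6,16], 0, 2),
    ([19,4,4,11,13,6,13], 0, 2),
    ([19,19,21,4,21,16,6,16], 0, 1),
    ([19,4,4,16,6,16,16,9,16], 0, 2),
    ([21,10,21,16,4,16,6,6], 0, 1),
    ([21,10,21,16,4,16,15,6,15], 0, 2),
    ([14,21,21,18,2,18,14,8,14], 0, 1),
    ([19,13,2,13,14,8,14], 0, 1),
    ([19,19,16,4,16,14,8,14], 0, 2),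
    ([15,19,19,18,4,18,6,6], 5, 2),
    ([15,19,19,12,4,12,14,6,14], 5, 2),
    ([18,18,19,5,19,12,9,12], 7, 2),
    ([19,4,4,16,8,16,17,10,17], 0, 1),
    ([14,21,2,2,13,6,13], 0, 1),
    ([18,18,19,5,19,13,9,13], 7, 2),
    ([19,4,4,12,6,12], 5, 2),
    ([21,10,21,16,4,16,15,8,15], 0, 2),
    ([18,18,12,5,12,14,6,14,12,8,12], 7, 1),
    ([15,19,19,12,4,12,12,7,12], 5, 2),
    ([21,10,21,14,2,14,15,8,15], 0, 2),
    ([15,19,19,12,4,12,8,8], 5, 1),
    ([15,19,19,12,4,12,13,8,13], 5, 2),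
    ([19,13,2,13,16,8,16], 0, 1),
    ([18,10,18,5,14,8,14], 7, 1),
    ([15,19,19,12,4,12,7,7], 5, 1),
    ([18,18,12,5,12,13,8,13], 7, 1),
    ([18,18,12,5,12,16,9,16], 7, 1),
    ([15,19,19,12,4,12,16,6,16], 5, 1),
    ([19,19,20,4,20,14,8,14], 5, 1),
    ([15,19,4,4,14,8,14], 5, 2),
    ([21,10,21,14,2,14,14,6,14], 0, 1),
    ([21,10,21,16,4,16,17,6,17], 0, 1),
    ([15,19,19,12,4,12,15,6,15], 5, 1),
    ([19,19,20,4,20,14,7,14], 5, 1),
    ([15,19,4,4,14,7,14], 5, 2),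
    ([15,19,19,18,4,18,6], 5, 2),
    ([15,19,19,18,4,18,17,6,17], 5, 2),
    ([19,19,20,4,20,16,6,16], 5, 2),
    ([14,21,2,2,16,6,16], 0, 2),
    ([19,4,4,16,6,16,12,8,12], 0, 1),
    ([19,19,20,4,20,15,6,15], 5, 2),
    ([18,10,18,13,5,13,13,8,13], 7, 2),
    ([15,19,19,12,4,12,17,6,17], 5, 1),
    ([14,21,21,18,2,18,13,6,13], 0, 2),
    ([19,19,12,4,12,16,6,16], 5, 1),
    ([19,4,4,8,17,11,17], 0, 2),
    ([19,13,2,13,14,6,14], 0, 2),
    ([19,19,12,4,12,15,6,15], 5, 1),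
    ([19,19,16,4,16,13,6,13], 0, 2),
    ([19,19,20,4,20,14,6,14], 5, 2),
    ([21,21,14,2,14,13,6,13], 0, 1),
    ([18,18,12,5,12,16,6,16], 7, 1),
    ([21,10,21,14,2,14,13,8,13], 0, 1),
    ([15,19,4,4,13,8,13], 5, 2),
    ([15,19,4,4,12,7,12], 5, 2),
    ([19,13,2,13,11,11], 0, 2),
    ([10,18,11,18,14,5,14], 7, 2),
    ([19,19,15,4,15,12,11,12], 5, 2),
    ([19,19,20,4,20,17,10,17], 5, 2),
    ([14,21,21,18,2,18,11,11], 0, 2),
    ([10,18,10,18,14,5,14], 7, 1),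
    ([19,19,20,4,20,17,11,17], 5, 2),
    ([19,13,2,13,15,11,15], 0, 1),
    ([19,19,21,4,21,14,11,14], 0, 2),
    ([11,18,11,18,14,5,14], 7, 1),
    ([18,10,18,13,15,5,15], 7, 2),
    ([19,19,21,4,21,15,11,15], 0, 1),
    ([19,13,2,13,14,11,14], 0, 2),
    ([21,10,21,16,4,16,13,6,13], 0, 2),
    ([15,19,19,12,4,12], 5, 1),
    ([18,18,12,5,12,13,7,13], 7, 1),
    ([19,4,4,8,8,16,10,16], 0, 2),
    ([19,4,4,10,10,13,6,13], 5, 2),
    ([18,18,13,5,13,14,7,14], 7, 2),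
    ([19,4,4,14,8,14,17,8,17], 0, 2),
    ([19,19,15,4,15,13,6,13], 5, 1),
    ([18,10,18,14,5,14,14,9,14], 7, 2),
    ([19,4,4,10,10,12,6,12], 5, 2),
    ([18,18,12,5,12,14,8,14], 7, 2),
    ([19,4,4,8,16,6,16], 0, 1),
    ([18,10,18,14,5,14,16,8,16], 7, 1),
    ([19,13,2,13,16,6,16], 0, 1),
    ([21,10,21,14,2,14,17,6,17], 0, 2),
    ([19,19,15,4,15,12,6,12], 5, 1),
    ([18,10,18,14,5,14,13,7,13], 7, 1),
    ([19,4,4,13,11,13,14,7,14], 0, 2),
    ([18,10,18,13,5,13,13,6,13], 7, 2),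
    ([18,10,18,13,5,13,16,9,16], 7, 2),
    ([19,18,10,18,13,5,13,8,8], 7, 2),
    ([18,18,13,5,13,17,7,17], 7, 2),
    ([18,18,13,5,13,15,7,15], 7, 2),
    ([18,10,18,14,5,14,17,6,17], 7, 2),
    ([18,18,12,5,12,17,8,17], 7, 2),
    ([18,18,12,5,12,16,8,16], 7, 2),
    ([19,19,21,4,21,14,8,14], 0, 2),
    ([18,10,18,19,5,19,12,8,12], 7, 2),
    ([21,10,21,16,4,16,8,8], 0, 1),
    ([10,18,11,18,14,5,14,14,6,14], 7, 2),
    ([21,10,21,14,2,14,8,8], 0, 1),
    ([19,19,21,4,21,16,8,16], 0, 2),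
    ([21,10,21,14,2,14,16,6,16], 0, 1),
    ([19,19,21,4,21,14,8,14], 0, 1),
    ([16,19,4,4,14,8,14], 0, 2),
    ([18,18,12,5,12,16,8,16], 7, 1),
    ([18,18,12,5,12,17,8,17], 7, 1),
    ([19,19,12,4,12,14,8,14], 5, 1),
    ([18,18,13,5,13,15,7,15], 7, 1),
    ([18,18,13,5,13,17,7,17], 7, 1),
    ([18,10,18,13,5,13,16,9,16], 7, 1),
    ([19,19,12,4,12,14,7,14], 5, 1),
    ([19,13,2,13,16,6,16], 0, 2),
    ([18,10,18,14,5,14,16,8,16], 7, 2),
    ([18,18,12,5,12,14,8,14], 7, 1),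
    ([18,18,13,5,13,14,7,14], 7, 1),
    ([21,10,21,14,2,14,8], 0, 1),
    ([21,10,21,14,2,14,12,11,12], 0, 2),
    ([10,18,11,18,17,5,17], 7, 2),
    ([19,19,20,4,20,14,10,14], 5, 2),
    ([19,19,20,4,20,14,11,14], 5, 2),
    ([18,10,18,13,14,5,14], 7, 2),
    ([19,4,4,11,11,13,6,13], 0, 2),
    ([19,19,20,4,20,14,6,14], 5, 1),
    ([18,18,14,5,14,12,8,12], 7, 1),
    ([19,19,16,4,16,13,6,13], 0, 1),
    ([19,19,12,4,12,15,6,15], 5, 2),
    ([21,10,21,14,2,14,6,6], 0, 1),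
    ([19,4,4,8,17,11,17], 0, 1),
    ([19,19,12,4,12,16,6,16], 5, 2),
    ([15,19,19,12,4,12,17,6,17], 5, 2),
    ([19,4,4,13,6,13,16,10,16], 0, 2),
    ([15,19,19,18,4,18,17,6,17], 5, 1),
    ([15,19,19,18,4,18,6], 5, 1),
    ([19,19,20,4,20,14,7,14], 5, 2),
    ([19,19,20,4,20,14,8,14], 5, 2),
    ([10,18,11,18,14,5,14,17,6,17], 7, 2),
    ([15,19,19,12,4,12,14,6,14], 5, 1),
    ([15,19,19,18,4,18,6,6], 5, 1),
    ([19,13,2,13,14,8,14], 0, 2),
    ([19,19,21,4,21,16,6,16], 0, 2),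
    ([19,19,12,4,12,14,6,14], 5, 1),
    ([21,10,21,14,2,14,11,11], 0, 1),
    ([18,10,18,14,5,14,15,8,15], 7, 1),
    ([19,13,2,13,14,8,14,13,8,13], 0, 2),
    ([18,10,18,19,5,19,15,8,15], 7, 1),
    ([18,10,18,5,16,8,16], 7, 1),
    ([16,19,4,4,13,6,13], 0, 2),
    ([18,10,18,13,5,13,17,7,17], 7, 1),
    ([15,19,19,12,4,12,6,6], 5, 1)]

/-- Certificates for the elements over the representative 1. -/
def cand1 : List (List ℕ × ℕ × ℕ) :=
  [
    ([], 0, 1),
    ([], 1, 1),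
    ([12,18,5,5], 6, 1),
    ([19], 0, 1),
    ([12,5,18,5,13,5,13,10], 6, 1),
    ([21], 0, 1),
    ([], 2, 1),
    ([9,14,14], 3, 1),
    ([18,5,5,14,9,14], 6, 2),
    ([19], 1, 1),
    ([5,18,5,12,5,12,13,7,13,12,10,12], 6, 1),
    ([21], 1, 1),
    ([14,14,12,9,12,18,11,18,5,21,9,21,14,7,14], 8, 1),
    ([12,18,18,5,18], 6, 1),
    ([18,5,5], 6, 1),
    ([12,5,18,5,13,5,13], 6, 1),
    ([18,2,21,2,21,5,21], 6, 2),
    ([12,5,18,5,17,5,17], 6, 1),
    ([19,19], 0, 1),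
    ([13,9,14,9,18,10,18,5], 6, 2),
    ([19,21], 0, 1),
    ([7], 2, 1),
    ([12,13,13,18,10,18,5], 6, 1),
    ([5,18,5,13,5,13,10], 6, 1),
    ([12,10,13,10,18,10,18,20,5,20], 6, 1),
    ([21,21], 0, 1),
    ([21], 2, 1),
    ([12,11,11,16,4,16,7], 4, 2),
    ([18,5,5,19,9,19], 6, 1),
    ([12,9,12,14,14], 3, 1),
    ([18,18,13,5,13,14,9,14,10,10], 6, 2),
    ([9,17,14,14], 3, 1),
    ([12,12,18,11,18,15,5,15,7,7,16], 10, 2),
    ([18,18,12,5,12,12,9,12], 6, 1),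
    ([18,5,5,9,9], 6, 1),
    ([12,18,5,5,13,7,13], 6, 1),
    ([16,18,5,5,14,9,14], 6, 2),
    ([18,21,5,21,17,5,17,14,9,14], 6, 2),
    ([15], 1, 1),
    ([13,5,18,5,12,5,12,21,7,21,13,10,13], 6, 1),
    ([17,10,17], 1, 1),
    ([14,14,12,9,12,18,11,18,5,21,9,21,9,14,9], 8, 2),
    ([13,13,18,10,18,12,5,12,12,7,12], 6, 1),
    ([18,5,5,13,7,13,10], 6, 1),
    ([13,9,14,9,18,10,18,20,5,20,7,7], 6, 2),
    ([17], 1, 1),
    ([14,14,12,9,12,18,11,18,5,12,9,12,14,7,14], 8, 1),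
    ([18,18,5,17,9,17,14,7,14], 9, 1),
    ([18,18,12,5,12], 6, 1),
    ([18,18,13,5,13,3,20,3], 6, 2),
    ([16,16,18,10,18,12,5,12], 6, 1),
    ([12,18,18,22,5,22], 6, 1),
    ([5,18,5,12,5,12], 6, 1),
    ([18,21,5,21,13,5,13], 6, 1),
    ([16,18,5,5], 6, 1),
    ([5,18,5,17,5,17], 6, 1),
    ([18,18,13,5,13,1,22,1], 6, 2),
    ([5,18,5,13,5,13,19,19], 6, 1),
    ([18,6,17,6,13,5,13], 6, 2),
    ([18,5,5,2,21,2], 6, 2),
    ([12,16,5,18,5,17,5,17], 6, 1),
    ([12,5,18,5,22,5,22], 6, 1),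
    ([5,18,5,13,5,13,21,10,21], 6, 1),
    ([21,10], 0, 1),
    ([7,7], 2, 1),
    ([13,4,19,4,18,10,18,19,5,19], 6, 2),
    ([13,9,14,9,18,10,18,12,5,12], 6, 2),
    ([13,9,14,9,18,10,18,20,5,20], 6, 2),
    ([19,13], 0, 1),
    ([7,21], 2, 1),
    ([12,11,11,16,4,16], 4, 2),
    ([13,13,18,10,18,12,5,12], 6, 1),
    ([12,13,13,18,10,18,15,5,15], 6, 1),
    ([5,18,5,13,5,13,12,10,12], 6, 1),
    ([10,13,10,18,10,18,20,5,20], 6, 1),
    ([12,5,18,5,13,5,13,15,10,15], 6, 1),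
    ([9], 2, 1),
    ([12,11,11,16,4,16,19,9,19], 4, 2),
    ([18,18,5,18,14,9,14], 6, 2),
    ([18,5,5,9], 6, 1),
    ([12,18,5,5,13,9,13], 6, 1),
    ([16,18,5,5,19,9,19], 6, 1),
    ([16,5,18,5,17,5,17,19,9,19], 6, 1),
    ([12,9,12,9,14,9], 3, 2),
    ([5,18,5,13,5,13,19,7,19,21,10,21], 6, 1),
    ([9,17,14,7,14], 3, 1),
    ([12,12,18,11,18,5,7,7,16], 10, 2),
    ([13,13,18,10,18,5,16,7,16], 6, 2),
    ([18,5,5,13,9,13,10], 6, 1),
    ([5,18,5,13,5,13,17,9,17,19,10,19], 6, 1),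
    ([17,9,17,14,14], 3, 1),
    ([12,12,18,11,18,16,5,16,12,7,12,16,16], 10, 1),
    ([12,12,18,11,18,14,5,14,9,14,14], 11, 1),
    ([18,18,5,18,12,9,12], 6, 1),
    ([5,18,5,13,5,13,16,7,16], 6, 2),
    ([16,18,10,18,5,21,9,21], 6, 1),
    ([16,18,10,18,22,5,22,21,9,21], 6, 1),
    ([5,18,5,12,5,12,9,9], 6, 1),
    ([18,5,5,21,21,13,7,13], 6, 1),
    ([16,18,5,5,9,9], 6, 1),
    ([18,5,5,17,9,17,21,9,21], 6, 1),
    ([5,18,5,13,5,13,14,9,14], 6, 2),
    ([18,5,5,13,7,13,19,19], 6, 1),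
    ([5,18,5,13,5,13,17,7,17,21,9,21], 6, 1),
    ([18,5,5,9,9,2,21,2], 6, 2),
    ([5,18,5,17,5,17,14,9,14], 6, 2),
    ([16,5,18,5,22,5,22,14,9,14], 6, 2),
    ([18,5,5,13,7,13,21,10,21], 6, 1),
    ([15,13], 1, 1),
    ([14,14,12,9,12,18,11,18,5,21,9,21,14,14], 8, 1),
    ([18,18,13,5,13,21,7,21,12,10,12], 6, 1),
    ([13,18,5,5,19,7,19,13,10,13], 6, 1),
    ([5,18,5,17,5,17,13,7,13,19,10,19], 6, 1),
    ([15,2,21,2], 1, 2),
    ([14,14,12,9,12,18,11,18,5,9,9,14,9], 8, 2),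
    ([18,5,5,17,9,17,9,14,9], 9, 1),
    ([18,18,5,18,13,9,13,12,10,12], 6, 1),
    ([18,18,13,5,13,15,9,15,19,10,19], 6, 1),
    ([18,5,5,13,7,13,12,10,12], 6, 1),
    ([13,5,18,5,15,5,15,19,7,19,13,10,13], 6, 1),
    ([12,5,18,5,22,5,22,13,7,13,21,10,21], 6, 1),
    ([14,14,12,9,12,18,11,18,5,17,9,17,14,10,14], 8, 1),
    ([18,18,5,21,9,21,14,10,14], 9, 1),
    ([18,18,5,18], 6, 1),
    ([13,16,16,18,18,12,5,12], 6, 1),
    ([16,16,18,18,12,5,12], 6, 1),
    ([14,18,18,22,5,22], 6, 1),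
    ([12,18,18,13,5,13], 6, 1),
    ([13,18,18,5,18,19], 6, 1),
    ([12,13,18,18,20,5,20], 6, 1),
    ([16,18,10,18,5], 6, 1),
    ([7,16,7,18,18,22,5,22], 6, 2),
    ([12,18,18,17,5,17], 6, 1),
    ([12,5,18,5,13,5,13,19,19], 6, 1),
    ([16,5,18,5,12,5,12], 6, 1),
    ([14,5,18,5,17,5,17], 6, 1),
    ([13,16,18,5,5], 6, 1),
    ([5,18,5,13,5,13], 6, 1),
    ([13,9,14,9,18,18,17,5,17], 6, 2),
    ([18,5,5,21,21], 6, 1),
    ([16,5,18,5,17,5,17], 6, 1),
    ([5,18,5,22,5,22], 6, 1),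
    ([13,14,5,18,5,12,5,12], 6, 1),
    ([18,18,13,5,13,8,15,8], 6, 2),
    ([7,16,7,5,18,5,13,5,13], 6, 2),
    ([13,14,18,10,18,17,5,17], 6, 1),
    ([1,22,1,5,18,5,13,5,13], 6, 2),
    ([5,18,5,17,5,17,2,21,2], 6, 2),
    ([12,16,5,18,5,22,5,22], 6, 1),
    ([12,18,18,13,5,13,19,10,19], 6, 1),
    ([5,18,5,13,5,13,19,10,19], 6, 1),
    ([13,18,10,18,17,5,17,21,10,21], 6, 1),
    ([21,10,21], 0, 1),
    ([7,14,9,14], 2, 2),
    ([12,16,11,11,4,4], 4, 1),
    ([16,13,13,18,10,18,5], 6, 1),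
    ([13,13,16,10,16,18,18,15,5,15], 6, 1),
    ([13,14,10,14,18,10,18,12,5,12], 6, 1),
    ([13,14,10,14,18,10,18,20,5,20], 6, 1),
    ([13,9,14,9,18,10,18,15,5,15], 6, 2),
    ([13,7,13], 2, 1),
    ([12,12,13,11,13,16,4,16], 4, 1),
    ([13,13,18,10,18,5], 6, 1),
    ([14,13,13,18,10,18,15,5,15], 6, 1),
    ([12,13,13,18,10,18,20,5,20], 6, 1),
    ([13,12,10,12,18,10,18,20,5,20], 6, 1),
    ([5,18,5,13,5,13,15,10,15], 6, 1),
    ([12,11,11,16,4,16,13,7,13], 4, 2),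
    ([18,18,12,5,12,9,9], 6, 1),
    ([18,18,13,5,13,14,9,14], 6, 2),
    ([18,5,5,21,9,21,1,22,1], 6, 2),
    ([16,18,18,22,5,22,14,9,14], 6, 2),
    ([18,5,5,12,9,12], 6, 1),
    ([5,18,5,13,5,13,21,7,21], 6, 1),
    ([16,18,5,5,9], 6, 1),
    ([16,18,5,5,17,9,17], 6, 1),
    ([18,18,13,5,13,16,7,16], 6, 2),
    ([5,18,5,13,5,13,19,7,19], 6, 1),
    ([13,18,10,18,17,5,17,19,9,19], 6, 1),
    ([12,18,5,5,21,9,21], 6, 1),
    ([12,5,18,5,17,5,17,21,9,21], 6, 1),
    ([12,5,18,5,22,5,22,21,9,21], 6, 1),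
    ([18,5,5,13,9,13,21,10,21], 6, 1),
    ([9,17,14,10,14], 3, 1),
    ([12,12,18,11,18,5,7,16,16], 10, 1),
    ([13,18,18,5,18,21,7,21,13,10,13], 6, 1),
    ([5,18,5,13,5,13,19,7,19,19,10,19], 6, 1),
    ([5,18,5,13,5,13,15,7,15,17,10,17], 6, 1),
    ([17,9,17,14,10,14], 3, 1),
    ([12,12,18,11,18,12,5,12,16,7,16,16], 10, 1),
    ([12,12,18,11,18,14,5,14,12,9,12,14,14], 11, 1),
    ([18,18,5,18,13,7,13,12,10,12], 6, 1),
    ([13,18,18,20,5,20,21,7,21,13,10,13], 6, 1),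
    ([18,5,5,13,9,13,12,10,12], 6, 1),
    ([5,18,5,13,5,13,17,7,17,21,10,21], 6, 1),
    ([5,18,5,13,5,13,21,7,21,15,10,15], 6, 1),
    ([12,12,18,11,18,15,5,15,15,7,15,16,9,16], 10, 1),
    ([12,12,18,11,18,5,9,9,14], 11, 2),
    ([18,18,5,18,9], 6, 1),
    ([16,16,18,10,18,13,5,13,13,9,13], 6, 1),
    ([16,18,18,12,5,12,21,9,21], 6, 1),
    ([16,16,18,18,22,5,22,12,9,12], 6, 1),
    ([12,18,18,5,18,13,9,13], 6, 1),
    ([18,21,5,21,13,5,13,16,7,16], 6, 2),
    ([13,14,18,18,20,5,20,19,9,19], 6, 1),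
    ([12,18,18,5,18,21,9,21], 6, 1),
    ([12,18,18,22,5,22,21,9,21], 6, 1),
    ([12,18,18,17,5,17,21,9,21], 6, 1),
    ([16,5,18,5,12,5,12,13,7,13], 6, 1),
    ([16,5,18,5,12,5,12,9,9], 6, 1),
    ([5,18,5,12,5,12,17,9,17,21,9,21], 6, 1),
    ([18,18,13,5,13,4,19,4,19,7,19], 6, 2),
    ([18,5,5,13,7,13], 6, 1),
    ([18,18,22,5,22,21,9,21,10,13,10], 6, 1),
    ([18,5,5,9,21,9,21], 6, 1),
    ([5,18,5,17,5,17,9,9], 6, 1),
    ([16,5,18,5,22,5,22,9,9], 6, 1),
    ([16,5,18,5,13,5,13,14,9,14], 6, 2),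
    ([18,18,13,5,13,4,19,4,15,7,15], 6, 2),
    ([18,5,5,2,21,2,13,7,13], 6, 2),
    ([13,5,18,5,15,5,15,14,9,14], 6, 2),
    ([16,5,18,5,22,5,22,13,7,13], 6, 1),
    ([16,5,18,5,17,5,17,14,9,14], 6, 2),
    ([18,21,5,21,22,5,22,14,9,14], 6, 2),
    ([18,18,12,5,12,13,9,13,21,10,21], 6, 1),
    ([18,5,5,13,7,13,19,10,19], 6, 1),
    ([5,18,5,17,5,17,13,7,13,10], 6, 1),
    ([21,10,21], 1, 1),
    ([14,14,12,9,12,18,11,18,5,9,14,14], 8, 1),
    ([18,5,5,17,9,17,14,14], 9, 2),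
    ([18,18,13,5,13,19,7,19,21,10,21], 6, 1),
    ([18,18,5,18,13,9,13,17,10,17], 6, 1),
    ([13,18,5,5,21,7,21,13,10,13], 6, 1),
    ([12,5,18,5,17,5,17,13,7,13,21,10,21], 6, 1),
    ([5,18,5,12,5,12,13,7,13,17,10,17], 6, 1),
    ([14,14,12,9,12,18,11,18,5,9,9,14], 8, 2),
    ([18,5,5,9,9,14], 9, 1),
    ([18,18,5,18,13,9,13,10], 6, 1),
    ([18,18,13,5,13,15,7,15,21,10,21], 6, 1),
    ([16,13,13,18,10,18,20,5,20,12,7,12], 6, 1),
    ([13,5,18,5,15,5,15,21,7,21,13,10,13], 6, 1),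
    ([5,18,5,22,5,22,13,7,13,21,10,21], 6, 1),
    ([18,5,5,9,14,7,14], 9, 2),
    ([5,18,5,13,5,13,4,19,4], 6, 2),
    ([18,18,5,18,21], 6, 1),
    ([18,18,22,5,22], 6, 1),
    ([12,16,18,10,18,13,5,13], 6, 1),
    ([12,5,18,5,13,5,13,4,19,4], 6, 2),
    ([16,16,18,10,18,13,20,5,20], 6, 1),
    ([16,18,18,12,5,12], 6, 1),
    ([16,16,18,10,18,22,5,22], 6, 1),
    ([14,18,18,17,5,17], 6, 1),
    ([7,16,7,18,18,13,5,13], 6, 2),
    ([12,22,18,18,13,5,13], 6, 1),
    ([18,18,13,5,13,2,21,2], 6, 2),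
    ([13,14,14,18,18,20,5,20], 6, 1),
    ([18,18,13,5,13,6,17,6], 6, 2),
    ([16,18,10,18,22,5,22], 6, 1),
    ([7,16,7,18,18,17,5,17], 6, 2),
    ([18,18,13,5,13,4,19,4], 6, 2),
    ([5,18,5,13,5,13,19], 6, 1),
    ([13,16,18,10,18,17,5,17], 6, 1),
    ([18,21,5,21,12,5,12], 6, 1),
    ([14,16,5,18,5,17,5,17], 6, 1),
    ([14,5,18,5,22,5,22], 6, 1),
    ([12,5,18,5,13,5,13,2,21,2], 6, 2),
    ([13,16,5,18,5,15,5,15], 6, 1),
    ([16,5,18,5,13,5,13], 6, 1),
    ([13,18,10,18,17,5,17], 6, 1),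
    ([13,9,14,9,18,18,15,5,15], 6, 2),
    ([18,21,5,21,17,5,17], 6, 1),
    ([16,5,18,5,22,5,22], 6, 1),
    ([5,18,5,13,5,13,2,21,2], 6, 2),
    ([16,18,18,13,5,13,8,15,8], 6, 2),
    ([12,13,5,18,5,20,5,20], 6, 1),
    ([13,16,16,18,10,18,17,5,17], 6, 1),
    ([13,14,18,10,18,15,5,15], 6, 1),
    ([5,18,5,22,5,22,2,21,2], 6, 2),
    ([18,18,13,5,13,21,10,21], 6, 1),
    ([13,13,16,16,18,10,18,15,5,15], 6, 1),
    ([12,5,18,5,13,5,13,21,10,21], 6, 1),
    ([13,18,10,18,17,5,17,19,10,19], 6, 1),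
    ([13,18,10,18,15,5,15,21,10,21], 6, 1),
    ([19,9,19], 2, 1),
    ([12,11,11,16,9,16,16,2,16], 4, 1),
    ([16,13,13,18,10,18,13,5,13], 6, 1),
    ([16,13,13,18,10,18,15,5,15], 6, 1),
    ([13,13,16,10,16,18,18,20,5,20], 6, 1),
    ([7,16,7,10,13,10,18,10,18,20,5,20], 6, 2),
    ([13,14,10,14,18,10,18,15,5,15], 6, 1),
    ([12,12,18,11,18,16,4,16], 4, 1),
    ([13,13,18,10,18,15,5,15], 6, 1),
    ([14,13,13,18,10,18,20,5,20], 6, 1),
    ([13,12,10,12,18,10,18,15,5,15], 6, 1),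
    ([18,18,5,18,9,9], 6, 1),
    ([16,16,18,10,18,13,5,13,14,9,14], 6, 2),
    ([18,5,5,21,9,21,11,12,11], 6, 1),
    ([18,18,21,5,21,12,9,12,16,9,16], 6, 1),
    ([12,18,18,5,18,13,7,13], 6, 1),
    ([16,16,18,18,13,5,13,14,9,14], 6, 2),
    ([13,18,18,20,5,20,21,7,21], 6, 1),
    ([16,18,18,5,18,14,9,14], 6, 2),
    ([18,18,22,5,22,14,9,14], 6, 2),
    ([16,16,18,18,17,5,17,14,9,14], 6, 2),
    ([12,5,18,5,13,5,13,19,7,19], 6, 1),
    ([16,18,5,5,12,9,12], 6, 1),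
    ([16,5,18,5,12,5,12,17,9,17], 6, 1),
    ([16,5,18,5,13,5,13,13,9,13], 6, 1),
    ([18,5,5,13,9,13], 6, 1),
    ([5,18,5,13,5,13,17,9,17], 6, 1),
    ([18,5,5,21,9,21], 6, 1),
    ([5,18,5,17,5,17,21,9,21], 6, 1),
    ([5,18,5,22,5,22,21,9,21], 6, 1),
    ([16,18,18,13,5,13,16,7,16], 6, 2),
    ([13,14,18,5,5,15,9,15], 6, 1),
    ([12,5,18,5,13,5,13,21,7,21], 6, 1),
    ([18,6,17,6,13,5,13,21,9,21], 6, 2),
    ([13,18,10,18,15,5,15,21,7,21], 6, 1),
    ([5,18,5,17,5,17,19,9,19], 6, 1),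
    ([5,18,5,22,5,22,19,9,19], 6, 1),
    ([18,18,12,5,12,13,7,13,21,10,21], 6, 1),
    ([13,18,18,19,5,19,14,7,14], 6, 1),
    ([13,5,18,5,15,5,15,21,9,21,13,10,13], 6, 1),
    ([17,9,17,14,7,14], 3, 1),
    ([12,12,18,11,18,5,7,16,9,16], 10, 1),
    ([12,12,18,11,18,14,5,14,9,14,7,14], 11, 1),
    ([13,18,18,12,5,12,19,7,19,13,10,13], 6, 1),
    ([18,18,22,5,22,13,7,13,21,10,21], 6, 1),
    ([12,5,18,5,13,5,13,19,7,19,21,10,21], 6, 1),
    ([5,18,5,13,5,13,15,7,15,15,10,15], 6, 1),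
    ([5,18,5,13,5,13,15,7,15,21,10,21], 6, 1),
    ([12,12,18,11,18,12,5,12,7,7,16], 10, 2),
    ([12,12,18,11,18,12,5,12,14,9,14,14], 11, 1),
    ([18,18,5,18,13,7,13,10], 6, 1),
    ([13,18,10,18,19,5,19,12,7,12,9,14,9], 6, 2),
    ([18,18,17,5,17,13,7,13,19,10,19], 6, 1),
    ([5,18,5,13,5,13,17,7,17,19,10,19], 6, 1),
    ([12,5,18,5,13,5,13,21,7,21,17,10,17], 6, 1),
    ([12,12,18,11,18,5,9,14,14], 11, 1),
    ([13,18,18,5,18,21,9,21], 6, 1),
    ([16,18,18,5,18,21,9,21], 6, 1),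
    ([16,18,18,22,5,22,21,9,21], 6, 1),
    ([14,18,18,13,5,13,21,7,21], 6, 1),
    ([13,18,18,5,18,19,9,19], 6, 1),
    ([13,18,18,20,5,20,19,9,19], 6, 1),
    ([18,18,12,5,12,21,9,21], 6, 1),
    ([14,18,18,22,5,22,21,9,21], 6, 1),
    ([14,18,18,17,5,17,21,9,21], 6, 1),
    ([14,18,18,13,5,13,19,7,19], 6, 1),
    ([16,16,18,18,13,5,13,15,7,15], 6, 1),
    ([13,18,18,12,5,12,19,9,19], 6, 1),
    ([18,18,22,5,22,13,9,13,2,21,2], 6, 2),
    ([18,18,13,5,13,2,21,2,17,9,17], 6, 2),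
    ([12,18,18,17,5,17,17,9,17], 6, 1),
    ([12,18,18,5,18,17,9,17], 6, 1),
    ([13,5,18,5,12,5,12,21,7,21], 6, 1),
    ([18,5,5,13,7,13,19], 6, 1),
    ([5,18,5,17,5,17,13,7,13], 6, 1),
    ([18,5,5,14,9,14,21,10,21], 6, 2),
    ([14,5,18,5,17,5,17,9,9], 6, 1),
    ([18,18,17,5,17,21,9,21,4,19,4], 6, 2),
    ([13,18,5,5,21,7,21], 6, 1),
    ([13,5,18,5,12,5,12,17,7,17], 6, 1),
    ([16,18,5,5,13,7,13], 6, 1),
    ([5,18,5,13,5,13,17,7,17,21,7,21], 6, 1),
    ([13,18,18,15,5,15,16,7,16], 6, 2),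
    ([16,5,18,5,17,5,17,9,9], 6, 1),
    ([18,21,5,21,22,5,22,9,9], 6, 1),
    ([13,18,5,5,19,7,19], 6, 1),
    ([13,18,5,5,17,7,17], 6, 1),
    ([13,16,5,18,5,15,5,15,15,7,15], 6, 1),
    ([5,18,5,13,5,13,17,7,17,19,7,19], 6, 1),
    ([18,21,5,21,22,5,22,13,7,13], 6, 1),
    ([5,18,5,22,5,22,14,9,14], 6, 2),
    ([18,18,5,18,13,9,13,21,10,21], 6, 1),
    ([12,18,18,13,5,13,21,7,21,17,10,17], 6, 1),
    ([5,18,5,12,5,12,13,7,13,19,10,19], 6, 1),
    ([5,18,5,17,5,17,13,7,13,12,10,12], 6, 1),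
    ([13,9,14,9,18,10,18,15,5,15,7,7], 6, 2),
    ([14,14,12,9,12,18,11,18,5,14,9,14,14], 8, 1),
    ([18,5,5,14,9,14,14], 9, 2),
    ([18,18,13,5,13,19,7,19,19,10,19], 6, 1),
    ([13,13,18,10,18,12,5,12,15,7,15], 6, 1),
    ([18,18,13,5,13,17,7,17,21,10,21], 6, 1),
    ([5,18,5,17,5,17,13,7,13,21,10,21], 6, 1),
    ([18,5,5,13,7,13,15,10,15], 6, 1),
    ([18,5,5,9,9,14,9], 9, 1),
    ([13,13,18,10,18,15,5,15,19,7,19], 6, 1),
    ([13,18,18,15,5,15,19,9,19,13,10,13], 6, 1),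
    ([5,18,5,22,5,22,13,7,13,19,10,19], 6, 1),
    ([16,16,18,18,13,5,13], 6, 1),
    ([13,18,18,5,18], 6, 1),
    ([13,16,18,18,20,5,20], 6, 1),
    ([16,18,18,5,18], 6, 1),
    ([16,16,18,18,22,5,22], 6, 1),
    ([18,18,17,5,17], 6, 1),
    ([14,18,18,13,5,13], 6, 1),
    ([13,13,9,14,9,18,10,18,15,5,15], 6, 2),
    ([13,18,18,12,5,12], 6, 1),
    ([13,14,18,18,20,5,20], 6, 1),
    ([16,16,18,10,18,13,15,5,15], 6, 1),
    ([18,18,22,5,22,21,10,21], 6, 1),
    ([16,16,18,10,18,17,5,17], 6, 1),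
    ([16,18,10,18,13,5,13], 6, 1),
    ([13,7,16,7,18,18,15,5,15], 6, 2),
    ([18,1,22,1,13,5,13], 6, 2),
    ([16,18,10,18,13,20,5,20], 6, 1),
    ([13,14,14,18,18,15,5,15], 6, 1),
    ([16,18,10,18,17,5,17], 6, 1),
    ([13,5,18,5,12,5,12], 6, 1),
    ([22,18,18,13,5,13,4,19,4], 6, 2),
    ([13,18,10,18,12,5,12], 6, 1),
    ([13,14,14,18,10,18,17,5,17], 6, 1),
    ([13,16,18,10,18,15,5,15], 6, 1),
    ([5,18,5,17,5,17,21,7,21], 6, 1),
    ([14,16,5,18,5,22,5,22], 6, 1),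
    ([13,18,5,5], 6, 1),
    ([13,18,21,5,21,15,5,15], 6, 1),
    ([13,16,5,18,5,20,5,20], 6, 1),
    ([13,18,10,18,17,5,17,21], 6, 1),
    ([13,18,10,18,15,5,15], 6, 1),
    ([18,21,5,21,22,5,22], 6, 1),
    ([13,18,19,5,19,15,5,15], 6, 1),
    ([13,13,18,10,18,20,5,20,21,10,21], 6, 1),
    ([13,16,16,18,10,18,15,5,15], 6, 1),
    ([18,18,13,5,13,19,10,19], 6, 1),
    ([13,7,16,7,18,10,18,15,5,15], 6, 2),
    ([18,1,22,1,13,5,13,19,10,19], 6, 2),
    ([16,10,13,10,18,10,18,20,5,20], 6, 1),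
    ([13,18,10,18,15,5,15,19,10,19], 6, 1),
    ([12,5,12,21,11,21,13,2,13], 4, 2),
    ([16,18,10,18,13,5,13,15,10,15], 6, 1),
    ([16,13,13,18,10,18,20,5,20], 6, 1),
    ([7,16,7,5,18,5,13,5,13,15,10,15], 6, 2),
    ([13,13,18,10,18,20,5,20], 6, 1),
    ([13,18,18,5,18,21,7,21], 6, 1),
    ([18,5,5,21,9,21,0,23,0], 6, 1),
    ([16,18,18,22,5,22,9,9], 6, 1),
    ([16,18,18,12,5,12,13,7,13], 6, 1),
    ([13,18,18,5,18,19,7,19], 6, 1),
    ([18,18,13,5,13,6,17,6,15,7,15], 6, 2),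
    ([16,18,18,12,5,12,9,9], 6, 1),
    ([14,18,18,22,5,22,9,9], 6, 1),
    ([16,16,18,10,18,17,5,17,9,9], 6, 1),
    ([16,16,18,10,18,12,5,12,13,7,13], 6, 1),
    ([16,18,18,22,5,22,13,7,13], 6, 1),
    ([13,18,18,12,5,12,19,7,19], 6, 1),
    ([13,18,18,15,5,15,15,7,15], 6, 1),
    ([13,14,18,18,15,5,15,21,7,21], 6, 1),
    ([16,16,18,18,22,5,22,14,9,14], 6, 2),
    ([16,18,18,17,5,17,14,9,14], 6, 2),
    ([13,5,18,5,12,5,12,21,9,21], 6, 1),
    ([13,18,10,18,12,5,12,21,7,21], 6, 1),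
    ([13,18,10,18,17,5,17,21,7,21], 6, 1),
    ([5,18,5,12,5,12,21,9,21], 6, 1),
    ([14,5,18,5,17,5,17,21,9,21], 6, 1),
    ([14,5,18,5,22,5,22,21,9,21], 6, 1),
    ([13,18,5,5,21,9,21], 6, 1),
    ([13,5,18,5,15,5,15,21,9,21], 6, 1),
    ([13,18,10,18,12,5,12,19,7,19], 6, 1),
    ([13,18,10,18,17,5,17,19,7,19], 6, 1),
    ([16,5,18,5,22,5,22,13,9,13], 6, 1),
    ([18,5,5,17,9,17], 6, 1),
    ([5,18,5,17,5,17,17,9,17], 6, 1),
    ([13,18,5,5,19,9,19], 6, 1),
    ([13,5,18,5,15,5,15,19,9,19], 6, 1),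
    ([13,5,18,5,20,5,20,19,9,19], 6, 1),
    ([5,18,5,13,5,13,17,7,17], 6, 1),
    ([5,18,5,13,5,13,15,7,15], 6, 1),
    ([16,5,18,5,22,5,22,19,9,19], 6, 1),
    ([18,18,5,18,13,7,13,21,10,21], 6, 1),
    ([13,13,18,10,18,15,5,15,16,7,16], 6, 2),
    ([5,18,5,12,5,12,13,9,13,19,10,19], 6, 1),
    ([13,19,18,18,20,5,20,14,7,14], 6, 1),
    ([18,5,5,13,9,13,17,10,17], 6, 1),
    ([12,12,18,11,18,5,12,7,12,7,16,7], 10, 2),
    ([12,12,18,11,18,5,17,9,17,14,10,14], 11, 1),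
    ([13,18,18,5,18,19,7,19,13,10,13], 6, 1),
    ([18,18,22,5,22,13,7,13,19,10,19], 6, 1),
    ([13,13,18,10,18,20,5,20,16,7,16], 6, 2),
    ([5,18,5,13,5,13,15,9,15,17,10,17], 6, 1),
    ([5,18,5,13,5,13,15,7,15,19,10,19], 6, 1),
    ([12,12,18,11,18,5,9,14,7,14], 11, 1),
    ([13,18,18,20,5,20,19,7,19,13,10,13], 6, 1),
    ([12,18,18,17,5,17,13,7,13,19,10,19], 6, 1),
    ([5,18,5,13,5,13,21,7,21,17,10,17], 6, 1),
    ([12,18,18,13,5,13,19,7,19], 6, 1),
    ([18,18,13,5,13,13,9,13], 6, 1),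
    ([13,18,18,15,5,15,17,9,17], 6, 1),
    ([18,18,5,18,21,9,21], 6, 1),
    ([18,18,22,5,22,21,9,21], 6, 1),
    ([18,18,17,5,17,21,9,21], 6, 1),
    ([18,18,12,5,12,13,9,13], 6, 1),
    ([18,18,13,5,13,15,9,15], 6, 1),
    ([13,18,18,5,18,12,9,12], 6, 1),
    ([13,18,18,15,5,15,15,9,15], 6, 1),
    ([13,18,18,5,18,15,9,15], 6, 1),
    ([18,18,22,5,22,12,9,12], 6, 1),
    ([18,18,12,5,12,17,9,17], 6, 1),
    ([12,18,18,13,5,13,21,7,21], 6, 1),
    ([16,18,18,13,5,13,15,7,15], 6, 1),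
    ([16,18,18,13,5,13,17,7,17], 6, 1),
    ([18,18,13,5,13,6,17,6,17,9,17], 6, 2),
    ([13,18,18,12,5,12,15,9,15], 6, 1),
    ([16,18,10,18,17,5,17,21,9,21], 6, 1),
    ([13,18,5,5,12,7,12], 6, 1),
    ([12,18,18,13,5,13,21,7,21,8,15,8], 6, 2),
    ([5,18,5,12,5,12,13,7,13], 6, 1),
    ([16,5,18,5,17,5,17,13,7,13], 6, 1),
    ([5,18,5,13,5,13,15,7,15,21,7,21], 6, 1),
    ([18,18,22,5,22,21,9,21,4,19,4], 6, 2),
    ([5,18,5,21,5,21,12,9,12,16,9,16], 6, 1),
    ([12,5,18,5,13,5,13,14,9,14], 6, 2),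
    ([18,18,13,5,13,21,7,21,8,15,8], 6, 2),
    ([5,18,5,22,5,22,13,7,13,2,21,2], 6, 2),
    ([12,5,18,5,17,5,17,13,7,13], 6, 1),
    ([18,18,17,5,17,21,9,21,10,13,10], 6, 1),
    ([5,18,5,22,5,22,9,9], 6, 1),
    ([13,14,18,5,5,15,7,15], 6, 1),
    ([13,5,18,5,20,5,20,21,7,21], 6, 1),
    ([5,18,5,22,5,22,13,7,13], 6, 1),
    ([13,5,18,5,19,5,19,14,7,14], 6, 1),
    ([18,18,13,5,13,21,7,21,15,10,15], 6, 1),
    ([13,13,18,10,18,20,5,20,13,7,13], 6, 1),
    ([5,18,5,22,5,22,13,7,13,15,10,15], 6, 1),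
    ([13,5,18,5,20,5,20,19,7,19,13,10,13], 6, 1),
    ([18,5,5,9,14,14], 9, 2),
    ([18,18,5,18,13,9,13,15,10,15], 6, 1),
    ([18,18,13,5,13,17,7,17,19,10,19], 6, 1),
    ([18,5,5,13,7,13,17,10,17], 6, 1),
    ([13,18,18,15,5,15,21,9,21,13,10,13], 6, 1),
    ([16,18,18,13,5,13], 6, 1),
    ([13,5,18,5,15,5,15,4,19,4], 6, 2),
    ([13,18,18,5,18,21], 6, 1),
    ([13,18,18,20,5,20], 6, 1),
    ([13,16,18,18,15,5,15], 6, 1),
    ([16,18,18,22,5,22], 6, 1),
    ([16,16,18,18,17,5,17], 6, 1),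
    ([16,16,18,10,18,13,5,13], 6, 1),
    ([13,5,18,5,12,5,12,8,15,8], 6, 2),
    ([16,1,22,1,18,10,18,13,5,13], 6, 2),
    ([13,20,18,18,12,5,12], 6, 1),
    ([13,14,18,18,15,5,15], 6, 1),
    ([18,18,17,5,17,21,7,21], 6, 1),
    ([13,18,18,20,5,20,2,21,2], 6, 2),
    ([13,7,16,7,18,18,17,5,17], 6, 2),
    ([16,18,18,13,5,13,6,17,6], 6, 2),
    ([13,14,18,5,5], 6, 1),
    ([13,18,12,5,12,15,5,15], 6, 1),
    ([13,13,18,18,17,5,17,4,19,4], 6, 2),
    ([13,20,18,10,18,12,5,12], 6, 1),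
    ([13,14,14,18,10,18,15,5,15], 6, 1),
    ([12,5,18,5,22,5,22,21,7,21], 6, 1),
    ([13,5,18,5,15,5,15], 6, 1),
    ([13,18,21,5,21,20,5,20], 6, 1),
    ([13,18,10,18,15,5,15,21], 6, 1),
    ([13,18,19,5,19,20,5,20], 6, 1),
    ([22,18,18,13,5,13,19,10,19], 6, 1),
    ([13,7,16,7,18,10,18,20,5,20], 6, 2),
    ([16,5,18,5,13,5,13,15,10,15], 6, 1),
    ([13,13,14,14,18,10,18,20,5,20], 6, 1),
    ([18,5,5,21,9,21,10,13,10], 6, 1),
    ([12,18,18,13,5,13,14,9,14], 6, 2),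
    ([13,14,18,18,20,5,20,21,7,21], 6, 1),
    ([16,18,18,5,18,9,9], 6, 1),
    ([18,18,22,5,22,9,9], 6, 1),
    ([16,16,18,18,17,5,17,9,9], 6, 1),
    ([18,18,12,5,12,13,7,13], 6, 1),
    ([18,18,13,5,13,15,9,15,19,7,19], 6, 1),
    ([13,18,18,5,18,12,7,12], 6, 1),
    ([13,14,18,18,20,5,20,19,7,19], 6, 1),
    ([13,18,18,15,5,15,21,7,21], 6, 1),
    ([16,16,18,10,18,22,5,22,9,9], 6, 1),
    ([18,18,12,5,12,17,9,17,21,9,21], 6, 1),
    ([16,18,10,18,5,13,7,13], 6, 1),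
    ([18,18,22,5,22,13,7,13], 6, 1),
    ([16,16,18,10,18,17,5,17,13,7,13], 6, 1),
    ([13,16,18,18,20,5,20,21,7,21], 6, 1),
    ([13,18,18,15,5,15,19,7,19], 6, 1),
    ([18,18,17,5,17,14,9,14], 6, 2),
    ([13,18,5,5,12,9,12], 6, 1),
    ([13,18,5,5,15,9,15], 6, 1),
    ([5,18,5,12,5,12,13,9,13], 6, 1),
    ([12,5,18,5,13,5,13,17,7,17], 6, 1),
    ([5,18,5,13,5,13,15,9,15], 6, 1),
    ([5,18,5,12,5,12,17,9,17], 6, 1),
    ([5,18,5,22,5,22,12,9,12], 6, 1),
    ([5,18,5,13,5,13,13,9,13], 6, 1),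
    ([13,18,5,5,17,9,17], 6, 1),
    ([13,5,18,5,15,5,15,17,9,17], 6, 1),
    ([13,18,10,18,17,5,17,21,9,21], 6, 1),
    ([13,18,10,18,15,5,15,21,9,21], 6, 1),
    ([16,5,18,5,17,5,17,17,9,17], 6, 1),
    ([13,5,18,5,12,5,12,15,9,15], 6, 1),
    ([18,18,13,5,13,8,15,8,17,9,17], 6, 2),
    ([13,18,10,18,15,5,15,19,9,19], 6, 1),
    ([18,18,5,18,13,7,13,19,10,19], 6, 1),
    ([18,18,5,18,13,7,13,17,10,17], 6, 1),
    ([13,18,18,15,5,15,21,7,21,13,10,13], 6, 1),
    ([13,19,18,18,12,5,12,14,7,14], 6, 1),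
    ([18,5,5,13,9,13,15,10,15], 6, 1),
    ([12,12,18,11,18,5,12,9,12,9,14,9], 11, 2),
    ([12,18,18,22,5,22,13,7,13,19,10,19], 6, 1),
    ([18,18,22,5,22,13,7,13,15,10,15], 6, 1),
    ([5,18,5,13,5,13,15,9,15,21,10,21], 6, 1),
    ([18,18,17,5,17,13,7,13,21,10,21], 6, 1),
    ([18,18,13,5,13,21,7,21], 6, 1),
    ([16,18,18,22,5,22,13,9,13], 6, 1),
    ([21,18,18,13,5,13,16,9,16], 6, 1),
    ([13,16,18,18,20,5,20,21,9,21], 6, 1),
    ([13,16,18,18,15,5,15,21,9,21], 6, 1),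
    ([18,18,17,5,17,17,9,17], 6, 1),
    ([18,18,5,18,17,9,17], 6, 1),
    ([18,18,13,5,13,19,7,19], 6, 1),
    ([21,18,18,12,5,12,16,9,16], 6, 1),
    ([18,1,22,1,13,5,13,19,7,19], 6, 2),
    ([13,14,18,18,20,5,20,21,9,21], 6, 1),
    ([18,18,13,5,13,19,7,19,6,17,6], 6, 2),
    ([16,16,18,18,12,5,12,17,9,17], 6, 1),
    ([18,18,13,5,13,15,7,15], 6, 1),
    ([18,18,13,5,13,17,7,17], 6, 1),
    ([12,18,18,13,5,13,19,7,19,6,17,6], 6, 2),
    ([18,18,13,5,13,4,19,4,21,7,21], 6, 2),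
    ([13,5,18,5,15,5,15,21,7,21], 6, 1),
    ([18,18,13,5,13,8,15,8,15,7,15], 6, 2),
    ([18,21,5,21,17,5,17,13,7,13], 6, 1),
    ([12,5,18,5,22,5,22,13,7,13], 6, 1),
    ([14,5,18,5,22,5,22,9,9], 6, 1),
    ([13,5,18,5,15,5,15,19,7,19], 6, 1),
    ([13,5,18,5,15,5,15,17,7,17], 6, 1),
    ([5,18,5,13,5,13,15,9,15,21,7,21], 6, 1),
    ([13,5,18,5,15,5,15,15,7,15], 6, 1),
    ([18,18,13,5,13,21,7,21,17,10,17], 6, 1),
    ([13,13,18,10,18,20,5,20,12,7,12], 6, 1),
    ([13,5,18,5,20,5,20,21,7,21,13,10,13], 6, 1),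
    ([13,13,18,10,18,20,5,20,19,7,19], 6, 1),
    ([18,18,13,5,13], 6, 1),
    ([16,22,18,18,13,5,13], 6, 1),
    ([13,5,18,5,20,5,20,4,19,4], 6, 2),
    ([13,16,16,18,18,20,5,20], 6, 1),
    ([13,18,18,15,5,15], 6, 1),
    ([16,18,18,17,5,17], 6, 1),
    ([13,5,18,5,15,5,15,19,10,19], 6, 1),
    ([12,22,2,22,18,18,13,5,13], 6, 1),
    ([13,12,12,18,18,15,5,15], 6, 1),
    ([13,18,18,15,5,15,2,21,2], 6, 2),
    ([13,14,5,18,5,15,5,15], 6, 1),
    ([13,18,12,5,12,20,5,20], 6, 1),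
    ([12,22,2,22,5,18,5,13,5,13], 6, 1),
    ([13,5,18,5,20,5,20], 6, 1),
    ([18,1,22,1,13,5,13,21,10,21], 6, 2),
    ([16,18,18,5,18,13,7,13], 6, 1),
    ([13,5,18,5,15,5,15,16,7,16], 6, 2),
    ([18,18,13,5,13,2,21,2,19,7,19], 6, 2),
    ([13,18,18,20,5,20,19,7,19], 6, 1),
    ([13,18,18,12,5,12,17,7,17], 6, 1),
    ([16,16,18,18,22,5,22,9,9], 6, 1),
    ([16,18,18,17,5,17,9,9], 6, 1),
    ([18,18,5,18,13,7,13,19,19], 6, 1),
    ([16,18,10,18,22,5,22,13,7,13], 6, 1),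
    ([18,18,17,5,17,13,7,13], 6, 1),
    ([5,18,5,13,5,13,17,7,17,4,19,4], 6, 2),
    ([13,18,18,5,18,15,7,15], 6, 1),
    ([14,18,18,17,5,17,9,9], 6, 1),
    ([16,16,18,18,22,5,22,13,7,13], 6, 1),
    ([18,18,13,5,13,17,7,17,21,9,21], 6, 1),
    ([13,18,18,5,18,17,7,17], 6, 1),
    ([18,18,13,5,13,4,19,4,21,9,21], 6, 2),
    ([12,5,18,5,13,5,13,19,7,19,6,17,6], 6, 2),
    ([13,14,5,18,5,15,5,15,17,9,17], 6, 1),
    ([18,6,17,6,13,5,13,19,9,19], 6, 2),
    ([13,18,10,18,15,5,15,19,7,19], 6, 1),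
    ([16,5,18,5,22,5,22,12,9,12], 6, 1),
    ([5,18,5,13,5,13,19,7,19,6,17,6], 6, 2),
    ([13,16,5,18,5,15,5,15,17,9,17], 6, 1),
    ([5,18,5,22,5,22,13,9,13], 6, 1),
    ([13,14,5,18,5,15,5,15,15,9,15], 6, 1),
    ([18,18,5,18,13,7,13,15,10,15], 6, 1),
    ([13,18,10,18,19,5,19,17,7,17,9,14,9], 6, 2),
    ([5,18,5,12,5,12,13,9,13,15,10,15], 6, 1),
    ([13,13,18,10,18,20,5,20,7,7], 6, 1),
    ([18,18,5,18,13,9,13], 6, 1),
    ([18,18,22,5,22,13,9,13], 6, 1),
    ([18,18,13,5,13,17,9,17], 6, 1),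
    ([13,18,18,20,5,20,21,9,21], 6, 1),
    ([13,18,18,15,5,15,21,9,21], 6, 1),
    ([16,18,18,17,5,17,21,9,21], 6, 1),
    ([16,18,18,13,5,13,15,9,15], 6, 1),
    ([16,18,10,18,13,5,13,17,7,17], 6, 1),
    ([13,18,18,15,5,15,19,9,19], 6, 1),
    ([13,13,18,18,17,5,17,19,7,19], 6, 1),
    ([13,18,5,5,15,7,15], 6, 1),
    ([13,14,5,18,5,15,5,15,17,7,17], 6, 1),
    ([5,18,5,13,5,13,15,7,15,19,9,19], 6, 1),
    ([13,14,5,18,5,15,5,15,15,7,15], 6, 1),
    ([13,13,18,10,18,15,5,15,15,7,15], 6, 1),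
    ([22,18,18,13,5,13], 6, 1),
    ([16,13,13,18,18,17,5,17], 6, 1),
    ([13,16,16,18,18,15,5,15], 6, 1),
    ([13,5,18,5,20,5,20,19,10,19], 6, 1),
    ([13,14,5,18,5,20,5,20], 6, 1),
    ([18,18,5,18,13,7,13], 6, 1),
    ([16,16,18,10,18,22,5,22,13,7,13], 6, 1),
    ([16,18,10,18,17,5,17,13,7,13], 6, 1),
    ([13,18,18,15,5,15,17,7,17], 6, 1),
    ([5,18,5,13,5,13,21,7,21,8,15,8], 6, 2),
    ([18,18,17,5,17,9,9], 6, 1),
    ([12,18,18,22,5,22,13,7,13], 6, 1),
    ([16,16,18,18,17,5,17,13,7,13], 6, 1),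
    ([12,5,18,5,13,5,13,21,7,21,8,15,8], 6, 2),
    ([13,18,18,15,5,15,14,9,14], 6, 2),
    ([18,18,13,5,13,4,19,4,17,9,17], 6, 2),
    ([5,18,5,13,5,13,15,9,15,2,21,2], 6, 2),
    ([18,21,5,21,13,5,13,15,9,15], 6, 1),
    ([13,5,18,5,20,5,20,21,9,21], 6, 1),
    ([13,18,18,15,5,15,19,7,19,13,10,13], 6, 1),
    ([21,18,18,22,5,22,16,9,16], 6, 1),
    ([18,1,22,1,13,5,13,19,9,19], 6, 2),
    ([13,18,18,5,18,17,9,17], 6, 1),
    ([12,18,18,13,5,13,17,7,17], 6, 1),
    ([13,5,18,5,20,5,20,19,7,19], 6, 1),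
    ([13,13,18,18,17,5,17], 6, 1),
    ([18,18,13,5,13,15,9,15,21,7,21], 6, 1),
    ([12,18,18,17,5,17,13,7,13], 6, 1),
    ([18,18,13,5,13,2,21,2,15,7,15], 6, 2),
    ([16,18,18,17,5,17,13,7,13], 6, 1),
    ([13,5,18,5,15,5,15,15,9,15], 6, 1),
    ([16,18,18,13,5,13,17,9,17], 6, 1),
    ([18,18,13,5,13,17,7,17,19,9,19], 6, 1)]

/-- Certificates for the elements over the representative 2. -/
def cand2 : List (List ℕ × ℕ × ℕ) :=
  [
    ([], 5, 1),
    ([], 8, 1),
    ([], 0, 0),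
    ([13,13,10,13,19,9,19,19,5,19], 6, 1),
    ([13,13,18,10,18,19,4,19,18,5,18], 6, 2),
    ([20], 5, 1),
    ([14,14,12,9,12,13,11,13,12,10,12,20,9,20,14,4,14], 8, 1),
    ([9,14,14], 11, 1),
    ([], 0, 0),
    ([16,21,5,21,19,2,19,11,16,9,16,14,14], 6, 1),
    ([16,21,5,21,19,2,19,11,15,9,15,14,14], 6, 1),
    ([20], 8, 1),
    ([], 12, 1),
    ([], 0, 0),
    ([], 0, 0),
    ([], 0, 0),
    ([], 0, 0),
    ([], 0, 0),
    ([13,16,10,10,19,9,19,19,5,19], 6, 2),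
    ([19,12], 5, 1),
    ([12,13,13,10,13,19,9,19,19,5,19], 6, 1),
    ([13,21,21,13,10,13,20,9,20,14,5,14], 6, 1),
    ([13,13,12,10,12,18,4,18,12,5,12], 6, 1),
    ([13,13,18,10,18,18,9,18,5,5], 6, 1),
    ([10,13,10,18,10,18,16,4,16,20,5,20], 6, 1),
    ([20,20], 5, 1),
    ([14,14,12,9,12,13,11,13,10,9,14,4,14], 8, 1),
    ([12,12,13,11,13,14,10,14,9,14,4,14], 11, 2),
    ([], 0, 0),
    ([21,18,5,18,19,2,19,14,11,14,16,9,16,9,14,9], 6, 1),
    ([21,18,5,18,19,2,19,14,11,14,15,9,15,9,14,9], 6, 1),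
    ([9,17,14,14], 11, 1),
    ([21,10,21,5,22,2,22,13,11,13,19,9,19,14,14], 6, 1),
    ([], 0, 0),
    ([], 0, 0),
    ([], 0, 0),
    ([], 0, 0),
    ([], 0, 0),
    ([16,21,5,21,19,2,19,13,11,13,20,9,20,9,14,9], 6, 2),
    ([17,19], 8, 1),
    ([16,21,5,21,19,2,19,13,11,13,20,9,20,14,14], 6, 1),
    ([15,16,9,16,19,19], 8, 1),
    ([16,21,5,21,19,2,19,14,11,14,15,9,15,9,14,9], 6, 2),
    ([16,21,5,21,19,2,19,14,11,14,15,9,15,14,14], 6, 1),
    ([16,15,9,15,19,19], 8, 1),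
    ([17], 8, 1),
    ([20], 12, 1),
    ([19,1,22,1,2,21,2,16,2,16,13,11,13,18,9,18,14,14], 6, 2),
    ([], 0, 0),
    ([], 0, 0),
    ([], 0, 0),
    ([], 0, 0),
    ([], 0, 0),
    ([], 0, 0),
    ([], 0, 0),
    ([], 0, 0),
    ([], 0, 0),
    ([], 0, 0),
    ([], 0, 0),
    ([], 0, 0),
    ([], 0, 0),
    ([], 0, 0),
    ([13,4,19,4,18,10,18,19,5,19,13,4,13], 6, 1),
    ([13,10,10,19,9,19,19,5,19,13,4,13], 6, 2),
    ([13,19,10,19,21,10,21,12,9,12,14,4,14], 6, 2),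
    ([12,5,18,5,13,5,13,21,10,21,4,4], 6, 2),
    ([19], 5, 1),
    ([14,7,16,7,15,9,15,11,11,18,10,18,14,4,14], 8, 2),
    ([13,13,12,10,12,19,9,19,19,5,19], 6, 1),
    ([21,13,5,13,19,10,19,20,9,20,14,4,14], 6, 1),
    ([13,4,19,4,21,10,21,12,9,12,14,5,14], 6, 2),
    ([13,13,10,13,18,4,18,12,5,12], 6, 1),
    ([13,13,18,10,18,20,9,20,21,5,21], 6, 1),
    ([5,18,5,13,5,13,10,12,4,12], 6, 1),
    ([10,13,10,18,10,18,20,5,20,16,4,16], 6, 1),
    ([10,13,10,18,10,18,15,4,15,21,5,21], 6, 1),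
    ([14,14,12,9,12,13,11,13,14,10,14,19,9,19,19,5,19], 8, 1),
    ([12,12,13,11,13,12,10,12,20,9,20,14,5,14], 11, 2),
    ([], 0, 0),
    ([], 0, 0),
    ([], 0, 0),
    ([], 0, 0),
    ([], 0, 0),
    ([21,18,5,18,19,2,19,11,16,9,16,14,14], 6, 2),
    ([18,17,9,17,14,14], 11, 1),
    ([21,18,5,18,19,2,19,11,16,9,16,9,14,9], 6, 1),
    ([14,9,9,10,10,15,11,15,19,9,19,9,14,9], 12, 2),
    ([21,18,5,18,19,2,19,11,15,9,15,14,14], 6, 2),
    ([21,18,5,18,19,2,19,11,15,9,15,9,14,9], 6, 1),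
    ([14,9,9,10,10,15,11,15,18,9,18,14,14], 12, 1),
    ([17,9,17,14,14], 11, 1),
    ([16,16,21,10,21,22,2,22,13,11,13,19,9,19,14,14], 6, 1),
    ([14,14,12,9,12,10,10,12,11,12,13,9,13,14,14], 12, 2),
    ([], 0, 0),
    ([], 0, 0),
    ([], 0, 0),
    ([], 0, 0),
    ([], 0, 0),
    ([], 0, 0),
    ([], 0, 0),
    ([], 0, 0),
    ([], 0, 0),
    ([], 0, 0),
    ([], 0, 0),
    ([], 0, 0),
    ([], 0, 0),
    ([], 0, 0),
    ([16,21,5,21,19,2,19,13,11,13,19,9,19,14,14], 6, 1),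
    ([16,21,5,21,19,2,19,11,13,9,13,9,14,9], 6, 2),
    ([16,19,15,9,15], 8, 1),
    ([16,21,5,21,19,2,19,13,11,13,19,9,19,9,14,9], 6, 2),
    ([19], 8, 1),
    ([9,19], 12, 1),
    ([16,21,5,21,19,2,19,11,13,9,13,14,14], 6, 1),
    ([15,16,16,19,9,19], 8, 1),
    ([15,16,16,19,9,19], 12, 1),
    ([16,21,5,21,19,2,19,11,12,9,12,9,14,9], 6, 2),
    ([15,19,16,9,16], 8, 1),
    ([16,21,5,21,19,2,19,11,12,9,12,14,14], 6, 1),
    ([16,15,15,19,9,19], 8, 1),
    ([16,15,15,19,9,19], 12, 1),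
    ([9], 12, 1),
    ([18,16,10,16,5,18,5,22,2,22,13,11,13,18,9,18,14,14], 6, 2),
    ([], 0, 0),
    ([], 0, 0),
    ([], 0, 0),
    ([], 0, 0),
    ([], 0, 0),
    ([], 0, 0),
    ([], 0, 0),
    ([], 0, 0),
    ([], 0, 0),
    ([], 0, 0),
    ([], 0, 0),
    ([], 0, 0),
    ([], 0, 0),
    ([], 0, 0),
    ([], 0, 0),
    ([], 0, 0),
    ([], 0, 0),
    ([], 0, 0),
    ([], 0, 0),
    ([], 0, 0),
    ([], 0, 0),
    ([], 0, 0),
    ([], 0, 0),
    ([], 0, 0),
    ([], 0, 0),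
    ([], 0, 0),
    ([20,19,19], 5, 1),
    ([12,13,13,19,18,10,18,14,4,14], 6, 2),
    ([16,13,13,18,10,18,20,4,20,21,5,21], 6, 2),
    ([13,14,10,10,19,9,19,19,5,19], 6, 2),
    ([13,2,21,2,10,12,9,12,14,4,14], 6, 1),
    ([13,21,10,10,20,9,20,14,4,14], 6, 2),
    ([5,18,5,13,5,13,19,10,19,4,4], 6, 2),
    ([21,10,13,10,12,10,12,14,9,14,19,5,19], 6, 2),
    ([19,20], 5, 1),
    ([14,5,18,5,12,9,12,13,11,13,19,10,19,14,4,14], 8, 2),
    ([12,12,13,11,13,18,10,18,14,4,14], 11, 1),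
    ([19,13,5,13,20,10,20,19,9,19,19,5,19], 6, 1),
    ([13,13,21,21,16,10,16,12,9,12,14,4,14], 6, 1),
    ([13,13,10,13,18,4,18,5], 6, 1),
    ([12,13,13,18,10,18,20,9,20,21,5,21], 6, 1),
    ([13,13,18,10,18,21,9,21,20,5,20], 6, 1),
    ([10,13,10,18,10,18,21,4,21,20,5,20], 6, 1),
    ([10,13,10,18,10,18,20,4,20,21,5,21], 6, 1),
    ([12,12,13,11,13,10,9,14,5,14], 11, 2),
    ([], 0, 0),
    ([], 0, 0),
    ([], 0, 0),
    ([], 0, 0),
    ([], 0, 0),
    ([], 0, 0),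
    ([], 0, 0),
    ([], 0, 0),
    ([], 0, 0),
    ([], 0, 0),
    ([], 0, 0),
    ([], 0, 0),
    ([], 0, 0),
    ([], 0, 0),
    ([21,18,5,18,19,2,19,13,11,13,18,9,18,9,14,9], 6, 1),
    ([21,18,5,18,19,2,19,11,13,9,13,14,14], 6, 2),
    ([14,9,9,10,12,11,12,18,9,18,9,14,9], 12, 1),
    ([21,18,5,18,19,2,19,13,11,13,18,9,18,14,14], 6, 2),
    ([18,9,18,9,14,9], 11, 2),
    ([16,16,21,10,21,22,2,22,13,11,13,9,9,14], 6, 2),
    ([21,18,5,18,19,2,19,11,13,9,13,9,14,9], 6, 1),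
    ([14,9,9,10,12,11,12,18,9,18,14,14], 12, 2),
    ([12,13,9,13,14,14,4,19,4], 11, 2),
    ([21,18,5,18,19,2,19,11,12,9,12,14,14], 6, 2),
    ([14,9,9,10,12,11,12,19,9,19,14,14], 12, 2),
    ([21,18,5,18,19,2,19,11,12,9,12,9,14,9], 6, 1),
    ([14,9,9,10,12,11,12,19,9,19,9,14,9], 12, 1),
    ([12,13,9,13,9,14,9,4,19,4], 11, 1),
    ([7,16,7,21,10,21,22,2,22,13,11,13,19,9,19,14,14], 6, 2),
    ([14,14,12,9,12,10,10,11,11,13,9,13,14,14], 12, 1),
    ([], 0, 0),
    ([], 0, 0),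
    ([], 0, 0),
    ([], 0, 0),
    ([], 0, 0),
    ([], 0, 0),
    ([], 0, 0),
    ([], 0, 0),
    ([], 0, 0),
    ([], 0, 0),
    ([], 0, 0),
    ([], 0, 0),
    ([], 0, 0),
    ([], 0, 0),
    ([], 0, 0),
    ([], 0, 0),
    ([], 0, 0),
    ([], 0, 0),
    ([], 0, 0),
    ([], 0, 0),
    ([], 0, 0),
    ([], 0, 0),
    ([], 0, 0),
    ([], 0, 0),
    ([], 0, 0),
    ([], 0, 0),
    ([17,4,19,4], 8, 2),
    ([21,7,16,7,19,2,19,13,11,13,19,9,19,14,14], 6, 2),
    ([15,16,16], 8, 1),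
    ([16,21,5,21,19,2,19,11,16,9,16,9,14,9], 6, 2),
    ([16,19,15,15], 8, 1),
    ([15,9,15,16,19], 12, 1),
    ([21,7,16,7,19,2,19,13,11,13,19,9,19,9,14,9], 6, 1),
    ([16,15,15], 8, 1),
    ([19,20], 8, 1),
    ([19], 12, 1),
    ([16,2,21,2,19,5,19,22,2,22,11,13,9,13,14,14], 6, 1),
    ([15,16,16,19,19], 8, 1),
    ([15,19,19,16,9,16], 12, 1),
    ([16,21,5,21,19,2,19,11,15,9,15,9,14,9], 6, 2),
    ([15,19,16,16], 8, 1),
    ([16,9,16,15,19], 12, 1),
    ([16,15,15,19,19], 8, 1),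
    ([16,19,19,15,9,15], 12, 1),
    ([16,2,21,2,19,5,19,22,2,22,13,11,13,18,9,18,14,14], 6, 1),
    ([], 0, 0),
    ([], 0, 0),
    ([], 0, 0),
    ([], 0, 0),
    ([], 0, 0),
    ([], 0, 0),
    ([], 0, 0),
    ([], 0, 0),
    ([], 0, 0),
    ([], 0, 0),
    ([], 0, 0),
    ([], 0, 0),
    ([], 0, 0),
    ([], 0, 0),
    ([], 0, 0),
    ([], 0, 0),
    ([], 0, 0),
    ([], 0, 0),
    ([], 0, 0),
    ([], 0, 0),
    ([], 0, 0),
    ([], 0, 0),
    ([], 0, 0),
    ([], 0, 0),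
    ([], 0, 0),
    ([], 0, 0),
    ([], 0, 0),
    ([], 0, 0),
    ([], 0, 0),
    ([], 0, 0),
    ([], 0, 0),
    ([], 0, 0),
    ([], 0, 0),
    ([], 0, 0),
    ([], 0, 0),
    ([19,2,21,2], 5, 2),
    ([14,14,12,9,12,13,11,13,12,10,12,19,9,19,18,5,18], 8, 1),
    ([13,13,19,18,10,18,14,4,14], 6, 2),
    ([16,13,13,18,10,18,21,5,21,15,4,15], 6, 2),
    ([16,13,13,18,10,18,20,5,20,16,4,16], 6, 2),
    ([13,2,21,2,20,10,20,20,9,20,14,4,14], 6, 1),
    ([13,2,21,2,20,10,20,21,9,21,14,4,14], 6, 1),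
    ([5,18,5,13,5,13,19,10,19,19,4,19], 6, 1),
    ([13,2,21,2,12,10,12,14,9,14,19,5,19], 6, 1),
    ([16,10,13,10,18,10,18,15,9,15,21,5,21], 6, 2),
    ([14,9,9,12,5,12,13,11,13,18,10,18,14,4,14], 8, 1),
    ([17,12,10,12,13,11,13,18,10,18,14,4,14], 11, 1),
    ([13,13,19,12,10,12,21,9,21,14,5,14], 6, 1),
    ([13,13,18,10,18,15,9,15,21,5,21], 6, 1),
    ([13,13,18,10,18,16,9,16,20,5,20], 6, 1),
    ([12,10,13,10,18,10,18,15,4,15,21,5,21], 6, 1),
    ([], 0, 0),
    ([], 0, 0),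
    ([], 0, 0),
    ([], 0, 0),
    ([], 0, 0),
    ([], 0, 0),
    ([], 0, 0),
    ([], 0, 0),
    ([], 0, 0),
    ([], 0, 0),
    ([], 0, 0),
    ([], 0, 0),
    ([], 0, 0),
    ([], 0, 0),
    ([], 0, 0),
    ([], 0, 0),
    ([], 0, 0),
    ([], 0, 0),
    ([], 0, 0),
    ([], 0, 0),
    ([], 0, 0),
    ([], 0, 0),
    ([], 0, 0),
    ([], 0, 0),
    ([], 0, 0),
    ([], 0, 0),
    ([17,18,9,18,14,14], 11, 1),
    ([21,18,5,18,19,2,19,18,11,18,15,9,15,14,14], 6, 2),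
    ([14,9,9,10,11,11,9,14,14], 12, 1),
    ([21,18,5,18,19,2,19,14,11,14,16,9,16,14,14], 6, 2),
    ([14,9,9,10,11,11,18,9,18,9,14,9], 12, 2),
    ([12,13,13,18,9,18,9,14,9], 11, 2),
    ([21,18,5,18,19,2,19,18,11,18,15,9,15,9,14,9], 6, 1),
    ([14,9,9,10,11,11,9,9,14,9], 12, 2),
    ([17,18,9,18,9,14,9], 11, 2),
    ([16,16,21,10,21,22,2,22,11,16,9,16,9,14,9], 6, 2),
    ([9,14,14,15,9,15,13,11,13,10,10,18,9,18,9,14,9], 12, 1),
    ([14,9,9,10,11,11,18,9,18,14,14], 12, 1),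
    ([12,13,13,18,9,18,14,14], 11, 1),
    ([21,18,5,18,19,2,19,14,11,14,15,9,15,14,14], 6, 2),
    ([14,9,9,10,11,11,19,9,19,14,14], 12, 1),
    ([12,18,13,9,13,14,14], 11, 1),
    ([14,9,9,10,11,11,19,9,19,9,14,9], 12, 2),
    ([12,18,13,9,13,9,14,9], 11, 2),
    ([14,14,15,9,15,13,11,13,10,10,9,9,14], 12, 1),
    ([], 0, 0),
    ([], 0, 0),
    ([], 0, 0),
    ([], 0, 0),
    ([], 0, 0),
    ([], 0, 0),
    ([], 0, 0),
    ([], 0, 0),
    ([], 0, 0),
    ([], 0, 0),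
    ([], 0, 0),
    ([], 0, 0),
    ([], 0, 0),
    ([], 0, 0),
    ([], 0, 0),
    ([], 0, 0),
    ([], 0, 0),
    ([], 0, 0),
    ([], 0, 0),
    ([], 0, 0),
    ([], 0, 0),
    ([], 0, 0),
    ([], 0, 0),
    ([], 0, 0),
    ([], 0, 0),
    ([], 0, 0),
    ([], 0, 0),
    ([], 0, 0),
    ([], 0, 0),
    ([], 0, 0),
    ([], 0, 0),
    ([], 0, 0),
    ([], 0, 0),
    ([], 0, 0),
    ([], 0, 0),
    ([17,19,19], 8, 1),
    ([9,4,19,4], 12, 2),
    ([21,21,19,2,19,13,5,13,16,11,16,19,9,19,14,14], 6, 1),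
    ([15,16,9,16], 8, 1),
    ([15,16,16], 12, 1),
    ([16,15,9,15,19], 8, 1),
    ([16,19,15,15], 12, 1),
    ([21,21,19,2,19,13,5,13,16,11,16,19,9,19,9,14,9], 6, 2),
    ([16,15,9,15], 8, 1),
    ([16,15,15], 12, 1),
    ([19,20], 12, 1),
    ([16,2,21,2,19,5,19,22,2,22,11,16,9,16,14,14], 6, 1),
    ([15,16,16,19,19], 12, 1),
    ([15,16,9,16,19], 8, 1),
    ([15,19,16,16], 12, 1),
    ([16,15,15,19,19], 12, 1),
    ([], 0, 0),
    ([], 0, 0),
    ([], 0, 0),
    ([], 0, 0),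
    ([], 0, 0),
    ([], 0, 0),
    ([], 0, 0),
    ([], 0, 0),
    ([], 0, 0),
    ([], 0, 0),
    ([], 0, 0),
    ([], 0, 0),
    ([], 0, 0),
    ([], 0, 0),
    ([], 0, 0),
    ([], 0, 0),
    ([], 0, 0),
    ([], 0, 0),
    ([], 0, 0),
    ([], 0, 0),
    ([], 0, 0),
    ([], 0, 0),
    ([], 0, 0),
    ([], 0, 0),
    ([], 0, 0),
    ([], 0, 0),
    ([], 0, 0),
    ([], 0, 0),
    ([], 0, 0),
    ([], 0, 0),
    ([], 0, 0),
    ([], 0, 0),
    ([], 0, 0),
    ([], 0, 0),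
    ([], 0, 0),
    ([19,19], 5, 1),
    ([14,14,12,9,12,13,11,13,10,14,9,14,19,5,19], 8, 1),
    ([12,12,13,11,13,10,9,9,19,5,19], 11, 1),
    ([16,13,13,18,10,18,15,4,15,21,5,21], 6, 2),
    ([13,13,14,14,18,10,18,16,4,16,20,5,20], 6, 2),
    ([13,13,19,10,19,13,9,13,14,5,14,15,5,15], 6, 1),
    ([22,10,13,10,21,10,21,9,9,19,5,19], 6, 1),
    ([16,10,13,10,18,10,18,20,9,20,21,5,21], 6, 2),
    ([12,13,11,13,14,10,14,18,11,18,14,4,14], 11, 2),
    ([12,13,13,18,10,18,16,9,16,20,5,20], 6, 1),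
    ([], 0, 0),
    ([], 0, 0),
    ([], 0, 0),
    ([], 0, 0),
    ([], 0, 0),
    ([], 0, 0),
    ([], 0, 0),
    ([], 0, 0),
    ([], 0, 0),
    ([], 0, 0),
    ([], 0, 0),
    ([], 0, 0),
    ([], 0, 0),
    ([], 0, 0),
    ([], 0, 0),
    ([], 0, 0),
    ([], 0, 0),
    ([], 0, 0),
    ([], 0, 0),
    ([], 0, 0),
    ([], 0, 0),
    ([], 0, 0),
    ([], 0, 0),
    ([], 0, 0),
    ([], 0, 0),
    ([], 0, 0),
    ([], 0, 0),
    ([], 0, 0),
    ([], 0, 0),
    ([], 0, 0),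
    ([], 0, 0),
    ([], 0, 0),
    ([], 0, 0),
    ([], 0, 0),
    ([], 0, 0),
    ([18,17,9,17,9,14,9], 11, 2),
    ([16,16,21,10,21,22,2,22,11,13,9,13,14,14], 6, 1),
    ([16,16,2,21,2,19,2,19,18,11,18,15,9,15,14,14], 6, 1),
    ([14,9,9,10,11,11,14,9,14,14], 12, 1),
    ([12,9,12,16,16,9,14,9], 11, 2),
    ([14,9,9,10,10,15,11,15,19,9,19,14,14], 12, 1),
    ([12,18,18,16,9,16,9,14,9], 11, 2),
    ([16,16,2,21,2,19,2,19,18,11,18,15,9,15,9,14,9], 6, 2),
    ([14,9,9,10,11,11,9,9,14], 12, 2),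
    ([12,9,12,14,14,16,16], 11, 1),
    ([16,16,21,10,21,22,2,22,11,13,9,13,9,14,9], 6, 2),
    ([14,14,15,9,15,13,11,13,10,10,18,9,18,9,14,9], 12, 1),
    ([12,18,18,16,9,16,14,14], 11, 1),
    ([14,9,9,10,10,15,11,15,18,9,18,9,14,9], 12, 2),
    ([13,18,18,15,9,15,9,14,9], 11, 2),
    ([12,13,9,13,9,14,9,19,9,19], 11, 2),
    ([], 0, 0),
    ([], 0, 0),
    ([], 0, 0),
    ([], 0, 0),
    ([], 0, 0),
    ([], 0, 0),
    ([], 0, 0),
    ([], 0, 0),
    ([], 0, 0),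
    ([], 0, 0),
    ([], 0, 0),
    ([], 0, 0),
    ([], 0, 0),
    ([], 0, 0),
    ([], 0, 0),
    ([], 0, 0),
    ([], 0, 0),
    ([], 0, 0),
    ([], 0, 0),
    ([], 0, 0),
    ([], 0, 0),
    ([], 0, 0),
    ([], 0, 0),
    ([], 0, 0),
    ([], 0, 0),
    ([], 0, 0),
    ([], 0, 0),
    ([], 0, 0),
    ([], 0, 0),
    ([], 0, 0),
    ([], 0, 0),
    ([], 0, 0),
    ([], 0, 0),
    ([], 0, 0),
    ([], 0, 0),
    ([19,19], 8, 1),
    ([19,9,19], 12, 1),
    ([16,2,21,2,19,5,19,22,2,22,13,11,13,9,9,14], 6, 2),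
    ([15,13,7,16,7], 8, 2),
    ([9,15,7,16,7], 12, 2),
    ([16,19,15,9,15], 12, 1),
    ([15,16,16,2,21,2], 8, 2),
    ([9,16,8,15,8], 12, 2),
    ([16,2,21,2,19,5,19,22,2,22,13,11,13,14,9,14,14], 6, 1),
    ([15,19,16,9,16], 12, 1),
    ([], 0, 0),
    ([], 0, 0),
    ([], 0, 0),
    ([], 0, 0),
    ([], 0, 0),
    ([], 0, 0),
    ([], 0, 0),
    ([], 0, 0),
    ([], 0, 0),
    ([], 0, 0),
    ([], 0, 0),
    ([], 0, 0),
    ([], 0, 0),
    ([], 0, 0),
    ([], 0, 0),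
    ([], 0, 0),
    ([], 0, 0),
    ([], 0, 0),
    ([], 0, 0),
    ([], 0, 0),
    ([], 0, 0),
    ([], 0, 0),
    ([], 0, 0),
    ([], 0, 0),
    ([], 0, 0),
    ([], 0, 0),
    ([14,14,12,9,12,13,11,13,10,18,4,18,15,5,15], 8, 1),
    ([12,12,13,11,13,10,19,9,19,18,5,18], 11, 2),
    ([13,21,1,22,1,18,10,18,14,4,14], 6, 1),
    ([13,13,14,10,14,5,18,5,20,9,20,21,5,21], 6, 2),
    ([], 0, 0),
    ([], 0, 0),
    ([], 0, 0),
    ([], 0, 0),
    ([], 0, 0),
    ([], 0, 0),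
    ([], 0, 0),
    ([], 0, 0),
    ([], 0, 0),
    ([], 0, 0),
    ([], 0, 0),
    ([], 0, 0),
    ([], 0, 0),
    ([], 0, 0),
    ([], 0, 0),
    ([], 0, 0),
    ([], 0, 0),
    ([], 0, 0),
    ([], 0, 0),
    ([], 0, 0),
    ([], 0, 0),
    ([], 0, 0),
    ([], 0, 0),
    ([], 0, 0),
    ([], 0, 0),
    ([], 0, 0),
    ([], 0, 0),
    ([], 0, 0),
    ([], 0, 0),
    ([], 0, 0),
    ([], 0, 0),
    ([], 0, 0),
    ([], 0, 0),
    ([], 0, 0),
    ([], 0, 0),
    ([18,9,18,14,14], 11, 1),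
    ([16,16,21,10,21,22,2,22,13,11,13,14,9,14,14], 6, 1),
    ([14,14,15,9,15,13,11,13,13,10,13,18,9,18,14,14], 12, 1),
    ([14,9,9,10,11,11,17,9,17,14,14], 12, 1),
    ([12,16,9,16,14,14], 11, 1),
    ([12,13,9,13,5,18,5,14], 11, 1),
    ([14,9,9,10,11,11,17,9,17,9,14,9], 12, 2),
    ([12,16,9,16,9,14,9], 11, 2),
    ([14,14,15,9,15,13,11,13,13,10,13,18,9,18,9,14,9], 12, 2),
    ([12,16,9,16,18,14,14], 11, 1),
    ([], 0, 0),
    ([], 0, 0),
    ([], 0, 0),
    ([], 0, 0),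
    ([], 0, 0),
    ([], 0, 0),
    ([], 0, 0),
    ([], 0, 0),
    ([], 0, 0),
    ([], 0, 0),
    ([], 0, 0),
    ([], 0, 0),
    ([], 0, 0),
    ([], 0, 0),
    ([], 0, 0),
    ([], 0, 0),
    ([], 0, 0),
    ([], 0, 0),
    ([], 0, 0),
    ([], 0, 0),
    ([], 0, 0),
    ([], 0, 0),
    ([], 0, 0),
    ([], 0, 0),
    ([], 0, 0),
    ([], 0, 0),
    ([19,19], 12, 1),
    ([16,2,21,2,19,5,19,22,2,22,11,13,9,13,9,14,9], 6, 2),
    ([16,9,16,15], 12, 1),
    ([15,9,15,16], 12, 1),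
    ([], 0, 0),
    ([], 0, 0),
    ([], 0, 0),
    ([], 0, 0),
    ([], 0, 0),
    ([], 0, 0),
    ([], 0, 0),
    ([], 0, 0),
    ([], 0, 0),
    ([], 0, 0),
    ([], 0, 0),
    ([], 0, 0),
    ([], 0, 0),
    ([], 0, 0),
    ([12,12,13,11,13,10,18,4,18,20,5,20], 11, 2),
    ([], 0, 0),
    ([], 0, 0),
    ([], 0, 0),
    ([], 0, 0),
    ([], 0, 0),
    ([], 0, 0),
    ([], 0, 0),
    ([], 0, 0),
    ([], 0, 0),
    ([], 0, 0),
    ([], 0, 0),
    ([], 0, 0),
    ([], 0, 0),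
    ([], 0, 0),
    ([], 0, 0),
    ([], 0, 0),
    ([], 0, 0),
    ([], 0, 0),
    ([], 0, 0),
    ([], 0, 0),
    ([], 0, 0),
    ([], 0, 0),
    ([], 0, 0),
    ([], 0, 0),
    ([], 0, 0),
    ([], 0, 0),
    ([16,16,21,10,21,22,2,22,11,16,9,16,14,14], 6, 1),
    ([9,14,14,15,9,15,13,11,13,10,10,18,9,18,14,14], 12, 2),
    ([12,13,9,13,14,14], 11, 1),
    ([12,13,9,13,9,14,9], 11, 2),
    ([], 0, 0),
    ([], 0, 0),
    ([], 0, 0),
    ([], 0, 0),
    ([], 0, 0),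
    ([], 0, 0),
    ([], 0, 0),
    ([], 0, 0),
    ([], 0, 0),
    ([], 0, 0),
    ([], 0, 0),
    ([], 0, 0),
    ([], 0, 0),
    ([], 0, 0),
    ([16,2,21,2,19,5,19,22,2,22,11,16,9,16,9,14,9], 6, 2),
    ([], 0, 0),
    ([], 0, 0),
    ([], 0, 0),
    ([], 0, 0),
    ([], 0, 0),
    ([], 0, 0),
    ([], 0, 0),
    ([], 0, 0),
    ([], 0, 0),
    ([], 0, 0),
    ([], 0, 0),
    ([], 0, 0),
    ([], 0, 0),
    ([], 0, 0),
    ([], 0, 0),
    ([], 0, 0),
    ([], 0, 0),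
    ([], 0, 0),
    ([], 0, 0),
    ([14,14,15,9,15,13,11,13,10,10,18,9,18,14,14], 12, 2),
    ([], 0, 0),
    ([], 0, 0),
    ([], 0, 0),
    ([], 0, 0),
    ([], 0, 0),
    ([], 0, 0),
    ([], 0, 0),
    ([], 0, 0),
    ([], 0, 0),
    ([], 0, 0),
    ([], 0, 0),
    ([], 0, 0),
    ([], 0, 0)]

/-- Certificates for the elements over the representative 3. -/
def cand3 : List (List ℕ × ℕ × ℕ) :=
  [
    ([], 6, 1),
    ([], 0, 0),
    ([18,19,19], 6, 1),
    ([19], 6, 1),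
    ([], 0, 0),
    ([21], 6, 1),
    ([22], 6, 1),
    ([], 0, 0),
    ([], 0, 0),
    ([], 0, 0),
    ([], 0, 0),
    ([], 0, 0),
    ([], 0, 0),
    ([19,18,18], 6, 1),
    ([18], 6, 1),
    ([], 0, 0),
    ([18,21,10], 6, 1),
    ([18,22,19,19], 6, 1),
    ([19,19], 6, 1),
    ([], 0, 0),
    ([19,21], 6, 1),
    ([19,22], 6, 1),
    ([], 0, 0),
    ([], 0, 0),
    ([], 0, 0),
    ([21,21], 6, 1),
    ([21,22], 6, 1),
    ([22,22], 6, 1),
    ([], 0, 0),
    ([], 0, 0),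
    ([], 0, 0),
    ([], 0, 0),
    ([], 0, 0),
    ([], 0, 0),
    ([], 0, 0),
    ([], 0, 0),
    ([], 0, 0),
    ([], 0, 0),
    ([], 0, 0),
    ([], 0, 0),
    ([], 0, 0),
    ([], 0, 0),
    ([], 0, 0),
    ([], 0, 0),
    ([], 0, 0),
    ([], 0, 0),
    ([], 0, 0),
    ([], 0, 0),
    ([18,18,19,19], 6, 1),
    ([], 0, 0),
    ([19,21,18,18], 6, 1),
    ([19,22,18,18], 6, 1),
    ([18,19], 6, 1),
    ([], 0, 0),
    ([18,21], 6, 1),
    ([18,22], 6, 1),
    ([], 0, 0),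
    ([], 0, 0),
    ([], 0, 0),
    ([18,21,10,21], 6, 1),
    ([18,21,17,10,17], 6, 1),
    ([18,17,19,19], 6, 1),
    ([], 0, 0),
    ([21,10], 6, 1),
    ([22,19,19], 6, 1),
    ([], 0, 0),
    ([], 0, 0),
    ([], 0, 0),
    ([19,21,21], 6, 1),
    ([19,21,22], 6, 1),
    ([19,22,22], 6, 1),
    ([], 0, 0),
    ([], 0, 0),
    ([], 0, 0),
    ([], 0, 0),
    ([], 0, 0),
    ([22,21,21], 6, 1),
    ([21,22,22], 6, 1),
    ([], 0, 0),
    ([], 0, 0),
    ([], 0, 0),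
    ([], 0, 0),
    ([], 0, 0),
    ([], 0, 0),
    ([], 0, 0),
    ([], 0, 0),
    ([], 0, 0),
    ([], 0, 0),
    ([], 0, 0),
    ([], 0, 0),
    ([], 0, 0),
    ([], 0, 0),
    ([], 0, 0),
    ([], 0, 0),
    ([], 0, 0),
    ([], 0, 0),
    ([], 0, 0),
    ([], 0, 0),
    ([], 0, 0),
    ([], 0, 0),
    ([], 0, 0),
    ([], 0, 0),
    ([], 0, 0),
    ([], 0, 0),
    ([], 0, 0),
    ([], 0, 0),
    ([], 0, 0),
    ([], 0, 0),
    ([], 0, 0),
    ([], 0, 0),
    ([], 0, 0),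
    ([], 0, 0),
    ([], 0, 0),
    ([], 0, 0),
    ([], 0, 0),
    ([], 0, 0),
    ([], 0, 0),
    ([], 0, 0),
    ([], 0, 0),
    ([], 0, 0),
    ([], 0, 0),
    ([], 0, 0),
    ([], 0, 0),
    ([18,18], 6, 1),
    ([], 0, 0),
    ([21,18,10,18], 6, 1),
    ([22,18,18,19,19], 6, 1),
    ([], 0, 0),
    ([], 0, 0),
    ([], 0, 0),
    ([21,21,18,10,18], 6, 1),
    ([12,21,12,10,12,18,10,18], 6, 1),
    ([18,14,14,1,22,1], 6, 2),
    ([], 0, 0),
    ([18,19,21], 6, 1),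
    ([18,19,22], 6, 1),
    ([], 0, 0),
    ([], 0, 0),
    ([], 0, 0),
    ([18,21,21], 6, 1),
    ([18,21,22], 6, 1),
    ([18,17], 6, 1),
    ([], 0, 0),
    ([], 0, 0),
    ([], 0, 0),
    ([], 0, 0),
    ([], 0, 0),
    ([18,22,21,10,21], 6, 1),
    ([18,21,22,10,22], 6, 1),
    ([], 0, 0),
    ([], 0, 0),
    ([], 0, 0),
    ([21,10,21], 6, 1),
    ([12,21,12,10,12], 6, 1),
    ([19,19,22,22], 6, 1),
    ([], 0, 0),
    ([], 0, 0),
    ([], 0, 0),
    ([], 0, 0),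
    ([], 0, 0),
    ([19,22,21,21], 6, 1),
    ([19,21,22,22], 6, 1),
    ([], 0, 0),
    ([], 0, 0),
    ([], 0, 0),
    ([], 0, 0),
    ([], 0, 0),
    ([21,21,22,22], 6, 1),
    ([], 0, 0),
    ([], 0, 0),
    ([], 0, 0),
    ([], 0, 0),
    ([], 0, 0),
    ([], 0, 0),
    ([], 0, 0),
    ([], 0, 0),
    ([], 0, 0),
    ([], 0, 0),
    ([], 0, 0),
    ([], 0, 0),
    ([], 0, 0),
    ([], 0, 0),
    ([], 0, 0),
    ([], 0, 0),
    ([], 0, 0),
    ([], 0, 0),
    ([], 0, 0),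
    ([], 0, 0),
    ([], 0, 0),
    ([], 0, 0),
    ([], 0, 0),
    ([], 0, 0),
    ([], 0, 0),
    ([], 0, 0),
    ([], 0, 0),
    ([], 0, 0),
    ([], 0, 0),
    ([], 0, 0),
    ([], 0, 0),
    ([], 0, 0),
    ([], 0, 0),
    ([], 0, 0),
    ([], 0, 0),
    ([], 0, 0),
    ([], 0, 0),
    ([], 0, 0),
    ([], 0, 0),
    ([], 0, 0),
    ([], 0, 0),
    ([], 0, 0),
    ([], 0, 0),
    ([], 0, 0),
    ([], 0, 0),
    ([], 0, 0),
    ([], 0, 0),
    ([], 0, 0),
    ([], 0, 0),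
    ([], 0, 0),
    ([], 0, 0),
    ([], 0, 0),
    ([], 0, 0),
    ([], 0, 0),
    ([], 0, 0),
    ([], 0, 0),
    ([], 0, 0),
    ([], 0, 0),
    ([], 0, 0),
    ([], 0, 0),
    ([], 0, 0),
    ([], 0, 0),
    ([], 0, 0),
    ([], 0, 0),
    ([], 0, 0),
    ([], 0, 0),
    ([], 0, 0),
    ([], 0, 0),
    ([], 0, 0),
    ([], 0, 0),
    ([], 0, 0),
    ([], 0, 0),
    ([], 0, 0),
    ([], 0, 0),
    ([], 0, 0),
    ([], 0, 0),
    ([21,18,18], 6, 1),
    ([22,18,18], 6, 1),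
    ([], 0, 0),
    ([], 0, 0),
    ([], 0, 0),
    ([18,18,21,10,21], 6, 1),
    ([21,22,18,10,18], 6, 1),
    ([18,18,17,17,19,19], 6, 1),
    ([], 0, 0),
    ([], 0, 0),
    ([], 0, 0),
    ([], 0, 0),
    ([], 0, 0),
    ([22,21,21,18,10,18], 6, 1),
    ([21,18,10,18,17,10,17], 6, 1),
    ([], 0, 0),
    ([], 0, 0),
    ([], 0, 0),
    ([18,19,21,21], 6, 1),
    ([16,18,17,10,17,16,10,16], 6, 1),
    ([18,17,19], 6, 1),
    ([], 0, 0),
    ([], 0, 0),
    ([], 0, 0),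
    ([], 0, 0),
    ([], 0, 0),
    ([18,22,21,21], 6, 1),
    ([18,17,21], 6, 1),
    ([], 0, 0),
    ([], 0, 0),
    ([], 0, 0),
    ([], 0, 0),
    ([], 0, 0),
    ([18,17,21,10,21], 6, 1),
    ([], 0, 0),
    ([], 0, 0),
    ([], 0, 0),
    ([], 0, 0),
    ([], 0, 0),
    ([22,21,10,21], 6, 1),
    ([21,22,10,22], 6, 1),
    ([], 0, 0),
    ([], 0, 0),
    ([], 0, 0),
    ([], 0, 0),
    ([], 0, 0),
    ([21,21,22,10,22], 6, 1),
    ([], 0, 0),
    ([], 0, 0),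
    ([], 0, 0),
    ([], 0, 0),
    ([], 0, 0),
    ([], 0, 0),
    ([], 0, 0),
    ([], 0, 0),
    ([], 0, 0),
    ([], 0, 0),
    ([], 0, 0),
    ([], 0, 0),
    ([], 0, 0),
    ([], 0, 0),
    ([], 0, 0),
    ([], 0, 0),
    ([], 0, 0),
    ([], 0, 0),
    ([], 0, 0),
    ([], 0, 0),
    ([], 0, 0),
    ([], 0, 0),
    ([], 0, 0),
    ([], 0, 0),
    ([], 0, 0),
    ([], 0, 0),
    ([], 0, 0),
    ([], 0, 0),
    ([], 0, 0),
    ([], 0, 0),
    ([], 0, 0),
    ([], 0, 0),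
    ([], 0, 0),
    ([], 0, 0),
    ([], 0, 0),
    ([], 0, 0),
    ([], 0, 0),
    ([], 0, 0),
    ([], 0, 0),
    ([], 0, 0),
    ([], 0, 0),
    ([], 0, 0),
    ([], 0, 0),
    ([], 0, 0),
    ([], 0, 0),
    ([], 0, 0),
    ([], 0, 0),
    ([], 0, 0),
    ([], 0, 0),
    ([], 0, 0),
    ([], 0, 0),
    ([], 0, 0),
    ([], 0, 0),
    ([], 0, 0),
    ([], 0, 0),
    ([], 0, 0),
    ([], 0, 0),
    ([], 0, 0),
    ([], 0, 0),
    ([], 0, 0),
    ([], 0, 0),
    ([], 0, 0),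
    ([], 0, 0),
    ([], 0, 0),
    ([], 0, 0),
    ([], 0, 0),
    ([], 0, 0),
    ([], 0, 0),
    ([], 0, 0),
    ([], 0, 0),
    ([], 0, 0),
    ([], 0, 0),
    ([], 0, 0),
    ([], 0, 0),
    ([], 0, 0),
    ([], 0, 0),
    ([], 0, 0),
    ([], 0, 0),
    ([], 0, 0),
    ([], 0, 0),
    ([], 0, 0),
    ([], 0, 0),
    ([], 0, 0),
    ([], 0, 0),
    ([], 0, 0),
    ([], 0, 0),
    ([], 0, 0),
    ([], 0, 0),
    ([], 0, 0),
    ([], 0, 0),
    ([], 0, 0),
    ([], 0, 0),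
    ([], 0, 0),
    ([], 0, 0),
    ([], 0, 0),
    ([], 0, 0),
    ([], 0, 0),
    ([], 0, 0),
    ([], 0, 0),
    ([], 0, 0),
    ([], 0, 0),
    ([], 0, 0),
    ([18,18,21,21], 6, 1),
    ([18,2,21,2,11,12,11], 6, 2),
    ([18,18,17,17], 6, 1),
    ([], 0, 0),
    ([], 0, 0),
    ([], 0, 0),
    ([], 0, 0),
    ([], 0, 0),
    ([22,18,18,21,10,21], 6, 1),
    ([21,18,18,17,10,17], 6, 1),
    ([], 0, 0),
    ([], 0, 0),
    ([], 0, 0),
    ([], 0, 0),
    ([], 0, 0),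
    ([18,18,21,21,17,10,17], 6, 1),
    ([], 0, 0),
    ([], 0, 0),
    ([], 0, 0),
    ([], 0, 0),
    ([], 0, 0),
    ([18,21,21,17,10,17], 6, 1),
    ([12,21,21,18,10,18,1,22,1], 6, 2),
    ([], 0, 0),
    ([], 0, 0),
    ([], 0, 0),
    ([], 0, 0),
    ([], 0, 0),
    ([18,17,21,21], 6, 1),
    ([], 0, 0),
    ([], 0, 0),
    ([], 0, 0),
    ([], 0, 0),
    ([], 0, 0),
    ([], 0, 0),
    ([], 0, 0),
    ([], 0, 0),
    ([22,22,21,10,21], 6, 1),
    ([], 0, 0),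
    ([], 0, 0),
    ([], 0, 0),
    ([], 0, 0),
    ([], 0, 0),
    ([], 0, 0),
    ([], 0, 0),
    ([], 0, 0),
    ([], 0, 0),
    ([], 0, 0),
    ([], 0, 0),
    ([], 0, 0),
    ([], 0, 0),
    ([], 0, 0),
    ([], 0, 0),
    ([], 0, 0),
    ([], 0, 0),
    ([], 0, 0),
    ([], 0, 0),
    ([], 0, 0),
    ([], 0, 0),
    ([], 0, 0),
    ([], 0, 0),
    ([], 0, 0),
    ([], 0, 0),
    ([], 0, 0),
    ([], 0, 0),
    ([], 0, 0),
    ([], 0, 0),
    ([], 0, 0),
    ([], 0, 0),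
    ([], 0, 0),
    ([], 0, 0),
    ([], 0, 0),
    ([], 0, 0),
    ([], 0, 0),
    ([], 0, 0),
    ([], 0, 0),
    ([], 0, 0),
    ([], 0, 0),
    ([], 0, 0),
    ([], 0, 0),
    ([], 0, 0),
    ([], 0, 0),
    ([], 0, 0),
    ([], 0, 0),
    ([], 0, 0),
    ([], 0, 0),
    ([], 0, 0),
    ([], 0, 0),
    ([], 0, 0),
    ([], 0, 0),
    ([], 0, 0),
    ([], 0, 0),
    ([], 0, 0),
    ([], 0, 0),
    ([], 0, 0),
    ([], 0, 0),
    ([], 0, 0),
    ([], 0, 0),
    ([], 0, 0),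
    ([], 0, 0),
    ([], 0, 0),
    ([], 0, 0),
    ([], 0, 0),
    ([], 0, 0),
    ([], 0, 0),
    ([], 0, 0),
    ([], 0, 0),
    ([], 0, 0),
    ([], 0, 0),
    ([], 0, 0),
    ([], 0, 0),
    ([], 0, 0),
    ([], 0, 0),
    ([], 0, 0),
    ([], 0, 0),
    ([], 0, 0),
    ([], 0, 0),
    ([], 0, 0),
    ([], 0, 0),
    ([], 0, 0),
    ([], 0, 0),
    ([], 0, 0),
    ([], 0, 0),
    ([], 0, 0),
    ([], 0, 0),
    ([], 0, 0),
    ([], 0, 0),
    ([], 0, 0),
    ([], 0, 0),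
    ([], 0, 0),
    ([], 0, 0),
    ([], 0, 0),
    ([], 0, 0),
    ([], 0, 0),
    ([], 0, 0),
    ([], 0, 0),
    ([], 0, 0),
    ([], 0, 0),
    ([], 0, 0),
    ([], 0, 0),
    ([], 0, 0),
    ([], 0, 0),
    ([], 0, 0),
    ([22,18,18,21,21], 6, 1),
    ([21,18,18,17,17], 6, 1),
    ([], 0, 0),
    ([], 0, 0),
    ([], 0, 0),
    ([], 0, 0),
    ([], 0, 0),
    ([18,18,17,17,21,10,21], 6, 1),
    ([], 0, 0),
    ([], 0, 0),
    ([], 0, 0),
    ([], 0, 0),
    ([], 0, 0),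
    ([], 0, 0),
    ([], 0, 0),
    ([], 0, 0),
    ([18,21,21,22,10,22], 6, 1),
    ([], 0, 0),
    ([], 0, 0),
    ([], 0, 0),
    ([], 0, 0),
    ([], 0, 0),
    ([], 0, 0),
    ([], 0, 0),
    ([], 0, 0),
    ([], 0, 0),
    ([], 0, 0),
    ([], 0, 0),
    ([], 0, 0),
    ([], 0, 0),
    ([], 0, 0),
    ([], 0, 0),
    ([], 0, 0),
    ([], 0, 0),
    ([], 0, 0),
    ([], 0, 0),
    ([], 0, 0),
    ([], 0, 0),
    ([], 0, 0),
    ([], 0, 0),
    ([], 0, 0),
    ([], 0, 0),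
    ([], 0, 0),
    ([], 0, 0),
    ([], 0, 0),
    ([], 0, 0),
    ([], 0, 0),
    ([], 0, 0),
    ([], 0, 0),
    ([], 0, 0),
    ([], 0, 0),
    ([], 0, 0),
    ([], 0, 0),
    ([], 0, 0),
    ([], 0, 0),
    ([], 0, 0),
    ([], 0, 0),
    ([], 0, 0),
    ([], 0, 0),
    ([], 0, 0),
    ([], 0, 0),
    ([], 0, 0),
    ([], 0, 0),
    ([], 0, 0),
    ([], 0, 0),
    ([], 0, 0),
    ([], 0, 0),
    ([], 0, 0),
    ([], 0, 0),
    ([], 0, 0),
    ([], 0, 0),
    ([], 0, 0),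
    ([], 0, 0),
    ([], 0, 0),
    ([], 0, 0),
    ([], 0, 0),
    ([], 0, 0),
    ([], 0, 0),
    ([], 0, 0),
    ([], 0, 0),
    ([], 0, 0),
    ([], 0, 0),
    ([], 0, 0),
    ([], 0, 0),
    ([], 0, 0),
    ([], 0, 0),
    ([], 0, 0),
    ([], 0, 0),
    ([], 0, 0),
    ([], 0, 0),
    ([], 0, 0),
    ([], 0, 0),
    ([], 0, 0),
    ([], 0, 0),
    ([], 0, 0),
    ([], 0, 0),
    ([], 0, 0),
    ([], 0, 0),
    ([], 0, 0),
    ([], 0, 0),
    ([], 0, 0),
    ([], 0, 0),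
    ([], 0, 0),
    ([], 0, 0),
    ([], 0, 0),
    ([18,18,17,17,21,21], 6, 1),
    ([], 0, 0),
    ([], 0, 0),
    ([], 0, 0),
    ([], 0, 0),
    ([], 0, 0),
    ([], 0, 0),
    ([], 0, 0),
    ([], 0, 0),
    ([], 0, 0),
    ([], 0, 0),
    ([], 0, 0),
    ([], 0, 0),
    ([], 0, 0),
    ([], 0, 0),
    ([], 0, 0),
    ([], 0, 0),
    ([], 0, 0),
    ([], 0, 0),
    ([], 0, 0),
    ([], 0, 0),
    ([], 0, 0),
    ([], 0, 0),
    ([], 0, 0),
    ([], 0, 0),
    ([], 0, 0),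
    ([], 0, 0),
    ([], 0, 0),
    ([], 0, 0),
    ([], 0, 0),
    ([], 0, 0),
    ([], 0, 0),
    ([], 0, 0),
    ([], 0, 0),
    ([], 0, 0),
    ([], 0, 0),
    ([], 0, 0),
    ([], 0, 0),
    ([], 0, 0),
    ([], 0, 0),
    ([], 0, 0),
    ([], 0, 0),
    ([], 0, 0),
    ([], 0, 0),
    ([], 0, 0),
    ([], 0, 0),
    ([], 0, 0),
    ([], 0, 0),
    ([], 0, 0),
    ([], 0, 0),
    ([], 0, 0),
    ([], 0, 0),
    ([], 0, 0),
    ([], 0, 0),
    ([], 0, 0),
    ([], 0, 0),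
    ([], 0, 0),
    ([], 0, 0),
    ([], 0, 0),
    ([], 0, 0),
    ([], 0, 0),
    ([], 0, 0),
    ([], 0, 0),
    ([], 0, 0),
    ([], 0, 0),
    ([], 0, 0),
    ([], 0, 0),
    ([], 0, 0),
    ([], 0, 0),
    ([], 0, 0),
    ([], 0, 0),
    ([], 0, 0),
    ([], 0, 0),
    ([], 0, 0),
    ([], 0, 0),
    ([], 0, 0),
    ([], 0, 0),
    ([], 0, 0),
    ([], 0, 0),
    ([], 0, 0),
    ([], 0, 0),
    ([], 0, 0),
    ([], 0, 0),
    ([], 0, 0),
    ([], 0, 0),
    ([], 0, 0),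
    ([], 0, 0),
    ([], 0, 0)]

/-- Certificates for the elements over the representative 4. -/
def cand4 : List (List ℕ × ℕ × ℕ) :=
  [
    ([], 7, 1),
    ([], 0, 0),
    ([21,5,21,14,2,14,18], 6, 1),
    ([], 9, 1),
    ([], 10, 1),
    ([16,21,2,2], 6, 1),
    ([19], 7, 1),
    ([], 0, 0),
    ([], 0, 0),
    ([], 0, 0),
    ([], 0, 0),
    ([], 0, 0),
    ([], 0, 0),
    ([16,21,2,2,5,18,5], 6, 2),
    ([19,21,5,21,12,2,12,18], 6, 1),
    ([21,5,21,14,2,14,18,13,11,13], 6, 1),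
    ([18,14], 7, 1),
    ([21,21,16,2,16,18], 6, 1),
    ([12,10,12,13,11,13], 10, 1),
    ([22,22,5,18,5,16,10,16,18,2,18,13,11,13], 6, 2),
    ([2,21,2,19,5,19,22,2,22], 6, 1),
    ([16], 9, 1),
    ([13,11,13,12,10,12], 9, 1),
    ([21,21,16,2,16,13,11,13,1,22,1], 6, 2),
    ([15], 10, 1),
    ([21,21,16,2,16], 6, 1),
    ([16,2,21,2,14,2,14], 6, 1),
    ([19,19], 7, 1),
    ([], 0, 0),
    ([], 0, 0),
    ([], 0, 0),
    ([], 0, 0),
    ([], 0, 0),
    ([], 0, 0),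
    ([], 0, 0),
    ([], 0, 0),
    ([], 0, 0),
    ([], 0, 0),
    ([], 0, 0),
    ([], 0, 0),
    ([], 0, 0),
    ([], 0, 0),
    ([], 0, 0),
    ([], 0, 0),
    ([], 0, 0),
    ([], 0, 0),
    ([], 0, 0),
    ([], 0, 0),
    ([21,21,16,2,16,12,10,12,13,11,13], 6, 1),
    ([21,21,16,2,16,13,11,13,12,10,12], 6, 1),
    ([21,10,21,16,2,16,18,10,18], 6, 1),
    ([21,2,2,22,5,22,18,18], 6, 1),
    ([22,21,10,21,16,2,16,18], 6, 1),
    ([14,14,12,9,12,13,5,13], 12, 1),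
    ([18,14], 9, 1),
    ([21,21,16,2,16,18,12,10,12], 6, 1),
    ([16,21,2,2,13,11,13,12,10,12], 6, 1),
    ([18,14], 10, 1),
    ([21,21,16,2,16,18,13,11,13], 6, 1),
    ([14,18,16,5,16,18,2,18], 6, 2),
    ([18], 7, 1),
    ([12,21,5,21,14,2,14,18], 6, 1),
    ([9,14,14,16,9,16,5,5,18,10,18], 12, 2),
    ([2,21,2,19,2,19,12,5,12], 6, 1),
    ([15,12,10,12,13,11,13], 10, 1),
    ([9,14,14,15,9,15,5,5,18,11,18], 12, 2),
    ([14,14,12,9,12,13,5,13,12,10,12], 12, 1),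
    ([2,21,2,19,5,19,22,2,22,18,13,11,13], 6, 1),
    ([21,21,16,2,16,12,10,12], 6, 1),
    ([12,2,21,2,19,5,19,22,2,22], 6, 1),
    ([16,16], 9, 1),
    ([16,21,2,2,13,11,13], 6, 1),
    ([16,13,11,13,12,10,12], 9, 1),
    ([21,21,16,2,16,13,11,13], 6, 1),
    ([21,21,16,2,16,13,11,13,7,16,7], 6, 2),
    ([15,15], 10, 1),
    ([12,21,5,21,14,2,14], 6, 1),
    ([21,2,2,22,5,22], 6, 1),
    ([], 0, 0),
    ([], 0, 0),
    ([], 0, 0),
    ([], 0, 0),
    ([], 0, 0),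
    ([], 0, 0),
    ([], 0, 0),
    ([], 0, 0),
    ([], 0, 0),
    ([], 0, 0),
    ([], 0, 0),
    ([], 0, 0),
    ([], 0, 0),
    ([], 0, 0),
    ([], 0, 0),
    ([], 0, 0),
    ([], 0, 0),
    ([], 0, 0),
    ([], 0, 0),
    ([], 0, 0),
    ([], 0, 0),
    ([], 0, 0),
    ([], 0, 0),
    ([], 0, 0),
    ([], 0, 0),
    ([], 0, 0),
    ([], 0, 0),
    ([], 0, 0),
    ([], 0, 0),
    ([], 0, 0),
    ([], 0, 0),
    ([], 0, 0),
    ([], 0, 0),
    ([], 0, 0),
    ([], 0, 0),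
    ([], 0, 0),
    ([], 0, 0),
    ([], 0, 0),
    ([], 0, 0),
    ([], 0, 0),
    ([], 0, 0),
    ([], 0, 0),
    ([], 0, 0),
    ([], 0, 0),
    ([], 0, 0),
    ([2,21,2,12,2,12,14,5,14,18,10,18], 6, 1),
    ([15,14,14,16,9,16,18,5,18], 12, 1),
    ([14,21,5,21,12,2,12,18,10,18], 6, 1),
    ([21,21,22,10,22,16,2,16,13,11,13], 6, 1),
    ([2,21,2,14,2,14,13,5,13,18,11,18], 6, 1),
    ([21,10,21,16,2,16,18,10,18,13,11,13], 6, 1),
    ([12,21,5,21,14,2,14,13,11,13,12,10,12], 6, 1),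
    ([19,18,18], 7, 1),
    ([21,21,16,2,16,5,18,5], 6, 2),
    ([16,21,2,2,18,18], 6, 1),
    ([12,2,21,2,18,10,18], 10, 1),
    ([18,14,12,10,12,13,11,13], 10, 1),
    ([16,21,10,21,22,2,22,18], 6, 1),
    ([13,3,20,3,18,11,18], 9, 1),
    ([19,21,5,21,12,2,12,13,12,11,12], 6, 2),
    ([14,9,12,9,12,13,5,13], 12, 2),
    ([22,22,5,18,5,16,10,16,18,2,18], 6, 2),
    ([18], 9, 1),
    ([21,21,22,10,22,16,2,16,18], 6, 1),
    ([18,14,13,11,13,12,10,12], 9, 1),
    ([16,2,21,2,14,2,14,13,11,13,12,10,12], 6, 1),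
    ([21,21,16,2,16,13,13,18,11,18,9,14,9], 6, 1),
    ([18], 10, 1),
    ([12,21,5,21,14,2,14,18,13,11,13], 6, 1),
    ([12,18,16,5,16,18,2,18], 6, 2),
    ([18,19], 7, 1),
    ([19,21,5,21,22,2,22,18,10,18,13,11,13], 6, 1),
    ([12,16,10,16,18,10,18], 10, 1),
    ([14,14,16,9,16,18,5,18,18,10,18], 12, 1),
    ([16,21,10,21,22,2,22], 6, 1),
    ([2,21,2,22,5,22,19,2,19], 6, 1),
    ([12,12,15,10,15,13,11,13], 10, 1),
    ([13,15,11,15,18,11,18], 9, 1),
    ([14,14,15,9,15,18,5,18,18,11,18], 12, 1),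
    ([14,14,12,9,12,13,5,13,5,18,5], 12, 2),
    ([14,14,15,9,15,13,5,13,14,10,14], 12, 1),
    ([1,22,1,5,18,5,16,10,16,18,2,18,13,11,13], 6, 1),
    ([21,21,22,10,22,16,2,16], 6, 1),
    ([14,2,21,2,19,5,19,22,2,22], 6, 1),
    ([13,13,21,5,21,13,2,13,11,11], 6, 1),
    ([16,2,21,2,14,2,14,13,11,13], 6, 1),
    ([13,13,15,11,15,12,10,12], 9, 1),
    ([12,21,5,21,14,2,14,13,11,13], 6, 1),
    ([21,5,21,14,2,14,13,11,13,1,22,1], 6, 2),
    ([21,5,21,14,2,14], 6, 1),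
    ([], 0, 0),
    ([], 0, 0),
    ([], 0, 0),
    ([], 0, 0),
    ([], 0, 0),
    ([], 0, 0),
    ([], 0, 0),
    ([], 0, 0),
    ([], 0, 0),
    ([], 0, 0),
    ([], 0, 0),
    ([], 0, 0),
    ([], 0, 0),
    ([], 0, 0),
    ([], 0, 0),
    ([], 0, 0),
    ([], 0, 0),
    ([], 0, 0),
    ([], 0, 0),
    ([], 0, 0),
    ([], 0, 0),
    ([], 0, 0),
    ([], 0, 0),
    ([], 0, 0),
    ([], 0, 0),
    ([], 0, 0),
    ([], 0, 0),
    ([], 0, 0),
    ([], 0, 0),
    ([], 0, 0),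
    ([], 0, 0),
    ([], 0, 0),
    ([], 0, 0),
    ([], 0, 0),
    ([], 0, 0),
    ([], 0, 0),
    ([], 0, 0),
    ([], 0, 0),
    ([], 0, 0),
    ([], 0, 0),
    ([], 0, 0),
    ([], 0, 0),
    ([], 0, 0),
    ([], 0, 0),
    ([], 0, 0),
    ([], 0, 0),
    ([], 0, 0),
    ([], 0, 0),
    ([], 0, 0),
    ([], 0, 0),
    ([], 0, 0),
    ([], 0, 0),
    ([], 0, 0),
    ([], 0, 0),
    ([], 0, 0),
    ([], 0, 0),
    ([], 0, 0),
    ([], 0, 0),
    ([], 0, 0),
    ([], 0, 0),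
    ([], 0, 0),
    ([], 0, 0),
    ([], 0, 0),
    ([], 0, 0),
    ([], 0, 0),
    ([], 0, 0),
    ([], 0, 0),
    ([], 0, 0),
    ([], 0, 0),
    ([], 0, 0),
    ([], 0, 0),
    ([], 0, 0),
    ([], 0, 0),
    ([], 0, 0),
    ([], 0, 0),
    ([12,12,18,10,18,1,22,1], 10, 2),
    ([19,21,5,21,22,2,22,18,10,18], 6, 1),
    ([2,21,2,12,2,12,22,5,22,18,10,18], 6, 1),
    ([13,13,18,11,18,1,22,1], 9, 2),
    ([9,14,14,12,9,12,13,5,13,18], 12, 1),
    ([14,14,12,9,12,13,5,13,1,22,1], 12, 2),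
    ([16,18,18], 9, 1),
    ([12,21,5,21,12,2,12,18,10,18], 6, 1),
    ([19,21,5,21,12,2,12,13,11,13], 6, 1),
    ([18,16,5,16,18,2,18,13,11,13,6,17,6], 6, 2),
    ([12,2,21,2,14,2,14,13,5,13,18,11,18], 6, 1),
    ([15,18,18], 10, 1),
    ([21,21,16,2,16,5,18,5,13,11,13], 6, 2),
    ([21,5,21,14,2,14,13,11,13,12,10,12], 6, 1),
    ([18,1,22,1], 7, 2),
    ([21,21,16,2,16,18,18], 6, 1),
    ([14,9,9,10,11,11,13,5,13], 12, 1),
    ([14,14,16,9,16,10,5,5], 12, 2),
    ([12,1,22,1,18,10,18], 10, 2),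
    ([2,21,2,12,5,12,19,2,19,18], 6, 1),
    ([18,12,10,12,13,11,13], 10, 1),
    ([2,21,2,12,5,12,19,2,19,13,11,13], 6, 1),
    ([14,14,15,9,15,11,5,5], 12, 2),
    ([13,1,22,1,18,11,18], 9, 2),
    ([14,15,4,19,4,13,9,13,13,5,13], 12, 2),
    ([19,2,21,2,22,2,22,13,5,13,18,11,18], 6, 1),
    ([9,14,14,12,9,12,13,5,13], 12, 1),
    ([2,21,2,19,5,19,22,2,22,18], 6, 1),
    ([16,18], 9, 1),
    ([14,18,16,5,16,18,2,18,13,11,13], 6, 2),
    ([18,13,11,13,12,10,12], 9, 1),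
    ([21,2,2,13,5,13,15,11,15,12,10,12], 6, 1),
    ([18,16,5,16,18,2,18,13,12,11,12], 6, 1),
    ([15,18], 10, 1),
    ([18,16,5,16,18,2,18], 6, 2),
    ([14,9,9,5,10,11], 12, 1),
    ([16,21,10,21,22,2,22,5,18,5,13,11,13], 6, 2),
    ([18,14,12,10,12], 10, 1),
    ([12,14,10,14,18,10,18], 10, 1),
    ([14,14,16,9,16,5,5,18,10,18], 12, 2),
    ([19,5,19,21,5,21,22,2,22], 6, 1),
    ([2,21,2,12,5,12,19,2,19], 6, 1),
    ([18,14,13,11,13], 9, 1),
    ([13,14,11,14,18,11,18], 9, 1),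
    ([14,14,15,9,15,5,5,18,11,18], 12, 2),
    ([9,14,14,12,9,12,13,5,13,18,18], 12, 1),
    ([14,14,15,9,15,13,5,13,15,10,15], 12, 1),
    ([19,21,5,21,12,2,12], 6, 1),
    ([12,21,5,21,14,2,14,13,11,11], 6, 1),
    ([21,2,2,13,5,13,15,11,15], 6, 1),
    ([21,5,21,14,2,14,13,11,13], 6, 1),
    ([], 0, 0),
    ([], 0, 0),
    ([], 0, 0),
    ([], 0, 0),
    ([], 0, 0),
    ([], 0, 0),
    ([], 0, 0),
    ([], 0, 0),
    ([], 0, 0),
    ([], 0, 0),
    ([], 0, 0),
    ([], 0, 0),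
    ([], 0, 0),
    ([], 0, 0),
    ([], 0, 0),
    ([], 0, 0),
    ([], 0, 0),
    ([], 0, 0),
    ([], 0, 0),
    ([], 0, 0),
    ([], 0, 0),
    ([], 0, 0),
    ([], 0, 0),
    ([], 0, 0),
    ([], 0, 0),
    ([], 0, 0),
    ([], 0, 0),
    ([], 0, 0),
    ([], 0, 0),
    ([], 0, 0),
    ([], 0, 0),
    ([], 0, 0),
    ([], 0, 0),
    ([], 0, 0),
    ([], 0, 0),
    ([], 0, 0),
    ([], 0, 0),
    ([], 0, 0),
    ([], 0, 0),
    ([], 0, 0),
    ([], 0, 0),
    ([], 0, 0),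
    ([], 0, 0),
    ([], 0, 0),
    ([], 0, 0),
    ([], 0, 0),
    ([], 0, 0),
    ([], 0, 0),
    ([], 0, 0),
    ([], 0, 0),
    ([], 0, 0),
    ([], 0, 0),
    ([], 0, 0),
    ([], 0, 0),
    ([], 0, 0),
    ([], 0, 0),
    ([], 0, 0),
    ([], 0, 0),
    ([], 0, 0),
    ([], 0, 0),
    ([], 0, 0),
    ([], 0, 0),
    ([], 0, 0),
    ([], 0, 0),
    ([], 0, 0),
    ([], 0, 0),
    ([], 0, 0),
    ([], 0, 0),
    ([], 0, 0),
    ([], 0, 0),
    ([], 0, 0),
    ([], 0, 0),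
    ([], 0, 0),
    ([], 0, 0),
    ([], 0, 0),
    ([], 0, 0),
    ([], 0, 0),
    ([], 0, 0),
    ([], 0, 0),
    ([], 0, 0),
    ([], 0, 0),
    ([], 0, 0),
    ([], 0, 0),
    ([], 0, 0),
    ([], 0, 0),
    ([], 0, 0),
    ([], 0, 0),
    ([], 0, 0),
    ([], 0, 0),
    ([], 0, 0),
    ([], 0, 0),
    ([], 0, 0),
    ([], 0, 0),
    ([], 0, 0),
    ([], 0, 0),
    ([], 0, 0),
    ([14,9,9,5,14,10,14,18,11,18], 12, 1),
    ([12,10,12], 10, 1),
    ([12,18,10,10], 10, 1),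
    ([12,2,21,2,18,10,18,13,11,13], 10, 1),
    ([16,21,10,21,22,2,22,5,18,5], 6, 2),
    ([16,2,21,2,12,2,12,18,10,18], 6, 1),
    ([13,11,13], 9, 1),
    ([13,18,11,11], 9, 1),
    ([2,21,2,19,5,19,22,2,22,13,11,13], 6, 1),
    ([14,14,12,9,12,13,5,13,18], 12, 1),
    ([15,14,14,16,9,16,5,5], 12, 2),
    ([16,5,18,5], 9, 2),
    ([21,5,21,12,2,12,18,10,18], 6, 1),
    ([13,3,20,3,18,11,18,12,10,12], 9, 1),
    ([18,16,5,16,18,2,18,13,11,13,1,22,1], 6, 1),
    ([21,2,2,13,5,13,18,11,18], 6, 1),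
    ([15,5,18,5], 10, 2),
    ([21,21,16,2,16,13,13,18,11,18], 6, 1),
    ([18,18], 7, 1),
    ([16,21,10,21,22,2,22,13,11,13], 6, 1),
    ([14,9,9,10,12,11,12,13,5,13], 12, 2),
    ([12,10,10], 10, 1),
    ([14,14,16,9,16,5,5,14,10,14], 12, 2),
    ([12,12,18,10,18], 10, 1),
    ([18,16,5,16,17,10,17,18,2,18], 6, 2),
    ([15,18,12,10,12,13,11,13], 10, 1),
    ([13,11,11], 9, 1),
    ([14,14,15,9,15,5,5,14,11,14], 12, 2),
    ([13,13,18,11,18], 9, 1),
    ([14,15,4,19,4,16,9,16,14,5,14], 12, 2),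
    ([19,21,5,21,12,2,12,13,11,11], 6, 1),
    ([1,22,1,5,18,5,16,10,16,18,2,18], 6, 1),
    ([12,18,16,5,16,18,2,18,13,11,13], 6, 2),
    ([16,18,13,11,13,12,10,12], 9, 1),
    ([18,16,5,16,18,2,18,13,11,11], 6, 2),
    ([14,9,9,5,5,10,10,11,11], 12, 2),
    ([14,9,9,5,10,14,11,14], 12, 1),
    ([16,21,10,21,22,2,22,13,13,18,11,18], 6, 1),
    ([18,12,10,12], 10, 1),
    ([10,12,18,10,18], 10, 1),
    ([22,21,10,21,16,2,16], 6, 1),
    ([18,13,11,13], 9, 1),
    ([11,13,18,11,18], 9, 1),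
    ([14,14,12,9,12,13,5,13,18,18], 12, 1),
    ([13,13,21,5,21,13,2,13,12,11,12], 6, 2),
    ([], 0, 0),
    ([], 0, 0),
    ([], 0, 0),
    ([], 0, 0),
    ([], 0, 0),
    ([], 0, 0),
    ([], 0, 0),
    ([], 0, 0),
    ([], 0, 0),
    ([], 0, 0),
    ([], 0, 0),
    ([], 0, 0),
    ([], 0, 0),
    ([], 0, 0),
    ([], 0, 0),
    ([], 0, 0),
    ([], 0, 0),
    ([], 0, 0),
    ([], 0, 0),
    ([], 0, 0),
    ([], 0, 0),
    ([], 0, 0),
    ([], 0, 0),
    ([], 0, 0),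
    ([], 0, 0),
    ([], 0, 0),
    ([], 0, 0),
    ([], 0, 0),
    ([], 0, 0),
    ([], 0, 0),
    ([], 0, 0),
    ([], 0, 0),
    ([], 0, 0),
    ([], 0, 0),
    ([], 0, 0),
    ([], 0, 0),
    ([], 0, 0),
    ([], 0, 0),
    ([], 0, 0),
    ([], 0, 0),
    ([], 0, 0),
    ([], 0, 0),
    ([], 0, 0),
    ([], 0, 0),
    ([], 0, 0),
    ([], 0, 0),
    ([], 0, 0),
    ([], 0, 0),
    ([], 0, 0),
    ([], 0, 0),
    ([], 0, 0),
    ([], 0, 0),
    ([], 0, 0),
    ([], 0, 0),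
    ([], 0, 0),
    ([], 0, 0),
    ([], 0, 0),
    ([], 0, 0),
    ([], 0, 0),
    ([], 0, 0),
    ([], 0, 0),
    ([], 0, 0),
    ([], 0, 0),
    ([], 0, 0),
    ([], 0, 0),
    ([], 0, 0),
    ([], 0, 0),
    ([], 0, 0),
    ([], 0, 0),
    ([], 0, 0),
    ([], 0, 0),
    ([], 0, 0),
    ([], 0, 0),
    ([], 0, 0),
    ([], 0, 0),
    ([], 0, 0),
    ([], 0, 0),
    ([], 0, 0),
    ([], 0, 0),
    ([], 0, 0),
    ([], 0, 0),
    ([], 0, 0),
    ([], 0, 0),
    ([], 0, 0),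
    ([], 0, 0),
    ([], 0, 0),
    ([], 0, 0),
    ([], 0, 0),
    ([], 0, 0),
    ([], 0, 0),
    ([], 0, 0),
    ([], 0, 0),
    ([], 0, 0),
    ([], 0, 0),
    ([], 0, 0),
    ([], 0, 0),
    ([9,14,14,18,9,18,18,10,18,13,11,13,12,5,12], 12, 1),
    ([14,9,9,5,15,11,15,18,10,18], 12, 1),
    ([14,9,9,13,5,13,13,10,13], 12, 1),
    ([15,12,10,12], 10, 1),
    ([12,12,18,10,18,7,16,7], 10, 2),
    ([12,1,22,1,18,10,18,13,11,13], 10, 2),
    ([16,21,10,21,22,2,22,18,18], 6, 1),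
    ([14,9,9,12,5,12,12,11,12], 12, 1),
    ([16,13,11,13], 9, 1),
    ([13,13,18,11,18,8,15,8], 9, 2),
    ([12,2,21,2,19,5,19,22,2,22,13,11,13], 6, 1),
    ([14,14,18,9,18,12,5,12,13,5,13], 12, 2),
    ([18,18], 9, 1),
    ([13,1,22,1,18,11,18,12,10,12], 9, 2),
    ([18,16,5,16,18,2,18,13,11,13,7,16,7], 6, 1),
    ([18,18], 10, 1),
    ([14,9,9,15,11,15,18,10,18,5,5], 12, 2),
    ([19,5,19,21,5,21,22,2,22,13,11,13], 6, 1),
    ([14,9,9,10,10,15,11,15,12,5,12], 12, 1),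
    ([12,10,12,6,17,6], 10, 1),
    ([14,14,16,9,16,10,18,5,18], 12, 1),
    ([18,16,5,16,12,10,12,18,2,18], 6, 2),
    ([13,11,13,6,17,6], 9, 1),
    ([14,14,15,9,15,11,18,5,18], 12, 1),
    ([14,12,4,19,4,16,9,16,12,5,12], 12, 2),
    ([18,16,5,16,18,2,18,13,11,13], 6, 2),
    ([14,14,20,9,20,5,5,10,10,11,11], 12, 1),
    ([14,9,9,5,10,15,11,15], 12, 1),
    ([15,18,12,10,12], 10, 1),
    ([16,18,13,11,13], 9, 1),
    ([], 0, 0),
    ([], 0, 0),
    ([], 0, 0),
    ([], 0, 0),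
    ([], 0, 0),
    ([], 0, 0),
    ([], 0, 0),
    ([], 0, 0),
    ([], 0, 0),
    ([], 0, 0),
    ([], 0, 0),
    ([], 0, 0),
    ([], 0, 0),
    ([], 0, 0),
    ([], 0, 0),
    ([], 0, 0),
    ([], 0, 0),
    ([], 0, 0),
    ([], 0, 0),
    ([], 0, 0),
    ([], 0, 0),
    ([], 0, 0),
    ([], 0, 0),
    ([], 0, 0),
    ([], 0, 0),
    ([], 0, 0),
    ([], 0, 0),
    ([], 0, 0),
    ([], 0, 0),
    ([], 0, 0),
    ([], 0, 0),
    ([], 0, 0),
    ([], 0, 0),
    ([], 0, 0),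
    ([], 0, 0),
    ([], 0, 0),
    ([], 0, 0),
    ([], 0, 0),
    ([], 0, 0),
    ([], 0, 0),
    ([], 0, 0),
    ([], 0, 0),
    ([], 0, 0),
    ([], 0, 0),
    ([], 0, 0),
    ([], 0, 0),
    ([], 0, 0),
    ([], 0, 0),
    ([], 0, 0),
    ([], 0, 0),
    ([], 0, 0),
    ([], 0, 0),
    ([], 0, 0),
    ([], 0, 0),
    ([], 0, 0),
    ([], 0, 0),
    ([], 0, 0),
    ([], 0, 0),
    ([], 0, 0),
    ([], 0, 0),
    ([], 0, 0),
    ([], 0, 0),
    ([], 0, 0),
    ([], 0, 0),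
    ([], 0, 0),
    ([], 0, 0),
    ([], 0, 0),
    ([], 0, 0),
    ([], 0, 0),
    ([], 0, 0),
    ([], 0, 0),
    ([], 0, 0),
    ([], 0, 0),
    ([], 0, 0),
    ([], 0, 0),
    ([16,21,10,21,22,2,22,13,11,13,1,22,1], 6, 2),
    ([14,14,18,9,18,18,10,18,13,11,13,12,5,12], 12, 1),
    ([14,9,9,5,10,18,11,18], 12, 1),
    ([14,9,9,13,5,13,10,10], 12, 2),
    ([12,12,15,10,15], 10, 1),
    ([12,12,18,10,18,13,11,13], 10, 1),
    ([14,9,9,12,5,12,11,11], 12, 2),
    ([13,13,15,11,15], 9, 1),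
    ([14,2,21,2,19,5,19,22,2,22,13,11,13], 6, 1),
    ([13,13,18,11,18,12,10,12], 9, 1),
    ([14,9,9,5,18,10,18,18,11,18], 12, 1),
    ([22,21,10,21,16,2,16,13,11,13], 6, 1),
    ([12,10,12,1,22,1], 10, 2),
    ([13,11,13,1,22,1], 9, 2),
    ([14,9,9,5,5,10,10,12,11,12], 12, 1),
    ([], 0, 0),
    ([], 0, 0),
    ([], 0, 0),
    ([], 0, 0),
    ([], 0, 0),
    ([], 0, 0),
    ([], 0, 0),
    ([], 0, 0),
    ([], 0, 0),
    ([], 0, 0),
    ([], 0, 0),
    ([], 0, 0),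
    ([], 0, 0),
    ([], 0, 0),
    ([], 0, 0),
    ([], 0, 0),
    ([], 0, 0),
    ([], 0, 0),
    ([], 0, 0),
    ([], 0, 0),
    ([], 0, 0),
    ([], 0, 0),
    ([], 0, 0),
    ([], 0, 0),
    ([], 0, 0),
    ([], 0, 0),
    ([], 0, 0),
    ([], 0, 0),
    ([], 0, 0),
    ([], 0, 0),
    ([], 0, 0),
    ([], 0, 0),
    ([], 0, 0),
    ([], 0, 0),
    ([], 0, 0),
    ([], 0, 0),
    ([], 0, 0),
    ([], 0, 0),
    ([], 0, 0),
    ([], 0, 0),
    ([], 0, 0),
    ([], 0, 0),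
    ([], 0, 0),
    ([], 0, 0),
    ([], 0, 0),
    ([16,21,10,21,22,2,22,18,13,11,13], 6, 1),
    ([14,9,18,9,18,18,10,18,13,11,13,12,5,12], 12, 2),
    ([14,14,13,9,13,10,10,14,5,14], 12, 1),
    ([14,14,12,9,12,11,11,14,5,14], 12, 1),
    ([14,9,9,10,18,11,18,5,5], 12, 2),
    ([], 0, 0),
    ([], 0, 0),
    ([], 0, 0),
    ([], 0, 0),
    ([], 0, 0),
    ([], 0, 0),
    ([], 0, 0),
    ([], 0, 0),
    ([], 0, 0),
    ([], 0, 0),
    ([], 0, 0),
    ([], 0, 0),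
    ([], 0, 0),
    ([], 0, 0),
    ([], 0, 0),
    ([], 0, 0),
    ([], 0, 0),
    ([], 0, 0),
    ([], 0, 0),
    ([], 0, 0),
    ([16,21,10,21,22,2,22,13,11,13,6,17,6], 6, 1),
    ([], 0, 0),
    ([], 0, 0),
    ([], 0, 0),
    ([], 0, 0),
    ([], 0, 0),
    ([], 0, 0),
    ([], 0, 0)]

/-- All the certificates. -/
def candC : List (List (List ℕ × ℕ × ℕ)) := [cand0, cand1, cand2, cand3, cand4]

/-- The thirteen representatives, with their transposes. -/
def repC : List (List Row × List Row) :=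
  [
    ([(1,0), (2,0), (4,128), (72,0), (16,0), (32,0), (64,0), (128,0)], [(1,0), (2,0), (4,0), (8,0), (16,0), (32,0), (72,0), (128,4)]),
    ([(1,2), (2,0), (4,128), (72,0), (16,0), (48,0), (64,0), (128,0)], [(1,0), (2,1), (4,0), (8,0), (48,0), (32,0), (72,0), (128,4)]),
    ([(1,32), (18,0), (4,128), (72,0), (16,0), (32,0), (64,0), (128,0)], [(1,0), (2,0), (4,0), (8,0), (18,0), (32,1), (72,0), (128,4)]),
    ([(1,4), (2,128), (4,0), (40,0), (16,0), (32,0), (80,0), (128,0)], [(1,0), (2,0), (4,1), (8,0), (80,0), (40,0), (64,0), (128,2)]),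
    ([(1,4), (2,8), (4,0), (8,0), (16,0), (32,0), (80,0), (160,0)], [(1,0), (2,0), (4,1), (8,2), (80,0), (160,0), (64,0), (128,0)]),
    ([(1,0), (2,0), (4,200), (72,0), (16,0), (32,0), (64,0), (192,0)], [(1,0), (2,0), (4,0), (8,4), (16,0), (32,0), (200,4), (128,4)]),
    ([(1,0), (2,4), (4,128), (104,0), (16,0), (32,0), (96,0), (128,0)], [(1,0), (2,0), (4,2), (8,0), (16,0), (104,0), (72,0), (128,4)]),
    ([(1,0), (98,4), (4,32), (8,0), (16,0), (32,0), (96,0), (128,0)], [(1,0), (2,0), (4,2), (8,0), (16,0), (98,4), (66,0), (128,0)]),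
    ([(1,2), (2,0), (4,200), (72,0), (16,0), (48,0), (64,0), (192,0)], [(1,0), (2,1), (4,0), (8,4), (48,0), (32,0), (200,4), (128,4)]),
    ([(1,128), (98,4), (4,32), (24,0), (16,0), (32,0), (96,0), (128,0)], [(1,0), (2,0), (4,2), (8,0), (24,0), (98,4), (66,0), (128,1)]),
    ([(1,8), (98,4), (4,32), (8,0), (16,0), (32,0), (96,0), (144,0)], [(1,0), (2,0), (4,2), (8,1), (144,0), (98,4), (66,0), (128,0)]),
    ([(1,4), (2,168), (4,0), (40,0), (16,0), (32,0), (80,0), (160,0)], [(1,0), (2,0), (4,1), (8,2), (80,0), (168,2), (64,0), (128,2)]),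
    ([(1,50), (18,0), (4,200), (72,0), (16,0), (48,0), (64,0), (192,0)], [(1,0), (2,1), (4,0), (8,4), (50,1), (32,1), (200,4), (128,4)])]

/-- The representatives as words in the simple root elements and their negatives. -/
def repW : List (List ℕ) :=
  [
    [3],
    [3,0],
    [3,0,1,0,3,1,0,3,1,3,1,1,2,1,2,2,3,3,1,1,3,3,0,0,1,1,3,3,0,0,1,1,0,0,2,2,2,2,1,1,2,2,1,1,1,1],
    [1,1,3,1,3,3,0,0,1,0,1,1],
    [1,1,2,1,2,2,0,0,1,0,1,1],
    [3,2],
    [3,1],
    [1,1,1,2,1,1,3,1,2,2,3,1,3],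
    [3,2,0],
    [1,1,1,2,1,1,3,1,2,2,3,1,3,0,1,0,3,1,0,3,1,3],
    [1,1,1,2,1,1,3,1,2,2,3,1,3,0,1,0,2,1,0,2,1,2],
    [1,1,3,1,3,3,1,1,2,1,2,2,0,0,1,0,1,1],
    [3,2,0,0,1,0,3,1,0,3,1,3,1,1,2,1,2,2,3,3,1,1,3,3,0,0,1,1,3,3,0,0,1,1,0,0,2,2,2,2,1,1,2,2,1,1,1,1]]

/-- Their images under triality, with transposes. -/
def triOneC : List (List Row × List Row) :=
  [
    ([(1,2), (2,0), (4,0), (8,0), (16,0), (48,0), (64,0), (128,0)], [(1,0), (2,1), (4,0), (8,0), (48,0), (32,0), (64,0), (128,0)]),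
    ([(1,2), (2,0), (4,8), (8,0), (16,0), (48,0), (64,0), (192,0)], [(1,0), (2,1), (4,0), (8,4), (48,0), (32,0), (192,0), (128,0)]),
    ([(1,50), (18,0), (4,0), (8,0), (16,0), (48,0), (64,0), (128,0)], [(1,0), (2,1), (4,0), (8,0), (50,1), (32,1), (64,0), (128,0)]),
    ([(5,0), (10,0), (4,0), (8,0), (16,0), (32,0), (64,16), (128,32)], [(1,0), (2,0), (5,0), (10,0), (16,64), (32,128), (64,0), (128,0)]),
    ([(1,0), (42,128), (4,0), (40,0), (16,0), (32,0), (64,0), (128,32)], [(1,0), (2,0), (4,0), (10,0), (16,0), (42,128), (64,0), (128,2)]),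
    ([(1,2), (2,0), (4,128), (72,0), (16,0), (48,0), (64,0), (128,0)], [(1,0), (2,1), (4,0), (8,0), (48,0), (32,0), (72,0), (128,4)]),
    ([(5,2), (2,4), (4,0), (8,0), (16,0), (48,0), (96,0), (128,0)], [(1,0), (2,1), (5,2), (8,0), (48,0), (96,0), (64,0), (128,0)]),
    ([(129,0), (2,4), (4,0), (8,16), (16,0), (32,0), (96,0), (128,0)], [(1,0), (2,0), (4,2), (8,0), (16,8), (96,0), (64,0), (129,0)]),
    ([(1,2), (2,0), (4,200), (72,0), (16,0), (48,0), (64,0), (192,0)], [(1,0), (2,1), (4,0), (8,4), (48,0), (32,0), (200,4), (128,4)]),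
    ([(145,8), (2,4), (4,0), (8,16), (16,0), (32,0), (96,0), (144,0)], [(1,0), (2,0), (4,2), (8,1), (145,8), (96,0), (64,0), (129,0)]),
    ([(129,0), (2,100), (36,0), (8,16), (16,0), (32,0), (96,0), (128,0)], [(1,0), (2,0), (4,2), (8,0), (16,8), (100,2), (64,2), (129,0)]),
    ([(5,0), (42,128), (4,0), (40,0), (16,0), (32,0), (64,16), (128,32)], [(1,0), (2,0), (5,0), (10,0), (16,64), (42,128), (64,0), (128,2)]),
    ([(1,50), (18,0), (4,200), (72,0), (16,0), (48,0), (64,0), (192,0)], [(1,0), (2,1), (4,0), (8,4), (50,1), (32,1), (200,4), (128,4)])]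

/-- Their images under the square of triality, with transposes. -/
def triTwoC : List (List Row × List Row) :=
  [
    ([(1,0), (2,0), (4,8), (8,0), (16,0), (32,0), (64,0), (192,0)], [(1,0), (2,0), (4,0), (8,4), (16,0), (32,0), (192,0), (128,0)]),
    ([(1,0), (2,0), (4,200), (72,0), (16,0), (32,0), (64,0), (192,0)], [(1,0), (2,0), (4,0), (8,4), (16,0), (32,0), (200,4), (128,4)]),
    ([(1,32), (18,0), (4,8), (8,0), (16,0), (32,0), (64,0), (192,0)], [(1,0), (2,0), (4,0), (8,4), (18,0), (32,1), (192,0), (128,0)]),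
    ([(1,0), (162,8), (4,0), (8,32), (16,0), (32,0), (64,0), (160,0)], [(1,0), (2,0), (4,0), (8,2), (16,0), (162,8), (64,0), (130,0)]),
    ([(5,0), (130,0), (4,0), (8,32), (16,0), (32,0), (64,16), (128,0)], [(1,0), (2,0), (5,0), (8,0), (16,64), (32,8), (64,0), (130,0)]),
    ([(1,2), (2,0), (4,8), (8,0), (16,0), (48,0), (64,0), (192,0)], [(1,0), (2,1), (4,0), (8,4), (48,0), (32,0), (192,0), (128,0)]),
    ([(1,0), (2,4), (4,8), (8,0), (16,0), (32,0), (96,0), (224,0)], [(1,0), (2,0), (4,2), (8,4), (16,0), (224,0), (192,0), (128,0)]),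
    ([(9,0), (2,4), (4,0), (8,0), (16,0), (32,0), (96,0), (128,16)], [(1,0), (2,0), (4,2), (9,0), (16,128), (96,0), (64,0), (128,0)]),
    ([(1,2), (2,0), (4,200), (72,0), (16,0), (48,0), (64,0), (192,0)], [(1,0), (2,1), (4,0), (8,4), (48,0), (32,0), (200,4), (128,4)]),
    ([(9,0), (2,100), (36,0), (8,0), (16,0), (32,0), (96,0), (128,16)], [(1,0), (2,0), (4,2), (9,0), (16,128), (100,2), (64,2), (128,0)]),
    ([(25,128), (2,4), (4,0), (24,0), (16,0), (32,0), (96,0), (128,16)], [(1,0), (2,0), (4,2), (9,0), (25,128), (96,0), (64,0), (128,1)]),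
    ([(5,0), (162,8), (4,0), (8,32), (16,0), (32,0), (64,16), (160,0)], [(1,0), (2,0), (5,0), (8,2), (16,64), (162,8), (64,0), (130,0)]),
    ([(1,50), (18,0), (4,200), (72,0), (16,0), (48,0), (64,0), (192,0)], [(1,0), (2,1), (4,0), (8,4), (50,1), (32,1), (200,4), (128,4)])]

/-- Positions of the simple root elements and their negatives. -/
def simpleC : List ℕ := [18,14,13,12,5,9,10,11]

/-- Triality on those. -/
def triC : List ℕ := [2,1,3,0,6,5,7,4]

/-- A reflection. -/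
def reflC : List Row := [(1,0), (2,0), (4,0), (128,0), (16,0), (32,0), (64,0), (8,0)]

/-- A similitude of multiplier minus one. -/
def dilC : List Row := [(1,0), (2,0), (4,0), (8,0), (0,16), (0,32), (0,64), (0,128)]

/-- Certificates for the action of triality, the reflection and the similitude on the representatives. -/
def permCert : List (List (List ℕ × ℕ × ℕ)) :=
  [
    [([19,4,4,8,15,15], 0, 2), ([4,7,7,19,8,19,15,15], 2, 1), ([19,4,4,15,7,15,8], 5, 2), ([], 4, 2), ([10,11,12,10,12], 7, 1), ([], 1, 1), ([21,2,2,6,6,17,6], 6, 1), ([5,12,11,11], 3, 1), ([], 8, 1), ([10,18,11,18,13,5,13], 10, 2), ([12,10,12,11], 11, 2), ([11,12,5,12], 9, 1), ([], 12, 1)],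
    [([16,7,7,8,15,15], 0, 1), ([4,7,7,19,8,19,15,15], 2, 1), ([16,16,15,7,15,8,4,4], 1, 2), ([], 4, 1), ([], 3, 1), ([], 5, 1), ([21,2,2,3,20,20], 6, 1), ([], 7, 1), ([], 8, 1), ([], 10, 1), ([], 9, 1), ([], 11, 1), ([], 12, 1)],
    [([], 0, 2), ([9,14,14], 3, 2), ([], 2, 2), ([14,9,9], 1, 2), ([], 4, 1), ([10,11,11,13,9,13,14,14], 7, 1), ([3,20,3], 6, 1), ([14,9,9,12,10,12,11], 5, 2), ([5,10,13,9,13,14,14], 10, 1), ([12,10,12,11], 11, 2), ([14,9,9,13,5,13,10], 8, 2), ([11,12,5,12], 9, 2), ([14,9,9,13,10,13,13,5,13,19,9,19,14,14], 12, 2)]]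

/-- The twenty four permutations. -/
def permC : List (List ℕ) :=
  [
    [0,1,2,3,4,5,6,7,8,9,10,11,12],
    [0,2,5,4,7,1,6,3,8,10,11,9,12],
    [0,2,1,4,3,5,6,7,8,10,9,11,12],
    [0,3,2,1,4,7,6,5,10,11,8,9,12],
    [0,5,1,7,3,2,6,4,8,11,9,10,12],
    [0,5,2,7,4,1,6,3,8,11,10,9,12],
    [0,4,5,2,7,3,6,1,11,9,8,10,12],
    [0,1,5,3,7,2,6,4,8,9,11,10,12],
    [0,4,1,2,3,7,6,5,9,11,8,10,12],
    [0,2,7,4,5,3,6,1,10,8,9,11,12],
    [0,2,3,4,1,7,6,5,10,8,11,9,12],
    [0,7,1,5,3,4,6,2,9,10,8,11,12],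
    [0,7,2,5,4,3,6,1,10,9,8,11,12],
    [0,5,3,7,1,4,6,2,11,8,10,9,12],
    [0,5,4,7,2,3,6,1,11,8,9,10,12],
    [0,3,5,1,7,4,6,2,11,10,8,9,12],
    [0,1,7,3,5,4,6,2,9,8,10,11,12],
    [0,1,4,3,2,7,6,5,9,8,11,10,12],
    [0,7,3,5,1,2,6,4,10,9,11,8,12],
    [0,4,7,2,5,1,6,3,9,11,10,8,12],
    [0,3,7,1,5,2,6,4,10,11,9,8,12],
    [0,4,3,2,1,5,6,7,11,9,10,8,12],
    [0,3,4,1,2,5,6,7,11,10,9,8,12],
    [0,7,4,5,2,1,6,3,9,10,11,8,12]]

/-- Their words in the three generators. -/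
def permW : List (List ℕ) :=
  [
    [],
    [0],
    [1],
    [2],
    [0,0],
    [0,1],
    [0,2],
    [1,0],
    [1,2],
    [2,0],
    [2,1],
    [0,0,2],
    [0,1,2],
    [0,2,0],
    [0,2,1],
    [1,0,2],
    [1,2,0],
    [1,2,1],
    [2,0,0],
    [2,0,2],
    [2,1,0],
    [2,1,2],
    [0,2,0,0],
    [0,2,1,2]]

/-- Their products. -/
def permMul : List (List ℕ) :=
  [
    [0,1,2,3,4,5,6,7,8,9,10,11,12,13,14,15,16,17,18,19,20,21,22,23],
    [1,4,5,6,0,7,11,2,12,13,14,3,15,17,16,8,10,9,22,18,21,23,19,20],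
    [2,7,0,8,5,4,15,1,3,16,17,12,11,14,13,6,9,10,23,20,19,22,21,18],
    [3,9,10,0,18,12,19,20,21,1,2,13,5,11,23,16,15,22,4,6,7,8,17,14],
    [4,0,7,11,1,2,3,5,15,17,16,6,8,9,10,12,14,13,19,22,23,20,18,21],
    [5,2,1,12,7,0,8,4,6,10,9,15,3,16,17,11,13,14,20,21,18,19,23,22],
    [6,13,14,1,22,15,18,21,23,4,5,17,7,3,20,10,8,19,0,11,2,12,9,16],
    [7,5,4,15,2,1,12,0,11,14,13,8,6,10,9,3,17,16,21,23,22,18,20,19],
    [8,16,17,2,23,11,20,19,22,7,0,14,4,12,18,9,6,21,5,15,1,3,10,13],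
    [9,18,12,19,3,20,13,10,5,11,23,0,16,22,15,21,2,1,17,4,8,14,6,7],
    [10,20,3,21,12,18,16,9,0,15,22,5,13,23,11,19,1,2,14,7,6,17,8,4],
    [11,17,16,4,19,8,22,23,20,0,7,9,2,6,21,14,12,18,1,3,5,15,13,10],
    [12,10,9,5,20,3,21,18,19,2,1,16,0,15,22,13,11,23,7,8,4,6,14,17],
    [13,22,15,18,6,21,17,14,7,3,20,1,10,19,8,23,5,4,9,0,12,16,11,2],
    [14,21,6,23,15,22,10,13,1,8,19,7,17,20,3,18,4,5,16,2,11,9,12,0],
    [15,14,13,7,21,6,23,22,18,5,4,10,1,8,19,17,3,20,2,12,0,11,16,9],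
    [16,23,11,20,8,19,14,17,4,12,18,2,9,21,6,22,0,7,10,5,3,13,15,1],
    [17,19,8,22,11,23,9,16,2,6,21,4,14,18,12,20,7,0,13,1,15,10,3,5],
    [18,3,20,13,9,10,0,12,16,22,15,19,21,1,2,5,23,11,6,17,14,7,4,8],
    [19,11,23,9,17,16,4,8,14,18,12,22,20,0,7,2,21,6,3,13,10,5,1,15],
    [20,12,18,16,10,9,5,3,13,23,11,21,19,2,1,0,22,15,8,14,17,4,7,6],
    [21,15,22,10,14,13,7,6,17,20,3,23,18,5,4,1,19,8,12,16,9,0,2,11],
    [22,6,21,17,13,14,1,15,10,19,8,18,23,4,5,7,20,3,11,9,16,2,0,12],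
    [23,8,19,14,16,17,2,11,9,21,6,20,22,7,0,4,18,12,15,10,13,1,5,3]]

end CfsgLib.OmegaEight
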