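import Mathlib
import Cfsg.Agent.OmegaEight.Data
import Cfsg.Agent.OmegaSeven.Code

/-!
# Matrices of degree eight over three elements on bit sets

Products and transport to matrices indexed as in the standard hyperbolic form. Normal codes have
eight rows below 256; on them equality of codes is equality of matrices.
-/

set_option autoImplicit false

namespace CfsgLib.OmegaEight

open Matrix
open CfsgLib.OmegaSeven (Row rowVal addR okR okR_iff okR_addR rowVal_addR)

/-- The index set of the form. -/
abbrev I8 := Fin 4 ⊕ Fin 4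

/-- The position of an index. -/
def pos : I8 → ℕ
  | Sum.inl i => (i : ℕ)
  | Sum.inr i => 4 + (i : ℕ)

theorem pos_lt : ∀ a, pos a < 8 := by decide

theorem exists_pos : ∀ i < 8, ∃ a, pos a = i := by decide

theorem sum_pos {M : Type*} [AddCommMonoid M] (f : ℕ → M) :
    ∑ j ∈ Finset.range 8, f j = ∑ a : I8, f (pos a) := by
  simp [Finset.sum_range_succ, Fintype.sum_sum_type, Fin.sum_univ_four, pos]
  abel

/-- A normal row. -/
def normR (r : Row) : Bool := okR r && Nat.ble r.1 255 && Nat.ble r.2 255

theorem normR_iff {r : Row} : normR r = true ↔ okR r = true ∧ r.1 < 2 ^ 8 ∧ r.2 < 2 ^ 8 := by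
  simp [normR, and_assoc, Nat.lt_succ_iff]

/-- A normal code. -/
def normM (A : List Row) : Bool := Nat.beq A.length 8 && A.all normR

theorem normM_iff {A : List Row} :
    normM A = true ↔ A.length = 8 ∧ ∀ r ∈ A, normR r = true := by
  simp [normM, List.all_eq_true]

theorem normR_getD {A : List Row} (hA : ∀ r ∈ A, normR r = true) (i : ℕ) :
    normR (A.getD i (0, 0)) = true := by
  rw [List.getD_eq_getElem?_getD]
  cases h : A[i]? with
  | none => rfl
  | some r => exact hA r (List.mem_of_getElem? h)

/-- Row times matrix. -/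
def comboR : List Row → ℕ → ℕ → Row
  | [], _, _ => (0, 0)
  | R :: B, x, y => match Nat.mod x 2, Nat.mod y 2 with
    | 0, 0 => comboR B (Nat.div x 2) (Nat.div y 2)
    | 0, _ => addR (R.2, R.1) (comboR B (Nat.div x 2) (Nat.div y 2))
    | _, _ => addR R (comboR B (Nat.div x 2) (Nat.div y 2))

theorem normR_addR {a b : Row} (ha : normR a = true) (hb : normR b = true) :
    normR (addR a b) = true := by
  rw [normR_iff] at ha hb ⊢
  exact ⟨okR_addR ha.1 hb.1,
    Nat.xor_lt_two_pow (Nat.or_lt_two_pow ha.2.2 hb.2.2)
      (Nat.xor_lt_two_pow (Nat.or_lt_two_pow ha.2.1 hb.2.2) (Nat.or_lt_two_pow ha.2.2 hb.2.1)),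
    Nat.xor_lt_two_pow (Nat.or_lt_two_pow ha.2.1 hb.2.1)
      (Nat.xor_lt_two_pow (Nat.or_lt_two_pow ha.2.1 hb.2.2) (Nat.or_lt_two_pow ha.2.2 hb.2.1))⟩

theorem comboR_spec : ∀ (B : List Row), (∀ R ∈ B, normR R = true) → ∀ x y : ℕ,
    normR (comboR B x y) = true ∧ ∀ k, rowVal (comboR B x y) k
      = ∑ j ∈ Finset.range B.length, rowVal (x, y) j * rowVal (B.getD j (0, 0)) k := by
  intro B
  induction B with
  | nil => exact fun _ x y => ⟨(by decide : normR (0, 0) = true), fun k => by simp [comboR, rowVal]⟩
  | cons R B ih =>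
    intro hB x y
    obtain ⟨hn, hs⟩ := ih (fun S hS => hB S (List.mem_cons_of_mem _ hS)) (Nat.div x 2) (Nat.div y 2)
    have hR := hB R List.mem_cons_self
    have hRo := (normR_iff.1 hR).1
    have hswap : normR (R.2, R.1) = true := by
      obtain ⟨h1, h2, h3⟩ := normR_iff.1 hR
      refine normR_iff.2 ⟨okR_iff.2 fun k => ?_, h3, h2⟩
      rw [Bool.and_comm]; exact okR_iff.1 h1 k
    have hsh : ∀ j, rowVal (x, y) (j + 1) = rowVal (Nat.div x 2, Nat.div y 2) j := fun j => by
      simp only [rowVal, Nat.testBit_succ]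
      rfl
    have hsum : ∀ k, ∑ j ∈ Finset.range (R :: B).length,
        rowVal (x, y) j * rowVal ((R :: B).getD j (0, 0)) k
        = rowVal (x, y) 0 * rowVal R k + rowVal (comboR B (Nat.div x 2) (Nat.div y 2)) k := by
      intro k
      rw [hs, List.length_cons, Finset.sum_range_succ', add_comm]
      simp [hsh]
    have h0 : x.testBit 0 = decide (Nat.mod x 2 = 1) := Nat.testBit_zero x
    have h0' : y.testBit 0 = decide (Nat.mod y 2 = 1) := Nat.testBit_zero y
    simp only [hsum]
    rcases Nat.mod_two_eq_zero_or_one x with hx | hx <;>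
      rcases Nat.mod_two_eq_zero_or_one y with hy | hy <;>
      (have hx' : Nat.mod x 2 = _ := hx; have hy' : Nat.mod y 2 = _ := hy
       simp only [comboR, hx', hy'])
    · exact ⟨hn, fun k => by simp [rowVal, h0, h0', hx', hy']⟩
    · refine ⟨normR_addR hswap hn, fun k => ?_⟩
      rw [rowVal_addR (normR_iff.1 hswap).1 (normR_iff.1 hn).1]
      congr 1
      have h := okR_iff.1 hRo k
      simp only [rowVal, h0, h0', hx', hy']
      revert h
      cases R.1.testBit k <;> cases R.2.testBit k <;> simp <;> decide
    all_goals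
      refine ⟨normR_addR hR hn, fun k => ?_⟩
      rw [rowVal_addR hRo (normR_iff.1 hn).1]
      simp [rowVal, h0, hx']

/-- Product of coded matrices. -/
def mulC (A B : List Row) : List Row := A.map fun r => comboR B r.1 r.2

/-- The unit. -/
def oneC : List Row := [(1, 0), (2, 0), (4, 0), (8, 0), (16, 0), (32, 0), (64, 0), (128, 0)]

/-- The matrix of a code. -/
def toMat (A : List Row) : Matrix I8 I8 (ZMod 3) :=
  Matrix.of fun a b => rowVal (A.getD (pos a) (0, 0)) (pos b)

theorem toMat_one : toMat oneC = 1 := by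
  ext a b
  rw [Matrix.one_apply]
  exact (by decide : ∀ a b : I8, rowVal (oneC.getD (pos a) (0, 0)) (pos b)
    = if a = b then 1 else 0) a b

theorem norm_one : normM oneC = true := by decide

theorem norm_mul {A B : List Row} (hA : normM A = true) (hB : normM B = true) :
    normM (mulC A B) = true := by
  rw [normM_iff] at hA hB ⊢
  refine ⟨by rw [mulC, List.length_map, hA.1], fun r hr => ?_⟩
  obtain ⟨s, -, rfl⟩ := List.mem_map.1 hr
  exact (comboR_spec B hB.2 _ _).1

theorem toMat_mul (A : List Row) {B : List Row} (hB : normM B = true) :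
    toMat (mulC A B) = toMat A * toMat B := by
  rw [normM_iff] at hB
  ext a b
  have e : (mulC A B).getD (pos a) (0, 0)
      = comboR B (A.getD (pos a) (0, 0)).1 (A.getD (pos a) (0, 0)).2 := by
    simp only [mulC, List.getD_eq_getElem?_getD, List.getElem?_map]
    cases A[pos a]? with
    | none =>
      have h : ∀ B : List Row, comboR B 0 0 = (0, 0) := by
        intro B; induction B with
        | nil => rfl
        | cons R B ih => simpa [comboR] using ih
      exact (h B).symm
    | some r => rfl
  simp only [toMat, Matrix.of_apply, Matrix.mul_apply, e, (comboR_spec B hB.2 _ _).2, hB.1]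
  exact sum_pos fun j => rowVal (A.getD (pos a) (0, 0)) j * rowVal (B.getD j (0, 0)) (pos b)

theorem row_eq_of_rowVal {a b : Row} (ha : normR a = true) (hb : normR b = true)
    (h : ∀ c : I8, rowVal a (pos c) = rowVal b (pos c)) : a = b := by
  obtain ⟨ho, ha1, ha2⟩ := normR_iff.1 ha
  obtain ⟨ho', hb1, hb2⟩ := normR_iff.1 hb
  have key : ∀ j, a.1.testBit j = b.1.testBit j ∧ a.2.testBit j = b.2.testBit j := by
    intro j
    rcases lt_or_ge j 8 with hj | hj
    · obtain ⟨c, rfl⟩ := exists_pos j hj
      have h1 := okR_iff.1 ho (pos c)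
      have h2 := okR_iff.1 ho' (pos c)
      have h3 := h c
      simp only [rowVal] at h3
      revert h1 h2 h3
      cases a.1.testBit (pos c) <;> cases a.2.testBit (pos c) <;> cases b.1.testBit (pos c) <;>
        cases b.2.testBit (pos c) <;> simp <;> decide
    · have e : ∀ {x : ℕ}, x < 2 ^ 8 → x.testBit j = false := fun hx =>
        Nat.testBit_lt_two_pow (hx.trans_le (Nat.pow_le_pow_right (by norm_num) hj))
      rw [e ha1, e ha2, e hb1, e hb2]
      exact ⟨rfl, rfl⟩
  exact Prod.ext (Nat.eq_of_testBit_eq fun j => (key j).1) (Nat.eq_of_testBit_eq fun j => (key j).2)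

/-- Equal matrices have equal normal codes. -/
theorem code_eq_of_toMat {A B : List Row} (hA : normM A = true) (hB : normM B = true)
    (h : toMat A = toMat B) : A = B := by
  rw [normM_iff] at hA hB
  refine List.ext_getElem (hA.1.trans hB.1.symm) fun i h1 h2 => ?_
  obtain ⟨a, rfl⟩ := exists_pos i (hA.1 ▸ h1)
  refine row_eq_of_rowVal (hA.2 _ (List.getElem_mem _)) (hB.2 _ (List.getElem_mem _)) fun c => ?_
  have e := congrFun (congrFun h a) c
  simp only [toMat, Matrix.of_apply, List.getD_eq_getElem _ _ h1, List.getD_eq_getElem _ _ h2] at e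
  exact e

/-- The product of the coded generators of a word. -/
def evalC (gens : List (List Row)) : List ℕ → List Row
  | [] => oneC
  | k :: w => mulC (gens.getD k oneC) (evalC gens w)

/-- Powers one and two. -/
def powC (A : List Row) (s : ℕ) : List Row := if s = 1 then A else mulC A A

/-- The code of a vector from its number. -/
def vecC (n : ℕ) : Row :=
  ((List.range 8).foldr (fun i acc => (if n / 3 ^ i % 3 = 1 then 2 ^ i else 0) + acc) 0,
    (List.range 8).foldr (fun i acc => (if n / 3 ^ i % 3 = 2 then 2 ^ i else 0) + acc) 0)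

/-- The value of the form on a coded vector, as a number. -/
def qVal (v : Row) : ℕ :=
  let d (i : ℕ) : ℕ := if v.1.testBit i then 1 else if v.2.testBit i then 2 else 0
  (d 0 * d 4 + d 1 * d 5 + d 2 * d 6 + d 3 * d 7) % 3

/-- The numbers of fixed vectors of the values 0 and 1. -/
def fixC (T : List Row) : ℕ × ℕ :=
  ((List.range 6561).foldr (fun n acc =>
    let v := vecC n
    if comboR T v.1 v.2 == v then
      (if qVal v == 0 then (acc.1 + 1, acc.2) else if qVal v == 1 then (acc.1, acc.2 + 1) else acc)
    else acc) (0, 0))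

end CfsgLib.OmegaEight
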