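import Cfsg.Agent.OmegaEight.Action
import Cfsg.Agent.S1265

/-!
# The extensions by the symmetric group of degree three

They are isomorphic, and each has seven orbits on the classes of subgroups of order three.
-/

set_option autoImplicit false

namespace CfsgLib.OmegaEight

section cyclic

variable {G : Type*} [Group G]

theorem orderOf_three {a : G} (h3 : a * (a * a) = 1) (h1 : a ≠ 1) : orderOf a = 3 := by
  have : Fact (Nat.Prime 3) := ⟨by norm_num⟩
  exact orderOf_eq_prime (by rw [pow_succ', pow_two]; exact h3) h1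

/-- The members of a subgroup of order three. -/
theorem mem_zpowers_three {a y : G} (h3 : a * (a * a) = 1) (h : y ∈ Subgroup.zpowers a) :
    y = 1 ∨ y = a ∨ y = a⁻¹ := by
  obtain ⟨k, rfl⟩ := h
  have e3 : a ^ (3 : ℤ) = 1 := by
    rw [show (3 : ℤ) = ((3 : ℕ) : ℤ) from rfl, zpow_natCast, pow_succ', pow_two, h3]
  have e : a ^ k = a ^ (k % 3) := by
    conv_lhs => rw [← Int.emod_add_mul_ediv k 3, zpow_add, zpow_mul]
    rw [e3, one_zpow, mul_one]
  have h0 := Int.emod_nonneg k (show (3 : ℤ) ≠ 0 by norm_num)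
  have h1 := Int.emod_lt_of_pos k (show (0 : ℤ) < 3 by norm_num)
  simp only
  rw [e]
  obtain h | h | h : k % 3 = 0 ∨ k % 3 = 1 ∨ k % 3 = 2 := by omega
  · rw [h, zpow_zero]; exact Or.inl rfl
  · rw [h, zpow_one]; exact Or.inr (Or.inl rfl)
  · rw [h, zpow_two]; exact Or.inr (Or.inr (inv_eq_of_mul_eq_one_right h3).symm)

theorem assoc_of_map {H : Type*} [Group H] (f : G →* H) {a : G} {b : H} (ha : f a ≠ 1)
    (hb : b * (b * b) = 1) (h : (Subgroup.zpowers a).map f = Subgroup.zpowers b) :
    Assoc (f a) b := by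
  have hm : f a ∈ Subgroup.zpowers b := h ▸ ⟨a, Subgroup.mem_zpowers a, rfl⟩
  rcases mem_zpowers_three hb hm with e | e | e
  · exact absurd e ha
  · exact ⟨1, Or.inl (by rw [e]; group)⟩
  · exact ⟨1, Or.inr (by rw [e]; group)⟩

theorem exists_gen_three {X : Subgroup G} (hX : Nat.card X = 3) :
    ∃ a, a * (a * a) = 1 ∧ a ≠ 1 ∧ X = Subgroup.zpowers a := by
  have : Fact (Nat.Prime 3) := ⟨by norm_num⟩
  obtain ⟨⟨a, haX⟩, ha⟩ := (isCyclic_of_prime_card hX).exists_generator
  have hXz : X = Subgroup.zpowers a := by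
    refine le_antisymm (fun y hy => ?_) (Subgroup.zpowers_le.2 haX)
    obtain ⟨k, hk⟩ := ha ⟨y, hy⟩
    exact ⟨k, congrArg Subtype.val hk⟩
  have hord : orderOf a = 3 := by rw [← Nat.card_zpowers, ← hXz, hX]
  refine ⟨a, ?_, ?_, hXz⟩
  · have h := pow_orderOf_eq_one a
    rw [hord, pow_succ', pow_two] at h
    exact h
  · intro e
    rw [e, orderOf_one] at hord
    norm_num at hord

theorem assoc_zpowers {a b : G} (h : Assoc a b) :
    ∃ g : G, (Subgroup.zpowers a).map (MulAut.conj g).toMonoidHom = Subgroup.zpowers b := by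
  obtain ⟨g, h⟩ := h
  refine ⟨g, ?_⟩
  rw [MonoidHom.map_zpowers, MulEquiv.coe_toMonoidHom, MulAut.conj_apply]
  rcases h with h | h <;> rw [h]
  exact Subgroup.zpowers_inv

end cyclic

/-- Thirteen classes of subgroups of order three. -/
theorem thirteen_classes : ∃ Y : Fin 13 → Subgroup L8, (∀ i, Nat.card (Y i) = 3) ∧
    (∀ i j, (∃ g : L8, (Y i).map (MulAut.conj g).toMonoidHom = Y j) → i = j) ∧
    ∀ X : Subgroup L8, Nat.card X = 3 →
      ∃ i, ∃ g : L8, X.map (MulAut.conj g).toMonoidHom = Y i := by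
  refine ⟨fun i => Subgroup.zpowers (repL i), fun i => ?_, ?_, fun X hX => ?_⟩
  · rw [Nat.card_zpowers, orderOf_three (repL_cube i) (repL_ne_one i)]
  · rintro i j ⟨g, hg⟩
    refine eq_of_assoc_repL (Assoc.trans ⟨g, Or.inl rfl⟩
      (assoc_of_map (MulAut.conj g).toMonoidHom ?_ (repL_cube j) hg))
    exact fun e => repL_ne_one i ((MulAut.conj g).injective (e.trans (map_one _).symm))
  · obtain ⟨a, h3, h1, rfl⟩ := exists_gen_three hX
    obtain ⟨i, hi⟩ := exists_assoc_repL h3 h1
    obtain ⟨g, hg⟩ := assoc_zpowers hi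
    exact ⟨i, g, hg⟩

/-- The six elements generated by two. -/
def six (a b : Fin 24) : List (Fin 24) :=
  [0, a, permProd a a, b, permProd a b, permProd (permProd a a) b]

theorem perm_three : ∀ s : Equiv.Perm (Fin 3), s ∈ [1, finRotate 3, finRotate 3 * finRotate 3,
    Equiv.swap 0 1, finRotate 3 * Equiv.swap 0 1, finRotate 3 * finRotate 3 * Equiv.swap 0 1] := by
  decide +kernel

theorem three_rels : finRotate 3 * (finRotate 3 * finRotate 3) = 1 ∧ finRotate 3 ≠ 1 ∧
    Equiv.swap (0 : Fin 3) 1 * Equiv.swap 0 1 = 1 ∧ Equiv.swap (0 : Fin 3) 1 ≠ 1 ∧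
    Equiv.swap (0 : Fin 3) 1 * finRotate 3 * Equiv.swap 0 1 = finRotate 3 * finRotate 3 := by
  decide +kernel

/-- Every such pair gives seven orbits and generates a conjugate of one of them. -/
theorem pair_ok : ∀ a b : Fin 24, permProd a (permProd a a) = 0 → a ≠ 0 → permProd b b = 0 → b ≠ 0 →
    permProd (permProd b a) b = permProd a a →
    ((List.finRange 13).filter fun i => (six a b).all fun k =>
        decide (i ≤ permFun k i)).length = 7 ∧
      ∃ k k' : Fin 24, permProd k' k = 0 ∧
        ∀ x ∈ six a b, permProd (permProd k x) k' ∈ six 1 2 := by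
  decide +kernel

theorem permFun_zero : ∀ i, permFun 0 i = i := by decide +kernel

section extension

variable {G : Type*} [Group G] [Finite G]

/-- An extension: the simple group as generalised Fitting subgroup, with quotient of degree three. -/
structure IsExt (L : Subgroup G) [L.Normal] : Prop where
  eq : L = Cfsg.generalizedFittingSubgroup G
  iso : Nonempty (↥L ≃* L8)
  quot : Nonempty (G ⧸ L ≃* Equiv.Perm (Fin 3))

variable {L : Subgroup G} [L.Normal] (h : IsExt L)

include h

/-- The action by conjugation. -/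
noncomputable def IsExt.act : G →* MulAut L8 :=
  (MulAut.congr h.iso.some).toMonoidHom.comp MulAut.conjNormal

omit [Finite G] in
theorem IsExt.act_apply (g : G) (x : L8) :
    h.act g x = h.iso.some (MulAut.conjNormal g (h.iso.some.symm x)) := rfl

theorem IsExt.act_mem (l : ↥L) : h.act l = MulAut.conj (h.iso.some l) := by
  refine MulEquiv.ext fun x => ?_
  rw [h.act_apply, MulAut.conj_apply]
  have e : MulAut.conjNormal (l : G) (h.iso.some.symm x) = l * h.iso.some.symm x * l⁻¹ :=
    Subtype.ext (MulAut.conjNormal_apply _ _)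
  rw [e, map_mul, map_mul, map_inv, MulEquiv.apply_symm_apply]

theorem IsExt.act_injective : Function.Injective h.act := by
  refine (injective_iff_map_eq_one _).2 fun g hg => ?_
  have hc : g ∈ Subgroup.centralizer (L : Set G) := by
    refine Subgroup.mem_centralizer_iff.2 fun l hl => ?_
    have e := DFunLike.congr_fun hg (h.iso.some ⟨l, hl⟩)
    rw [h.act_apply, MulEquiv.symm_apply_apply, MulAut.one_apply] at e
    have e' : g * l * g⁻¹ = l := congrArg Subtype.val (h.iso.some.injective e)
    calc l * g = g * l * g⁻¹ * g := by rw [e']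
      _ = g * l := by rw [inv_mul_cancel_right]
  have hL : g ∈ L := h.eq ▸ Cfsg.Agent.S1265.result (h.eq ▸ hc)
  have e := h.act_mem ⟨g, hL⟩
  rw [hg] at e
  have e1 := (CfsgLib.AutPOmega.ctx_plusQ (F := ZMod 3) le_rfl).conj_injective
    (e.symm.trans (map_one MulAut.conj).symm)
  exact congrArg Subtype.val (h.iso.some.injective (e1.trans (map_one _).symm) : (⟨g, hL⟩ : ↥L) = 1)

/-- The permutation of the classes. -/
noncomputable def IsExt.idx (g : G) : Fin 24 := (moveHom_spec.2 (h.act g)).choose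

omit [Finite G] in
theorem IsExt.idx_spec (g : G) (i : Fin 13) : move (h.act g) i = permFun (h.idx g) i :=
  (moveHom_spec.2 (h.act g)).choose_spec i

theorem IsExt.idx_eq {g : G} {k : Fin 24} (hk : ∀ i, move (h.act g) i = permFun k i) : h.idx g = k :=
  permFun_injective _ _ fun i => by rw [← h.idx_spec, hk]

theorem IsExt.idx_one : h.idx 1 = 0 :=
  h.idx_eq fun i => by rw [map_one, move_one, permFun_zero]

theorem IsExt.idx_mul (g g' : G) : h.idx (g * g') = permProd (h.idx g) (h.idx g') :=
  h.idx_eq fun i => by rw [map_mul, move_mul, h.idx_spec, h.idx_spec, permFun_prod]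

theorem IsExt.idx_eq_iff (g g' : G) : h.idx g = h.idx g' ↔ g⁻¹ * g' ∈ L := by
  have hker : ∀ a, moveHom (h.act a) = 1 ↔ a ∈ L := by
    intro a
    rw [← MonoidHom.mem_ker, moveHom_spec.1, MonoidHom.mem_range]
    constructor
    · rintro ⟨x, hx⟩
      have e : h.act a = h.act (h.iso.some.symm x : G) := by
        rw [h.act_mem, MulEquiv.apply_symm_apply, hx]
      rw [h.act_injective e]
      exact (h.iso.some.symm x).2
    · exact fun ha => ⟨_, (h.act_mem ⟨a, ha⟩).symm⟩
  have hiff : h.idx g = h.idx g' ↔ moveHom (h.act g) = moveHom (h.act g') := by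
    constructor
    · intro e
      refine Equiv.ext fun i => ?_
      rw [moveHom_apply, moveHom_apply, h.idx_spec, h.idx_spec, e]
    · intro e
      refine permFun_injective _ _ fun i => ?_
      rw [← h.idx_spec, ← h.idx_spec, ← moveHom_apply, ← moveHom_apply, e]
  rw [hiff, ← hker, map_mul, map_inv, map_mul, map_inv, inv_mul_eq_one]

/-- The images form a set of six elements of the standard shape. -/
theorem IsExt.exists_pair : ∃ a b : Fin 24,
    (permProd a (permProd a a) = 0 ∧ a ≠ 0 ∧ permProd b b = 0 ∧ b ≠ 0 ∧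
      permProd (permProd b a) b = permProd a a) ∧
    (∀ g, h.idx g ∈ six a b) ∧ ∀ x ∈ six a b, ∃ g, h.idx g = x := by
  obtain ⟨ψ⟩ := h.quot
  let π := QuotientGroup.mk' L
  obtain ⟨gr, hgr⟩ := QuotientGroup.mk'_surjective L (ψ.symm (finRotate 3))
  obtain ⟨gs, hgs⟩ := QuotientGroup.mk'_surjective L (ψ.symm (Equiv.swap 0 1))
  have key : ∀ x y, ψ (π x) = ψ (π y) ↔ h.idx x = h.idx y := fun x y => by
    rw [ψ.injective.eq_iff, h.idx_eq_iff]
    exact QuotientGroup.eq
  have hr : ψ (π gr) = finRotate 3 := by rw [hgr, MulEquiv.apply_symm_apply]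
  have hs : ψ (π gs) = Equiv.swap 0 1 := by rw [hgs, MulEquiv.apply_symm_apply]
  obtain ⟨r3, r1, s2, s1, srs⟩ := three_rels
  refine ⟨h.idx gr, h.idx gs, ⟨?_, ?_, ?_, ?_, ?_⟩, fun g => ?_, fun x hx => ?_⟩
  · rw [← h.idx_mul, ← h.idx_mul, ← h.idx_one, ← key, map_mul, map_mul, map_mul, map_mul, hr, r3,
      map_one, map_one]
  · rw [← h.idx_one, Ne, ← key, hr, map_one, map_one]; exact r1
  · rw [← h.idx_mul, ← h.idx_one, ← key, map_mul, map_mul, hs, s2, map_one, map_one]
  · rw [← h.idx_one, Ne, ← key, hs, map_one, map_one]; exact s1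
  · rw [← h.idx_mul, ← h.idx_mul, ← h.idx_mul, ← key]
    simp only [map_mul, hr, hs, srs]
  · have hc := perm_three (ψ (π g))
    simp only [List.mem_cons, List.not_mem_nil, or_false] at hc
    simp only [six, List.mem_cons, List.not_mem_nil, or_false, ← h.idx_mul, ← h.idx_one, ← key,
      map_mul, map_one, hr, hs]
    exact hc
  · simp only [six, List.mem_cons, List.not_mem_nil, or_false, ← h.idx_mul, ← h.idx_one] at hx
    rcases hx with rfl | rfl | rfl | rfl | rfl | rfl <;> exact ⟨_, rfl⟩

omit [Finite G] in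
/-- The order of an extension. -/
theorem IsExt.card_eq : Nat.card G = 6 * Nat.card L8 := by
  rw [L.card_eq_card_quotient_mul_card_subgroup, Nat.card_congr h.quot.some.toEquiv,
    Nat.card_congr h.iso.some.toEquiv, Nat.card_eq_fintype_card, Fintype.card_perm, Fintype.card_fin]
  norm_num [Nat.factorial]

/-- Seven orbits on the subgroups of order three of the simple group. -/
theorem IsExt.seven_orbits : ∃ Y : Fin 7 → Subgroup G, (∀ i, Y i ≤ L ∧ Nat.card (Y i) = 3) ∧
    (∀ i j, (∃ g : G, (Y i).map (MulAut.conj g).toMonoidHom = Y j) → i = j) ∧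
    ∀ X : Subgroup G, X ≤ L → Nat.card X = 3 →
      ∃ i, ∃ g : G, X.map (MulAut.conj g).toMonoidHom = Y i := by
  classical
  obtain ⟨a, b, hrel, hin, hout⟩ := h.exists_pair
  obtain ⟨hlen, -⟩ := pair_ok a b hrel.1 hrel.2.1 hrel.2.2.1 hrel.2.2.2.1 hrel.2.2.2.2
  set R := (List.finRange 13).filter fun i => (six a b).all fun k => decide (i ≤ permFun k i) with hR
  have hmem : ∀ i, i ∈ R ↔ ∀ g, i ≤ move (h.act g) i := by
    intro i
    simp only [hR, List.mem_filter, List.mem_finRange, true_and, List.all_eq_true, decide_eq_true_eq]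
    constructor
    · exact fun hi g => h.idx_spec g i ▸ hi _ (hin g)
    · intro hi k hk
      obtain ⟨g, rfl⟩ := hout k hk
      exact h.idx_spec g i ▸ hi g
  let Y0 : Fin 13 → Subgroup G := fun r =>
    Subgroup.zpowers ((h.iso.some.symm (repL r) : ↥L) : G)
  let r : Fin 7 → Fin 13 := fun i => R[(i : ℕ)]'(hlen.symm ▸ i.2)
  have hnd : R.Nodup := (List.nodup_finRange 13).filter _
  have hr1 : ∀ i, ((h.iso.some.symm (repL i) : ↥L) : G) ≠ 1 := fun i e => repL_ne_one i
    (h.iso.some.symm.injective ((Subtype.ext e : h.iso.some.symm (repL i) = 1).trans (map_one _).symm))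
  have hr3 : ∀ i, ((h.iso.some.symm (repL i) : ↥L) : G) * (((h.iso.some.symm (repL i) : ↥L) : G)
      * ((h.iso.some.symm (repL i) : ↥L) : G)) = 1 := fun i => by
    rw [← Subgroup.coe_mul, ← Subgroup.coe_mul, ← map_mul, ← map_mul, repL_cube, map_one,
      Subgroup.coe_one]
  have hconj : ∀ (g : G) (x : L8), g * (h.iso.some.symm x : G) * g⁻¹
      = (h.iso.some.symm (h.act g x) : G) := fun g x => by
    rw [h.act_apply, MulEquiv.symm_apply_apply, MulAut.conjNormal_apply]
  refine ⟨fun i => Y0 (r i), fun i => ⟨?_, ?_⟩, ?_, fun X hXL hX => ?_⟩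
  · exact Subgroup.zpowers_le.2 (SetLike.coe_mem _)
  · rw [Nat.card_zpowers, orderOf_three (hr3 _) (hr1 _)]
  · rintro i j ⟨g, hg⟩
    have hmove : move (h.act g) (r i) = r j := by
      refine move_eq ?_
      have hg' : (Subgroup.zpowers ((h.iso.some.symm (repL (r i)) : ↥L) : G)).map
          (MulAut.conj g).toMonoidHom
          = Subgroup.zpowers ((h.iso.some.symm (repL (r j)) : ↥L) : G) := hg
      have hm : g * (h.iso.some.symm (repL (r i)) : G) * g⁻¹
          ∈ Subgroup.zpowers ((h.iso.some.symm (repL (r j)) : ↥L) : G) :=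
        hg' ▸ ⟨_, Subgroup.mem_zpowers _, rfl⟩
      rw [hconj] at hm
      rcases mem_zpowers_three (hr3 _) hm with e | e | e
      · exact absurd ((h.act g).injective ((h.iso.some.symm.injective ((Subtype.ext e :
          h.iso.some.symm (h.act g (repL (r i))) = 1).trans (map_one _).symm)).trans
            (map_one _).symm)) (repL_ne_one _)
      · exact ⟨1, Or.inl (by rw [h.iso.some.symm.injective (Subtype.ext e)]; group)⟩
      · rw [← Subgroup.coe_inv, ← map_inv] at e
        exact ⟨1, Or.inr (by rw [h.iso.some.symm.injective (Subtype.ext e)]; group)⟩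
    have h1 : r i ≤ r j := hmove ▸ (hmem (r i)).1 (List.getElem_mem _) g
    have h2 : r j ≤ r i := by
      have e : move (h.act g⁻¹) (r j) = r i := by
        rw [← hmove, ← move_mul, ← map_mul, inv_mul_cancel, map_one, move_one]
      exact e ▸ (hmem (r j)).1 (List.getElem_mem _) g⁻¹
    exact Fin.ext ((hnd.getElem_inj_iff).1 (le_antisymm h1 h2))
  · obtain ⟨x, hx3, hx1, rfl⟩ := exists_gen_three hX
    have hxL : x ∈ L := hXL (Subgroup.mem_zpowers x)
    obtain ⟨i, hi⟩ := exists_assoc_repL (x := h.iso.some ⟨x, hxL⟩)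
      (by rw [← map_mul, ← map_mul, show (⟨x, hxL⟩ : ↥L) * (⟨x, hxL⟩ * ⟨x, hxL⟩) = 1 from
        Subtype.ext hx3, map_one])
      (fun e => hx1 (congrArg Subtype.val (h.iso.some.injective (e.trans (map_one _).symm))))
    obtain ⟨g, -, hg⟩ := Finset.exists_min_image Finset.univ (fun k : Fin 24 =>
      if k ∈ six a b then (permFun k i : ℕ) else 13) ⟨0, Finset.mem_univ _⟩
    have hgm : g ∈ six a b := by
      by_contra hgm
      have := hg 0 (Finset.mem_univ _)
      rw [if_neg hgm, if_pos (by simp [six])] at this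
      exact absurd this (not_le.2 (Fin.is_lt _))
    obtain ⟨g, rfl⟩ := hout g hgm
    have hmin : ∀ g', move (h.act g) i ≤ move (h.act g') i := by
      intro g'
      have := hg (h.idx g') (Finset.mem_univ _)
      rw [if_pos hgm, if_pos (hin g')] at this
      rw [h.idx_spec, h.idx_spec]
      exact Fin.le_def.2 this
    have hrm : move (h.act g) i ∈ R := (hmem _).2 fun g' => by
      rw [← move_mul, ← map_mul]
      exact hmin _
    obtain ⟨j, hj, hje⟩ := List.getElem_of_mem hrm
    have hA : Assoc (h.act g (h.iso.some ⟨x, hxL⟩)) (repL (move (h.act g) i)) :=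
      (hi.map (h.act g).toMonoidHom).trans (move_spec _ _)
    obtain ⟨z, hz⟩ := hA
    refine ⟨⟨j, hlen ▸ hj⟩, (h.iso.some.symm z : G) * g, ?_⟩
    rw [MonoidHom.map_zpowers, MulEquiv.coe_toMonoidHom, MulAut.conj_apply]
    have e : (h.iso.some.symm z : G) * g * x * ((h.iso.some.symm z : G) * g)⁻¹
        = (h.iso.some.symm (z * h.act g (h.iso.some ⟨x, hxL⟩) * z⁻¹) : G) := by
      rw [map_mul, map_mul, map_inv, Subgroup.coe_mul, Subgroup.coe_mul, Subgroup.coe_inv, ← hconj,
        MulEquiv.symm_apply_apply]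
      group
    rw [e]
    simp only [Y0, r, hje]
    rcases hz with hz | hz <;> rw [hz]
    rw [map_inv, Subgroup.coe_inv, Subgroup.zpowers_inv]

end extension

/-- The extensions are isomorphic. -/
theorem IsExt.nonempty_mulEquiv {G G' : Type*} [Group G] [Finite G] [Group G'] [Finite G']
    {L : Subgroup G} [L.Normal] {L' : Subgroup G'} [L'.Normal] (h : IsExt L) (h' : IsExt L') :
    Nonempty (G ≃* G') := by
  classical
  obtain ⟨a, b, hrel, hin, hout⟩ := h.exists_pair
  obtain ⟨a', b', hrel', hin', hout'⟩ := h'.exists_pair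
  obtain ⟨-, k, ki, hk, hsub⟩ := pair_ok a b hrel.1 hrel.2.1 hrel.2.2.1 hrel.2.2.2.1 hrel.2.2.2.2
  obtain ⟨-, l, li, hl, hsub'⟩ :=
    pair_ok a' b' hrel'.1 hrel'.2.1 hrel'.2.2.1 hrel'.2.2.2.1 hrel'.2.2.2.2
  choose f hf using exists_perm
  have hinj : ∀ m mi x y : Fin 24, permProd mi m = 0 → permProd (permProd m x) mi
      = permProd (permProd m y) mi → x = y := by
    intro m mi x y hm e
    have hc : ∀ p, permFun mi (permFun m p) = p := fun p => by
      rw [← permFun_prod, hm, permFun_zero]
    refine permFun_injective x y fun i => ?_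
    have e' := congrArg (fun z => permFun mi (permFun z (permFun m i))) e
    simpa only [permFun_prod, hc] using e'
  -- every image of the first group is moved to one of the second
  have hmove : ∀ g, ∃ g', permProd (permProd k (h.idx g)) ki = permProd (permProd l (h'.idx g')) li := by
    intro g
    let ψ : {x // x ∈ (six a' b').toFinset} → {x // x ∈ (six 1 2).toFinset} := fun x =>
      ⟨permProd (permProd l x.1) li, List.mem_toFinset.2 (hsub' _ (List.mem_toFinset.1 x.2))⟩
    have hψ : Function.Injective ψ := fun x y e =>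
      Subtype.ext (hinj l li x.1 y.1 hl (congrArg Subtype.val e))
    have hcard : (six 1 2).toFinset.card ≤ (six a' b').toFinset.card := by
      have h6 : ∀ a b : Fin 24, permProd a (permProd a a) = 0 → a ≠ 0 → permProd b b = 0 → b ≠ 0 →
          permProd (permProd b a) b = permProd a a → (six a b).toFinset.card = 6 := by
        decide +kernel
      rw [h6 a' b' hrel'.1 hrel'.2.1 hrel'.2.2.1 hrel'.2.2.2.1 hrel'.2.2.2.2]
      exact (List.toFinset_card_le _).trans (le_of_eq rfl)
    have hsurj : Function.Surjective ψ :=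
      (hψ.bijective_of_nat_card_le (by
        simpa only [Nat.card_eq_fintype_card, Fintype.card_coe] using hcard)).2
    obtain ⟨⟨x, hx⟩, e⟩ := hsurj ⟨_, List.mem_toFinset.2 (hsub _ (hin g))⟩
    obtain ⟨g', rfl⟩ := hout' x (List.mem_toFinset.1 hx)
    exact ⟨g', (congrArg Subtype.val e).symm⟩
  set β := (f l)⁻¹ * f k
  have hinv : ∀ m mi : Fin 24, permProd mi m = 0 → ∀ i, permFun mi i = move (f m)⁻¹ i := by
    intro m mi hm i
    have e : move (f m) (move (f m)⁻¹ i) = i := by rw [← move_mul, mul_inv_cancel, move_one]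
    rw [hf] at e
    conv_lhs => rw [← e]
    rw [← permFun_prod, hm, permFun_zero]
  have hrange : ∀ g, ∃ g', h'.act g' = β * h.act g * β⁻¹ := by
    intro g
    obtain ⟨g', hg'⟩ := hmove g
    have e : moveHom (h'.act g') = moveHom (β * h.act g * β⁻¹) := by
      refine Equiv.ext fun i => ?_
      have e1 : ∀ i, move (f l * h'.act g' * (f l)⁻¹) i = move (f k * h.act g * (f k)⁻¹) i := by
        intro i
        simp only [move_mul, hf, h.idx_spec, h'.idx_spec, ← hinv l li hl, ← hinv k ki hk]
        have e3 := congrArg (fun z => permFun z i) hg'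
        simp only [permFun_prod] at e3
        exact e3.symm
      rw [moveHom_apply, moveHom_apply]
      have e2 := congrArg (move (f l)⁻¹) (e1 (move (f l) i))
      simp only [← move_mul] at e2
      simpa [β, mul_assoc] using e2
    have hker : (h'.act g')⁻¹ * (β * h.act g * β⁻¹) ∈ (MulAut.conj : L8 →* MulAut L8).range := by
      rw [← moveHom_spec.1, MonoidHom.mem_ker, map_mul, map_inv, e, inv_mul_cancel]
    obtain ⟨x, hx⟩ := hker
    refine ⟨g' * (h'.iso.some.symm x : G'), ?_⟩
    rw [map_mul, h'.act_mem, MulEquiv.apply_symm_apply, hx, mul_inv_cancel_left]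
  let χ : G →* MulAut L8 := (MulAut.conj β).toMonoidHom.comp h.act
  have hle : χ.range ≤ h'.act.range := by
    rintro _ ⟨g, rfl⟩
    obtain ⟨g', hg'⟩ := hrange g
    exact ⟨g', hg'⟩
  have hχ : Function.Injective χ := (MulAut.conj β).injective.comp h.act_injective
  have e1 := MonoidHom.ofInjective hχ
  have e2 := MonoidHom.ofInjective h'.act_injective
  have hfin : Finite h'.act.range := Finite.of_equiv _ e2.toEquiv
  have heq : χ.range = h'.act.range := Subgroup.eq_of_le_of_card_ge hle (by
    rw [← Nat.card_congr e1.toEquiv, ← Nat.card_congr e2.toEquiv, h.card_eq, h'.card_eq])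
  exact ⟨e1.trans ((MulEquiv.subgroupCongr heq).trans e2.symm)⟩

end CfsgLib.OmegaEight
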