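import Cfsg.Agent.OmegaEight.Checks

/-!
# The numbers of fixed vectors of the representatives and their images under triality
-/

set_option autoImplicit false

namespace CfsgLib.OmegaEight

theorem fixRep_ok : repC.map (fun p => fixC p.2)
    = [(297, 216), (81, 0), (81, 0), (81, 0), (81, 0), (243, 216), (45, 18), (243, 270), (27, 0), (27, 54), (27, 54), (27, 0), (9, 36)] := by
  decide +kernel

theorem fixOne_ok : triOneC.map (fun p => fixC p.2)
    = [(297, 216), (81, 0), (243, 216), (81, 0), (243, 270), (81, 0), (45, 18), (81, 0), (27, 0), (27, 54), (27, 0), (27, 54), (9, 36)] := by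
  decide +kernel

theorem fixTwo_ok : triTwoC.map (fun p => fixC p.2)
    = [(297, 216), (243, 216), (81, 0), (243, 270), (81, 0), (81, 0), (45, 18), (81, 0), (27, 0), (27, 0), (27, 54), (27, 54), (9, 36)] := by
  decide +kernel

end CfsgLib.OmegaEight
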