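import Cfsg.Agent.OmegaEight.Checks
import Cfsg.Agent.Forms.OrthIndex
import Cfsg.Agent.Forms4.POmegaOrders

/-!
# A Sylow subgroup of the eight dimensional orthogonal group over three elements

The group, its elements given by codes, its quotient by the centre, and the Sylow subgroup.
-/

set_option autoImplicit false

namespace CfsgLib.OmegaEight

open Matrix CfsgLib.StdForms
open CfsgLib.OmegaSeven (Row)

/-- The form. -/
noncomputable abbrev Q8 : QuadraticForm (ZMod 3) (I8 → ZMod 3) := plusQ 4 (ZMod 3)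

/-- The isometry group. -/
abbrev O8 := ↥(Cfsg.isometryGroup (ZMod 3) ⇑Q8)

/-- Its commutator subgroup. -/
abbrev G8 := ↥(Cfsg.Omega (ZMod 3) ⇑Q8)

/-- The simple group. -/
abbrev L8 := Cfsg.POmega (ZMod 3) ⇑Q8

/-- The projection. -/
noncomputable abbrev toL : G8 →* L8 := QuotientGroup.mk' (Subgroup.center G8)

/-- The matrix of an element. -/
noncomputable def toM : G8 →* Matrix I8 I8 (ZMod 3) :=
  (Units.coeHom _).comp ((Cfsg.isometryGroup (ZMod 3) ⇑Q8).subtype.comp
    (Cfsg.Omega (ZMod 3) ⇑Q8).subtype)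

theorem toM_injective : Function.Injective toM := fun _ _ h =>
  Subtype.ext (Subtype.ext (Units.ext h))

theorem two_ne_zero3 : (2 : ZMod 3) ≠ 0 := by decide

theorem nondeg8 : (QuadraticMap.polarBilin Q8).Nondegenerate := plusQ_nondegenerate 4

theorem gen8 (g : O8) : ∃ vs, CfsgLib.Spinor.IsReflProd Q8 g vs :=
  CfsgLib.Spinor.exists_isReflProd two_ne_zero3 nondeg8 g

/-- Squares lie in the commutator subgroup. -/
theorem sq_mem (g : O8) : g * g ∈ Cfsg.Omega (ZMod 3) ⇑Q8 := by
  classical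
  rw [CfsgLib.Forms.omega_eq_ker nondeg8 gen8 two_ne_zero3, MonoidHom.mem_ker, map_mul]
  exact Prod.ext (Int.units_mul_self _) (Int.units_mul_self _)

theorem quad_gram (v : I8 → ZMod 3) : Q8 v = 2 * (v ⬝ᵥ (toMat gramC *ᵥ v)) := by
  have hG : ∀ a b : I8, toMat gramC a b = if (∃ i, a = Sum.inl i ∧ b = Sum.inr i) ∨
        (∃ i, b = Sum.inl i ∧ a = Sum.inr i) then 1 else 0 := by
    simp only [toMat, Matrix.of_apply]
    decide +kernel
  rw [plusQ_apply]
  simp [Cfsg.quadFormPlus, Matrix.mulVec, dotProduct, Fintype.sum_sum_type, Fin.sum_univ_four, hG]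
  linear_combination (-(v (Sum.inl 0) * v (Sum.inr 0)) - v (Sum.inl 1) * v (Sum.inr 1)
    - v (Sum.inl 2) * v (Sum.inr 2) - v (Sum.inl 3) * v (Sum.inr 3))
      * (by decide : (3 : ZMod 3) = 0)

/-- A code is that of a member of the group. -/
def El (A : List Row) : Prop := normM A = true ∧ ∃ g : G8, toM g = toMat A

open Classical in
/-- The element of a code. -/
noncomputable def elem (A : List Row) : G8 := if h : El A then h.2.choose else 1

theorem toM_elem {A : List Row} (h : El A) : toM (elem A) = toMat A := by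
  rw [elem, dif_pos h]
  exact h.2.choose_spec

theorem elem_inj {A B : List Row} (hA : El A) (hB : El B) (h : elem A = elem B) : A = B :=
  code_eq_of_toMat hA.1 hB.1 (by rw [← toM_elem hA, h, toM_elem hB])

theorem El.mul {A B : List Row} (hA : El A) (hB : El B) : El (mulC A B) :=
  ⟨norm_mul hA.1 hB.1, hA.2.choose * hB.2.choose, by
    rw [map_mul, hA.2.choose_spec, hB.2.choose_spec, toMat_mul A hB.1]⟩

theorem El.one : El oneC := ⟨norm_one, 1, by rw [map_one, toMat_one]⟩

theorem elem_mul {A B : List Row} (hA : El A) (hB : El B) : elem (mulC A B) = elem A * elem B :=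
  toM_injective (by rw [map_mul, toM_elem (hA.mul hB), toM_elem hA, toM_elem hB, toMat_mul A hB.1])

theorem elem_one : elem oneC = 1 :=
  toM_injective (by rw [toM_elem El.one, toMat_one, map_one])

theorem El.getD {gens : List (List Row)} (h : ∀ g ∈ gens, El g) (k : ℕ) : El (gens.getD k oneC) := by
  rw [List.getD_eq_getElem?_getD]
  cases hk : gens[k]? with
  | none => exact El.one
  | some g => exact h g (List.mem_of_getElem? hk)

theorem El.eval {gens : List (List Row)} (h : ∀ g ∈ gens, El g) : ∀ w, El (evalC gens w)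
  | [] => El.one
  | k :: w => El.mul (El.getD h k) (El.eval h w)

theorem El.pow {A : List Row} (hA : El A) (s : ℕ) : El (powC A s) := by
  unfold powC; split
  · exact hA
  · exact hA.mul hA

theorem elem_eval_mem {gens : List (List Row)} (h : ∀ g ∈ gens, El g) {H : Subgroup G8}
    (hH : ∀ g ∈ gens, elem g ∈ H) : ∀ w, elem (evalC gens w) ∈ H
  | [] => by rw [evalC, elem_one]; exact one_mem H
  | k :: w => by
    have hk : elem (gens.getD k oneC) ∈ H := by
      rw [List.getD_eq_getElem?_getD]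
      cases hk : gens[k]? with
      | none => rw [Option.getD_none, elem_one]; exact one_mem H
      | some g => exact hH g (List.mem_of_getElem? hk)
    rw [evalC, elem_mul (El.getD h k) (El.eval h w)]
    exact mul_mem hk (elem_eval_mem h hH w)

theorem transpose_checkTr {p : List Row × List Row} (h : checkTr p = true) :
    toMat p.2 = (toMat p.1)ᵀ := by
  simp only [checkTr, Bool.and_eq_true, beq_iff_eq, List.all_eq_true, List.mem_range] at h
  ext a b
  obtain ⟨e1, e2⟩ := h (pos b) (pos_lt b) (pos a) (pos_lt a)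
  simp only [toMat, CfsgLib.OmegaSeven.rowVal, Matrix.transpose_apply, Matrix.of_apply, e1, e2]

theorem El.of_checkGen {p : List Row × List Row} (h : checkGen p = true) :
    El p.1 ∧ elem p.1 * (elem p.1 * elem p.1) = 1 := by
  simp only [checkGen, Bool.and_eq_true, beq_iff_eq] at h
  obtain ⟨⟨⟨⟨h1, h2⟩, h3⟩, h4⟩, h5⟩ := h
  set M := toMat p.1 with hM
  have hcube : M * (M * M) = 1 := by
    rw [hM, ← toMat_mul _ h1, ← toMat_mul _ (norm_mul h1 h1), h3, toMat_one]
  have hgram : Mᵀ * toMat gramC * M = toMat gramC := by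
    rw [← transpose_checkTr h5, hM, ← toMat_mul _ (by decide), ← toMat_mul _ h1, h4]
  let u : GL I8 (ZMod 3) := ⟨M, M * M, hcube, by rw [mul_assoc, hcube]⟩
  have hu : u ∈ Cfsg.isometryGroup (ZMod 3) ⇑Q8 := by
    intro x y
    show Q8 (M *ᵥ x) = Q8 x
    rw [quad_gram, quad_gram, Matrix.mulVec_mulVec, dotProduct_comm, Matrix.dotProduct_mulVec,
      ← Matrix.mulVec_transpose, Matrix.mulVec_mulVec, ← Matrix.mul_assoc, hgram,
      dotProduct_comm (toMat gramC *ᵥ x)]
  set g0 : O8 := ⟨u, hu⟩ with hg0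
  have h3' : g0 * (g0 * g0) = 1 := Subtype.ext (Units.ext hcube)
  have e : g0 * g0 * (g0 * g0) = g0 := by
    calc g0 * g0 * (g0 * g0) = g0 * (g0 * (g0 * g0)) := by simp only [mul_assoc]
      _ = g0 := by rw [h3', mul_one]
  have hΩ : g0 ∈ Cfsg.Omega (ZMod 3) ⇑Q8 := by
    rw [← e]; exact mul_mem (sq_mem g0) (sq_mem g0)
  have hE : El p.1 := ⟨h1, ⟨g0, hΩ⟩, rfl⟩
  refine ⟨hE, toM_injective ?_⟩
  rw [map_mul, map_mul, map_one, toM_elem hE]
  exact hcube

theorem el_gens24 : ∀ g ∈ gens24, El g := by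
  intro g hg
  obtain ⟨p, hp, rfl⟩ := List.mem_map.1 hg
  exact (El.of_checkGen (List.all_eq_true.1 gens_ok p hp)).1

theorem el_sub {is : List ℕ} : ∀ g ∈ is.map (fun i => gens24.getD i oneC), El g := by
  intro g hg
  obtain ⟨i, -, rfl⟩ := List.mem_map.1 hg
  exact El.getD el_gens24 i

theorem el_qGens : ∀ g ∈ qGens, El g := el_sub
theorem el_lGens : ∀ g ∈ lGens, El g := el_sub
theorem el_lAll : ∀ g ∈ lAll, El g := el_sub
theorem el_simpleGens : ∀ g ∈ simpleGens, El g := el_sub

/-- The subgroup generated by coded elements. -/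
noncomputable def genSub (gs : List (List Row)) : Subgroup G8 :=
  Subgroup.closure {x | ∃ g ∈ gs, elem g = x}

theorem mem_genSub_of {gs : List (List Row)} {g : List Row} (hg : g ∈ gs) : elem g ∈ genSub gs :=
  Subgroup.subset_closure ⟨g, hg, rfl⟩

/-- A closed list is the generated subgroup. -/
theorem mem_genSub {gs : List (List Row)} (hgs : ∀ g ∈ gs, El g) {L : List (List Row × ℕ × ℕ)}
    {next : List (List ℕ)} (h : checkClosed gs L next = true) :
    (∀ A ∈ L.map Prod.fst, El A) ∧ ∀ x, x ∈ genSub gs ↔ ∃ A ∈ L.map Prod.fst, elem A = x := by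
  simp only [checkClosed, Bool.and_eq_true, List.all_eq_true, List.mem_range, Bool.or_eq_true,
    beq_iff_eq, decide_eq_true_eq, Nat.beq_eq, Nat.blt_eq] at h
  obtain ⟨⟨⟨h0, hlen⟩, hpar⟩, hcl⟩ := h
  have hmem : ∀ k, k < L.length →
      El (L.getD k ([], 0, 0)).1 ∧ elem (L.getD k ([], 0, 0)).1 ∈ genSub gs := by
    intro k
    induction k using Nat.strong_induction_on with
    | _ k ih =>
      intro hk
      rcases Nat.eq_zero_or_pos k with rfl | hk0
      · rw [h0, elem_one]; exact ⟨El.one, one_mem _⟩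
      · obtain ⟨hp, he⟩ := (hpar k hk).resolve_left (by omega)
        obtain ⟨hE, hm⟩ := ih _ hp (by omega)
        have hg : elem (gs.getD (L.getD k ([], 0, 0)).2.2 oneC) ∈ genSub gs := by
          rw [List.getD_eq_getElem?_getD (l := gs)]
          cases hk' : gs[(L.getD k ([], 0, 0)).2.2]? with
          | none => rw [Option.getD_none, elem_one]; exact one_mem _
          | some g => exact mem_genSub_of (List.mem_of_getElem? hk')
        rw [← he, elem_mul hE (El.getD hgs _)]
        exact ⟨hE.mul (El.getD hgs _), mul_mem hm hg⟩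
  have hget : ∀ A ∈ L.map Prod.fst, ∃ k < L.length, (L.getD k ([], 0, 0)).1 = A := by
    intro A hA
    obtain ⟨x, hx, rfl⟩ := List.mem_map.1 hA
    obtain ⟨k, hk, e⟩ := List.getElem_of_mem hx
    exact ⟨k, hk, by rw [List.getD_eq_getElem _ _ hk, e]⟩
  have hEl : ∀ A ∈ L.map Prod.fst, El A := fun A hA => by
    obtain ⟨k, hk, rfl⟩ := hget A hA
    exact (hmem k hk).1
  have hclosed : ∀ A ∈ L.map Prod.fst, ∀ g ∈ gs, mulC A g ∈ L.map Prod.fst := by
    intro A hA g hg
    obtain ⟨k, hk, rfl⟩ := hget A hA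
    obtain ⟨l, hl, rfl⟩ := List.getElem_of_mem hg
    have hk' : k < (List.zip L next).length := by rw [List.length_zip]; omega
    obtain ⟨⟨-, hl'⟩, hz⟩ := hcl _ (List.getElem_mem hk')
    rw [List.getElem_zip] at hl' hz
    simp only at hl' hz
    have hlz : l < (List.zip gs next[k]).length := by rw [List.length_zip]; omega
    obtain ⟨hlt, e⟩ := hz _ (List.getElem_mem hlz)
    rw [List.getElem_zip] at hlt e
    simp only at hlt e
    rw [List.getD_eq_getElem _ _ hk, e, List.getD_eq_getElem _ _ hlt]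
    exact List.mem_map_of_mem (List.getElem_mem _)
  refine ⟨hEl, fun x => ⟨fun hx => ?_, ?_⟩⟩
  · have hne : L ≠ [] := by
      rintro rfl
      simp [oneC] at h0
    have hone : oneC ∈ L.map Prod.fst := by
      rw [← h0, List.getD_eq_getElem _ _ (List.length_pos_iff.2 hne)]
      exact List.mem_map_of_mem (List.getElem_mem _)
    rw [genSub, ← Subgroup.mem_toSubmonoid, Subgroup.closure_toSubmonoid_of_finite] at hx
    induction hx using Submonoid.closure_induction_right with
    | one => exact ⟨oneC, hone, elem_one⟩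
    | mul_right a _ y hy ih =>
      obtain ⟨A, hA, rfl⟩ := ih
      obtain ⟨g, hg, rfl⟩ := hy
      exact ⟨mulC A g, hclosed A hA g hg, elem_mul (hEl _ hA) (hgs g hg)⟩
  · rintro ⟨A, hA, rfl⟩
    obtain ⟨k, hk, rfl⟩ := hget A hA
    exact (hmem k hk).2

/-- The radical. -/
noncomputable def qSub : Subgroup G8 := genSub qGens

/-- The Levi part. -/
noncomputable def lSub : Subgroup G8 := genSub lGens

theorem mem_qSub {x : G8} : x ∈ qSub ↔ ∃ A ∈ qMats, elem A = x :=
  (mem_genSub el_qGens qClosed_ok).2 x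

theorem el_qMats : ∀ A ∈ qMats, El A := (mem_genSub el_qGens qClosed_ok).1

theorem mem_lSub {x : G8} : x ∈ lSub ↔ ∃ A ∈ lMats, elem A = x :=
  (mem_genSub el_lGens lClosed_ok).2 x

theorem el_lMats : ∀ A ∈ lMats, El A := (mem_genSub el_lGens lClosed_ok).1

theorem lAll_le : genSub lAll ≤ Subgroup.normalizer (qSub : Set G8) := by
  rw [genSub, Subgroup.closure_le]
  rintro _ ⟨g, hg, rfl⟩
  refine Subgroup.mem_normalizer_iff_map_conj_eq.2 ?_
  have hle : qSub.map (MulAut.conj (elem g)).toMonoidHom ≤ qSub := by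
    rw [Subgroup.map_le_iff_le_comap]
    unfold qSub genSub
    rw [Subgroup.closure_le]
    rintro _ ⟨q, hq, rfl⟩
    show elem g * elem q * (elem g)⁻¹ ∈ qSub
    have h := List.all_eq_true.1 (List.all_eq_true.1 normalise_ok g hg) q hq
    simp only [List.any_eq_true, beq_iff_eq] at h
    obtain ⟨q', hq', e⟩ := h
    have e' := congrArg elem e
    rw [elem_mul (el_lAll g hg) (el_qGens q hq), elem_mul (el_qMats q' hq') (el_lAll g hg)] at e'
    rw [e', mul_inv_cancel_right]
    exact mem_qSub.2 ⟨q', hq', rfl⟩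
  refine Subgroup.eq_of_le_of_card_ge hle (le_of_eq ?_)
  exact Nat.card_congr (Subgroup.equivMapOfInjective _ _ (MulAut.conj (elem g)).injective).toEquiv

theorem lSub_le : lSub ≤ genSub lAll :=
  Subgroup.closure_mono (by
    rintro _ ⟨g, hg, rfl⟩
    exact ⟨g, List.contains_iff_mem.1 (List.all_eq_true.1 lGens_sub g hg), rfl⟩)

theorem normal_q {l q : G8} (hl : l ∈ genSub lAll) (hq : q ∈ qSub) : l * q * l⁻¹ ∈ qSub :=
  (Subgroup.mem_normalizer_iff.1 (lAll_le hl) q).1 hq

theorem inf_eq_one {x : G8} (hq : x ∈ qSub) (hl : x ∈ lSub) : x = 1 := by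
  obtain ⟨A, hA, rfl⟩ := mem_qSub.1 hq
  obtain ⟨B, hB, hBA⟩ := mem_lSub.1 hl
  have e := elem_inj (el_lMats B hB) (el_qMats A hA) hBA
  subst e
  have hA' := List.all_eq_true.1 key_ok.1 B hA
  have hB1 := List.all_eq_true.1 key_ok.2 B hB
  simp only [Bool.or_eq_true, beq_iff_eq, Bool.not_eq_true', beq_eq_false_iff_ne] at hA' hB1
  rcases hA' with rfl | h
  · exact elem_one
  · exact absurd hB1 h

theorem nodup_of_distinctB : ∀ {l : List ℕ}, distinctB l = true → l.Nodup
  | [], _ => List.nodup_nil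
  | a :: l, h => by
    simp only [distinctB, Bool.and_eq_true, List.all_eq_true, Bool.not_eq_true'] at h
    refine List.nodup_cons.2 ⟨fun ha => ?_, nodup_of_distinctB h.2⟩
    have := h.1 a ha
    simp at this

theorem card_genSub {gs : List (List Row)} (hgs : ∀ g ∈ gs, El g) {L : List (List Row × ℕ × ℕ)}
    {next : List (List ℕ)} (h : checkClosed gs L next = true) {key : List Row → ℕ}
    (hd : distinctB ((L.map Prod.fst).map key) = true) :
    Nat.card (genSub gs) = L.length := by
  classical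
  obtain ⟨hEl, hmem⟩ := mem_genSub hgs h
  have hnd : ((L.map Prod.fst).map elem).Nodup :=
    (nodup_of_distinctB hd).of_map key |>.map_on fun A hA B hB e => elem_inj (hEl A hA) (hEl B hB) e
  have hset : (genSub gs : Set G8) = ↑((L.map Prod.fst).map elem).toFinset := by
    ext x
    rw [SetLike.mem_coe, hmem, Finset.mem_coe, List.mem_toFinset, List.mem_map]
  rw [← SetLike.coe_sort_coe, hset, Nat.card_coe_set_eq, Set.ncard_coe_finset,
    List.toFinset_card_of_nodup hnd, List.length_map, List.length_map]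

/-- The Sylow subgroup. -/
noncomputable def uSub : Subgroup G8 := qSub ⊔ lSub

theorem mem_uSub {x : G8} : x ∈ uSub ↔ ∃ q ∈ qSub, ∃ l ∈ lSub, q * l = x := by
  rw [uSub, ← SetLike.mem_coe, Subgroup.coe_mul_of_right_le_normalizer_left _ _ (lSub_le.trans lAll_le),
    Set.mem_mul]
  simp only [SetLike.mem_coe]

theorem card_uSub : Nat.card uSub = 3 ^ 12 := by
  have hq : Nat.card qSub = 729 :=
    (card_genSub el_qGens qClosed_ok qKeys_ok).trans (by decide +kernel)
  have hl : Nat.card lSub = 729 :=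
    (card_genSub el_lGens lClosed_ok lKeys_ok).trans (by decide +kernel)
  let f : qSub × lSub → uSub := fun p => ⟨p.1.1 * p.2.1, mem_uSub.2 ⟨_, p.1.2, _, p.2.2, rfl⟩⟩
  have hf : Function.Bijective f := by
    refine ⟨fun a b e => ?_, fun x => ?_⟩
    · have e' : a.1.1 * a.2.1 = b.1.1 * b.2.1 := congrArg Subtype.val e
      have h1 : b.1.1⁻¹ * a.1.1 = 1 := by
        refine inf_eq_one (mul_mem (inv_mem b.1.2) a.1.2) ?_
        rw [show b.1.1⁻¹ * a.1.1 = b.2.1 * a.2.1⁻¹ by
          rw [eq_mul_inv_iff_mul_eq, mul_assoc, e', inv_mul_cancel_left]]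
        exact mul_mem b.2.2 (inv_mem a.2.2)
      have h2 : b.1.1 = a.1.1 := inv_mul_eq_one.1 h1
      rw [← h2] at e'
      exact Prod.ext (Subtype.ext h2.symm) (Subtype.ext (mul_left_cancel e'))
    · obtain ⟨q, hq, l, hl, e⟩ := mem_uSub.1 x.2
      exact ⟨(⟨q, hq⟩, ⟨l, hl⟩), Subtype.ext e⟩
  rw [← Nat.card_congr (Equiv.ofBijective f hf), Nat.card_prod, hq, hl]
  norm_num

theorem card_center : Nat.card (Subgroup.center G8) = 2 := by
  obtain ⟨g, hg, hgv⟩ : ∃ g : O8, g ∈ Cfsg.Omega (ZMod 3) ⇑Q8 ∧ CfsgLib.Spinor.mat Q8 g = -1 := by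
    have h := (Cfsg.Agent.S0790.result (F := ZMod 3) (ZMod.card 3) (by decide) 4 (by norm_num)).2
      (by norm_num)
    rw [← coe_plusQ] at h
    exact h
  exact CfsgLib.Forms4.card_center_omega_two nondeg8 (by simp) (CfsgLib.Forms4.plusPairs 4 (by norm_num))
    two_ne_zero3 hg hgv

theorem card_L8 : Nat.card L8 = 4952179814400 := by
  have h := CfsgLib.Forms4.card_pOmegaPlus (F := ZMod 3) (ZMod.card 3) 4 le_rfl
  rw [← coe_plusQ] at h
  norm_num [Finset.prod_range_succ] at h
  change 4 * Nat.card L8 = _ at h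
  omega

theorem card_G8 : Nat.card G8 = 9904359628800 := by
  rw [(Subgroup.center G8).card_eq_card_quotient_mul_card_subgroup, card_center,
    show Nat.card (G8 ⧸ Subgroup.center G8) = Nat.card L8 from rfl, card_L8]

theorem toL_eq_iff {a b : G8} : toL a = toL b ↔ a⁻¹ * b ∈ Subgroup.center G8 :=
  QuotientGroup.eq

theorem sq_of_center {z : G8} (hz : z ∈ Subgroup.center G8) : z ^ 2 = 1 := by
  have e := pow_card_eq_one' (G := Subgroup.center G8) (x := ⟨z, hz⟩)
  rw [card_center] at e
  exact congrArg Subtype.val e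

/-- A lift of cube one is unique. -/
theorem lift_eq {a b : G8} (ha : a * (a * a) = 1) (hb : b * (b * b) = 1) (h : toL a = toL b) :
    a = b := by
  have hz : a⁻¹ * b ∈ Subgroup.center G8 := toL_eq_iff.1 h
  set z := a⁻¹ * b
  have hb' : b = a * z := (mul_inv_cancel_left a b).symm
  have hc : Commute a z := (Subgroup.mem_center_iff.1 hz a)
  have hz2 : z ^ 2 = 1 := sq_of_center hz
  have hz3 : z ^ 3 = 1 := by
    have e : (a * z) ^ 3 = a ^ 3 * z ^ 3 := hc.mul_pow 3
    rw [← hb', show b ^ 3 = 1 by rw [pow_succ', pow_two]; exact hb,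
      show a ^ 3 = 1 by rw [pow_succ', pow_two]; exact ha, one_mul] at e
    exact e.symm
  rw [hb', show z = 1 by rw [← hz3, pow_succ, hz2, one_mul], mul_one]

theorem exists_lift {x : L8} (hx : x * (x * x) = 1) : ∃ y : G8, y * (y * y) = 1 ∧ toL y = x := by
  obtain ⟨y, rfl⟩ := QuotientGroup.mk'_surjective (Subgroup.center G8) x
  have h3 : y ^ 3 ∈ Subgroup.center G8 := by
    rw [← QuotientGroup.eq_one_iff, pow_succ', pow_two]
    exact hx
  have h6 : y ^ 6 = 1 := (pow_mul y 3 2).trans (sq_of_center h3)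
  refine ⟨y ^ 4, ?_, ?_⟩
  · rw [← pow_add, ← pow_add, show 4 + (4 + 4) = 6 * 2 from rfl, pow_mul, h6, one_pow]
  · rw [pow_succ y 3, map_mul]
    rw [show toL (y ^ 3) = 1 from (QuotientGroup.eq_one_iff _).2 h3, one_mul]

end CfsgLib.OmegaEight
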