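import Cfsg.Agent.OmegaEight.Triality
import Cfsg.Agent.OmegaEight.FixChecks

/-!
# The thirteen elements are not conjugate up to inversion

The numbers of fixed vectors of given values of the form, of an element and of its two images
under triality, tell them apart.
-/

set_option autoImplicit false

namespace CfsgLib.OmegaEight

open Matrix
open CfsgLib.OmegaSeven (Row rowVal)

/-- The number of fixed vectors of a given value of the form. -/
noncomputable def fixCount (g : G8) (c : ZMod 3) : ℕ :=
  Nat.card {v : I8 → ZMod 3 // toM g *ᵥ v = v ∧ Q8 v = c}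

theorem quad_toM (g : G8) (v : I8 → ZMod 3) : Q8 (toM g *ᵥ v) = Q8 v :=
  g.1.2 v v

theorem mulVec_toM (g h : G8) (v : I8 → ZMod 3) :
    toM g *ᵥ (toM h *ᵥ v) = toM (g * h) *ᵥ v := by
  rw [map_mul, Matrix.mulVec_mulVec]

theorem one_mulVec_toM (v : I8 → ZMod 3) : toM (1 : G8) *ᵥ v = v := by
  rw [map_one, Matrix.one_mulVec]

theorem fixCount_conj (g h : G8) (c : ZMod 3) : fixCount (h * g * h⁻¹) c = fixCount g c := by
  let e : (I8 → ZMod 3) ≃ (I8 → ZMod 3) :=
    { toFun := fun v => toM h⁻¹ *ᵥ v
      invFun := fun v => toM h *ᵥ v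
      left_inv := fun v => by simp only [mulVec_toM, mul_inv_cancel, one_mulVec_toM]
      right_inv := fun v => by simp only [mulVec_toM, inv_mul_cancel, one_mulVec_toM] }
  refine Nat.card_congr (e.subtypeEquiv fun v => ?_)
  show _ ↔ toM g *ᵥ (toM h⁻¹ *ᵥ v) = toM h⁻¹ *ᵥ v ∧ Q8 (toM h⁻¹ *ᵥ v) = c
  rw [quad_toM]
  refine and_congr_left fun _ => ?_
  rw [mulVec_toM, show g * h⁻¹ = h⁻¹ * (h * g * h⁻¹) by group, ← mulVec_toM h⁻¹]
  exact e.injective.eq_iff.symm

theorem fixCount_inv (g : G8) (c : ZMod 3) : fixCount g⁻¹ c = fixCount g c := by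
  refine Nat.card_congr (Equiv.subtypeEquivRight fun v => and_congr_left fun _ => ⟨fun h => ?_, fun h => ?_⟩)
  · conv_lhs => rw [← h]
    rw [mulVec_toM, mul_inv_cancel, one_mulVec_toM]
  · conv_lhs => rw [← h]
    rw [mulVec_toM, inv_mul_cancel, one_mulVec_toM]

theorem fixCount_assoc {a b : G8} (h : Assoc a b) (c : ZMod 3) : fixCount a c = fixCount b c := by
  obtain ⟨g, h⟩ := h
  rw [← fixCount_conj a g c]
  rcases h with h | h <;> rw [h]
  exact fixCount_inv b c

/-- The position as a member of `Fin 8`. -/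
noncomputable def posEquiv : I8 ≃ Fin 8 :=
  Equiv.ofBijective (fun a => (⟨pos a, pos_lt a⟩ : Fin 8)) (by decide)

/-- The vector of a coded row. -/
def vec (r : Row) : I8 → ZMod 3 := fun a => rowVal r (pos a)

theorem norm_vecC : ((List.range 6561).all fun n => normR (vecC n)) = true := by decide +kernel

theorem rowVal_vecC : ((List.range 6561).all fun n => (List.range 8).all fun j =>
    (if (vecC n).1.testBit j then 1 else if (vecC n).2.testBit j then 2 else 0) == n / 3 ^ j % 3)
      = true := by
  decide +kernel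

/-- The vectors by their numbers. -/
noncomputable def vecEquiv : Fin (3 ^ 8) ≃ (I8 → ZMod 3) :=
  finFunctionFinEquiv.symm.trans (posEquiv.symm.arrowCongr (Equiv.refl (Fin 3)))

theorem vecEquiv_apply (n : Fin (3 ^ 8)) : vecEquiv n = vec (vecC n) := by
  funext a
  have hn : (n : ℕ) < 6561 := n.2.trans_eq (by norm_num)
  have h := List.all_eq_true.1 (List.all_eq_true.1 rowVal_vecC n (List.mem_range.2 hn)) (pos a)
    (List.mem_range.2 (pos_lt a))
  rw [beq_iff_eq] at h
  have e : ZMod.val (vecEquiv n a) = (n : ℕ) / 3 ^ pos a % 3 := by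
    show ((finFunctionFinEquiv.symm n (posEquiv a) : Fin 3) : ℕ) = _
    rw [finFunctionFinEquiv_symm_apply_val]
    rfl
  rw [← h] at e
  refine ZMod.val_injective 3 (e.trans ?_)
  simp only [vec, rowVal]
  split_ifs <;> rfl

theorem vec_combo {T : List Row} (hT : normM T = true) (r : Row) :
    vec (comboR T r.1 r.2) = (toMat T)ᵀ *ᵥ vec r := by
  funext a
  obtain ⟨hl, hn⟩ := normM_iff.1 hT
  rw [vec, (comboR_spec T hn r.1 r.2).2, hl]
  refine (sum_pos fun j => rowVal r j * rowVal (T.getD j (0, 0)) (pos a)).trans ?_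
  rw [Matrix.mulVec_transpose]
  rfl

theorem qVal_vec (r : Row) : Q8 (vec r) = ((qVal r : ℕ) : ZMod 3) := by
  have h : ∀ j, rowVal r j
      = (((if r.1.testBit j then 1 else if r.2.testBit j then 2 else 0) : ℕ) : ZMod 3) := fun j => by
    simp only [rowVal]
    split_ifs <;> simp
  rw [CfsgLib.StdForms.plusQ_apply]
  simp only [Cfsg.quadFormPlus, vec, Fin.sum_univ_four, h, pos, qVal, ZMod.natCast_mod, Nat.cast_add,
    Nat.cast_mul, Fin.val_zero, Fin.val_one, Fin.val_two, Nat.reduceAdd]
  rfl

theorem qVal_lt (r : Row) : qVal r < 3 := Nat.mod_lt _ (by norm_num)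

theorem foldr_count {α : Type*} (p q0 q1 : α → Bool) : ∀ l : List α,
    l.foldr (fun n acc => if p n then
      (if q0 n then (acc.1 + 1, acc.2) else if q1 n then (acc.1, acc.2 + 1) else acc) else acc) (0, 0)
    = (l.countP fun n => p n && q0 n, l.countP fun n => p n && !q0 n && q1 n) := by
  intro l
  induction l with
  | nil => rfl
  | cons a l ih =>
    rw [List.foldr_cons, ih, List.countP_cons, List.countP_cons]
    cases p a <;> cases q0 a <;> cases q1 a <;> simp

theorem countP_range (N : ℕ) (p : ℕ → Bool) :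
    (List.range N).countP p = Nat.card {n : Fin N // p n = true} := by
  classical
  have hr : List.range N = (List.finRange N).map Fin.val := by apply List.ext_getElem <;> simp
  rw [Nat.card_eq_fintype_card, Fintype.card_subtype, hr, List.countP_map,
    Finset.card_def, Finset.filter_val, Finset.val_univ_fin, Multiset.filter_coe,
    Multiset.coe_card, List.countP_eq_length_filter]
  simp [Function.comp_def]

/-- The counts of a certificate are the numbers of fixed vectors. -/
theorem fixC_eq {p : List Row × List Row} (h : checkGen p = true) :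
    fixC p.2 = (fixCount (elem p.1) 0, fixCount (elem p.1) 1) := by
  have hE := (El.of_checkGen h).1
  simp only [checkGen, Bool.and_eq_true, beq_iff_eq] at h
  obtain ⟨⟨⟨⟨-, hT⟩, -⟩, -⟩, h5⟩ := h
  have hTr : (toMat p.2)ᵀ = toMat p.1 := by rw [transpose_checkTr h5, Matrix.transpose_transpose]
  have key : ∀ (c : ℕ), c < 3 → (List.range 6561).countP
      (fun n => (comboR p.2 (vecC n).1 (vecC n).2 == vecC n) && (qVal (vecC n) == c))
      = fixCount (elem p.1) c := by
    intro c hc
    rw [countP_range, fixCount, toM_elem hE]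
    refine Nat.card_congr (((finCongr (by norm_num : (6561 : ℕ) = 3 ^ 8)).trans vecEquiv).subtypeEquiv
      fun n => ?_)
    rw [Equiv.trans_apply, vecEquiv_apply, finCongr_apply_coe, ← hTr, ← vec_combo hT, qVal_vec,
      Bool.and_eq_true, beq_iff_eq, beq_iff_eq]
    refine and_congr ⟨fun e => by rw [e], fun e => ?_⟩ ?_
    · exact row_eq_of_rowVal (comboR_spec p.2 (normM_iff.1 hT).2 _ _).1
        (List.all_eq_true.1 norm_vecC n (List.mem_range.2 n.2)) (fun a => congrFun e a)
    · constructor
      · intro e; rw [e]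
      · intro e
        have := congrArg ZMod.val e
        rwa [ZMod.val_natCast, ZMod.val_natCast, Nat.mod_eq_of_lt (qVal_lt _),
          Nat.mod_eq_of_lt hc] at this
  have k0 := key 0 (by norm_num)
  have k1 := key 1 (by norm_num)
  simp only [Nat.cast_zero, Nat.cast_one] at k0 k1
  rw [← k0, ← k1, fixC, foldr_count]
  refine congrArg₂ Prod.mk (List.countP_congr fun n _ => Iff.rfl) (List.countP_congr fun n _ => ?_)
  simp only [Bool.and_eq_true, beq_iff_eq, Bool.not_eq_true', beq_eq_false_iff_ne]
  exact ⟨fun h => ⟨h.1.1, h.2⟩, fun h => ⟨⟨h.1, by omega⟩, h.2⟩⟩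

/-- The counts of a list of certificates. -/
theorem counts_getD {L : List (List Row × List Row)} {f : List (ℕ × ℕ)}
    (hf : L.map (fun p => fixC p.2) = f) {i : ℕ} (hi : i < L.length)
    (h : checkGen (L.getD i ([], [])) = true) :
    (fixCount (elem (L.getD i ([], [])).1) 0, fixCount (elem (L.getD i ([], [])).1) 1)
      = f.getD i (0, 0) := by
  rw [← fixC_eq h, ← hf, List.getD_eq_getElem (L.map fun p => fixC p.2) _
    (by rw [List.length_map]; exact hi), List.getElem_map, List.getD_eq_getElem _ _ hi]

theorem counts_repTri (i : Fin 13) :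
    (fixCount (rep i) 0, fixCount (rep i) 1) = (repC.map fun p => fixC p.2).getD i (0, 0) ∧
    (fixCount (repTri 1 i) 0, fixCount (repTri 1 i) 1)
      = (triOneC.map fun p => fixC p.2).getD i (0, 0) ∧
    (fixCount (repTri 2 i) 0, fixCount (repTri 2 i) 1)
      = (triTwoC.map fun p => fixC p.2).getD i (0, 0) := by
  obtain ⟨-, h1, h2, h3, h4⟩ := repW_spec i
  have hlen : (i : ℕ) < repC.length := by rw [repC_ok.2]; exact i.2
  have h0 := List.all_eq_true.1 repC_ok.1 (repC.getD i ([], []))
    (by rw [List.getD_eq_getElem _ _ hlen]; exact List.getElem_mem _)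
  simp only [Bool.and_eq_true] at h0
  refine ⟨counts_getD rfl hlen h0.1, ?_, ?_⟩
  · rw [repTri, h1]
    exact counts_getD rfl (i.2.trans_eq (by decide +kernel : 13 = triOneC.length)) h3
  · rw [repTri, h2]
    exact counts_getD rfl (i.2.trans_eq (by decide +kernel : 13 = triTwoC.length)) h4

theorem cube_repTri (t : ℕ) (i : Fin 13) (ht : t < 3) :
    repTri t i * (repTri t i * repTri t i) = 1 := by
  obtain ⟨h0, h1, h2, h3, h4⟩ := repW_spec i
  interval_cases t
  · rw [h0]; exact (el_rep i).2.2
  · rw [repTri, h1]; exact (El.of_checkGen h3).2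
  · rw [repTri, h2]; exact (El.of_checkGen h4).2

/-- The table of the counts. -/
def tables : List (List (ℕ × ℕ)) :=
  [[(297, 216), (81, 0), (81, 0), (81, 0), (81, 0), (243, 216), (45, 18), (243, 270), (27, 0),
      (27, 54), (27, 54), (27, 0), (9, 36)],
    [(297, 216), (81, 0), (243, 216), (81, 0), (243, 270), (81, 0), (45, 18), (81, 0), (27, 0),
      (27, 54), (27, 0), (27, 54), (9, 36)],
    [(297, 216), (243, 216), (81, 0), (243, 270), (81, 0), (81, 0), (45, 18), (81, 0), (27, 0),
      (27, 0), (27, 54), (27, 54), (9, 36)]]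

theorem tables_distinct : ∀ i j : Fin 13, (∀ t : Fin 3,
    (tables.getD t []).getD i (0, 0) = (tables.getD t []).getD j (0, 0)) → i = j := by
  decide +kernel

/-- The thirteen elements of the simple group are pairwise unassociated. -/
theorem eq_of_assoc_repL {i j : Fin 13} (h : Assoc (repL i) (repL j)) : i = j := by
  have hmove : ∀ t, t < 3 → Assoc (repTri t i) (repTri t j) := by
    have key : ∀ t, Assoc (toL (repTri t i)) (toL (repTri t j)) := by
      intro t
      induction t with
      | zero => rw [(repW_spec i).1, (repW_spec j).1]; exact h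
      | succ t ih => rw [← tri_repTri, ← tri_repTri]; exact ih.map tri.toMonoidHom
    exact fun t ht => assoc_lift (cube_repTri t i ht) (cube_repTri t j ht) (key t)
  have eq : ∀ t, t < 3 → (fixCount (repTri t i) 0, fixCount (repTri t i) 1)
      = (fixCount (repTri t j) 0, fixCount (repTri t j) 1) := fun t ht => by
    rw [fixCount_assoc (hmove t ht), fixCount_assoc (hmove t ht)]
  obtain ⟨a0, a1, a2⟩ := counts_repTri i
  obtain ⟨b0, b1, b2⟩ := counts_repTri j
  have e0 := eq 0 (by norm_num)
  have e1 := eq 1 (by norm_num)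
  have e2 := eq 2 (by norm_num)
  rw [(repW_spec i).1, (repW_spec j).1, a0, b0, fixRep_ok] at e0
  rw [a1, b1, fixOne_ok] at e1
  rw [a2, b2, fixTwo_ok] at e2
  refine tables_distinct i j fun t => ?_
  fin_cases t
  exacts [e0, e1, e2]

end CfsgLib.OmegaEight
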