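import Cfsg.Agent.OmegaEight.Classes
import Cfsg.Agent.Forms.TrialityD4

/-!
# Triality on the coded simple root elements

The graph automorphism of order three permutes the simple root elements and their negatives.
-/

set_option autoImplicit false
set_option maxHeartbeats 800000

namespace CfsgLib.OmegaEight

open Matrix CfsgLib.ChevClassical
open CfsgLib.OmegaSeven (Row rowVal)

/-- The root elements of the model are the coded generators. -/
theorem root_entries : ∀ (r : Fin Cfsg.Lie.chevD4.nroots) (a b : I8),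
    frameD4.eichFun (modelD4.root r).1
      (((((modelD4.root r).2.2 : ZMod 3) * 1)) • dlt (modelD4.root r).2.1) (dlt b) a
      = rowVal ((gens24.getD r.1 oneC).getD (pos a) (0, 0)) (pos b) := by
  decide +kernel

theorem exists_tri_aux (f : (I8 → ZMod 3) → ZMod 3) (hf : f = frameD4.Q (ZMod 3)) :
    ∃ τ : MulAut (Cfsg.POmega (ZMod 3) f), ∀ i < 8, ∀ g g' : ↥(Cfsg.Omega (ZMod 3) f),
      ((g.1.1 : GL I8 (ZMod 3)) : Matrix I8 I8 (ZMod 3)) = toMat (simpleGens.getD i oneC) →
      ((g'.1.1 : GL I8 (ZMod 3)) : Matrix I8 I8 (ZMod 3))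
        = toMat (simpleGens.getD (triC.getD i 0) oneC) →
      τ (QuotientGroup.mk' _ g) = QuotientGroup.mk' _ g' := by
  subst hf
  have h := modelD4_ok
  have hgen : (∃ a : ZMod 3, a ≠ 0 ∧ a ≠ 1) ∨ ((∀ q, frameD4.mate q ≠ q) ∧ ∀ p q,
      frameD4.mate p ≠ p → ∃ r, frameD4.mate r ≠ r ∧ r ≠ p ∧ r ≠ frameD4.mate p ∧ r ≠ q ∧
        r ≠ frameD4.mate q) :=
    Or.inr (by decide)
  obtain ⟨hO, e, he⟩ := TrialityD4.exists_equiv (F := ZMod 3) hgen
  obtain ⟨α, hα⟩ := Cfsg.Agent.S1081.result (F := ZMod 3) (Cfsg.Lie.chevD4, [2, 1, 3, 0]) (by simp)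
  let R : Fin Cfsg.Lie.chevD4.nroots → ↥(Cfsg.Omega (ZMod 3) (frameD4.Q (ZMod 3))) := fun r =>
    ⟨rootO h r 1, by rw [hO]; exact rootO_mem h r 1⟩
  have hR : ∀ r : Fin Cfsg.Lie.chevD4.nroots,
      ((e (QuotientGroup.mk' _ (R r)) : GL Cfsg.Lie.chevD4.Idx (ZMod 3)) :
        Matrix Cfsg.Lie.chevD4.Idx Cfsg.Lie.chevD4.Idx (ZMod 3)) = Cfsg.Lie.chevD4.x (ZMod 3) r 1 :=
    fun r => by rw [he]; exact adjMat_root h r 1
  have hmat : ∀ (r : Fin Cfsg.Lie.chevD4.nroots) (g : ↥(Cfsg.Omega (ZMod 3) (frameD4.Q (ZMod 3)))),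
      ((g.1.1 : GL I8 (ZMod 3)) : Matrix I8 I8 (ZMod 3)) = toMat (gens24.getD r.1 oneC) →
        g = R r := by
    intro r g hg
    refine Subtype.ext (Subtype.ext (Units.ext (hg.trans (Matrix.ext fun a b => ?_))))
    have e1 : ((R r).1.1 : Matrix I8 I8 (ZMod 3)) *ᵥ dlt b
        = frameD4.eichFun (modelD4.root r).1
          (((((modelD4.root r).2.2 : ZMod 3) * 1)) • dlt (modelD4.root r).2.1) (dlt b) :=
      (show ChevClassical.app (rootO h r 1) (dlt b) = _ by rw [rootO, app_eichO])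
    have e2 := congrFun e1 a
    rw [Matrix.mulVec_single_one] at e2
    exact ((root_entries r a b).symm.trans e2.symm)
  refine ⟨e.trans (α.trans e.symm), ?_⟩
  have hsimple : ∀ i < 8, ∀ g : ↥(Cfsg.Omega (ZMod 3) (frameD4.Q (ZMod 3))),
      ((g.1.1 : GL I8 (ZMod 3)) : Matrix I8 I8 (ZMod 3)) = toMat (simpleGens.getD i oneC) →
        ∀ r : Fin Cfsg.Lie.chevD4.nroots, r.1 = simpleC.getD i 0 → g = R r := by
    intro i hi g hg r hr
    refine hmat r g (hg.trans ?_)
    rw [hr]
    interval_cases i <;> rfl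
  intro i hi g g' hg hg'
  have hperm : triC.getD i 0 < 8 ∧ simpleC.getD i 0 < 24 ∧ simpleC.getD (triC.getD i 0) 0 < 24 := by
    interval_cases i <;> decide
  obtain ⟨ht, hr, hs⟩ := hperm
  rw [hsimple i hi g hg ⟨_, hr⟩ rfl, hsimple _ ht g' hg' ⟨_, hs⟩ rfl]
  show e.symm (α (e _)) = _
  rw [show α (e (QuotientGroup.mk' _ (R ⟨_, hr⟩))) = e (QuotientGroup.mk' _ (R ⟨_, hs⟩)) by
    refine Subtype.ext (Units.ext ?_)
    rw [hR]
    interval_cases i
    · exact (hα _ 0 1 (by decide)).1 (hR _)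
    · exact (hα _ 1 1 (by decide)).1 (hR _)
    · exact (hα _ 2 1 (by decide)).1 (hR _)
    · exact (hα _ 3 1 (by decide)).1 (hR _)
    · exact (hα _ 0 1 (by decide)).2 (hR _)
    · exact (hα _ 1 1 (by decide)).2 (hR _)
    · exact (hα _ 2 1 (by decide)).2 (hR _)
    · exact (hα _ 3 1 (by decide)).2 (hR _)]
  exact e.symm_apply_apply _

/-- Triality moves the coded simple root elements and their negatives by the table. -/
theorem exists_tri : ∃ τ : MulAut L8, ∀ i < 8,
    τ (toL (elem (simpleGens.getD i oneC))) = toL (elem (simpleGens.getD (triC.getD i 0) oneC)) := by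
  obtain ⟨τ, hτ⟩ := exists_tri_aux (⇑Q8)
    (by rw [StdForms.coe_plusQ, TrialityD4.frame_Q_eq])
  refine ⟨τ, fun i hi => hτ i hi _ _ ?_ ?_⟩ <;> exact toM_elem (El.getD el_simpleGens _)

/-- Triality. -/
noncomputable def tri : MulAut L8 := exists_tri.choose

theorem el_triGens (k : ℕ) : ∀ g ∈ triGens k, El g := by
  intro g hg
  obtain ⟨i, -, rfl⟩ := List.mem_map.1 hg
  exact El.getD el_simpleGens _

theorem triGens_getD (k i : ℕ) (hi : i < 8) :
    (triGens k).getD i oneC = simpleGens.getD ((fun j => triC.getD j 0)^[k] i) oneC := by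
  rw [triGens, List.getD_eq_getElem _ _ (by simpa using hi)]
  simp

theorem triGens_length (k : ℕ) : (triGens k).length = 8 := by simp [triGens]

theorem tri_toL_step (k : ℕ) (i : ℕ) :
    tri (toL (elem ((triGens k).getD i oneC))) = toL (elem ((triGens (k + 1)).getD i oneC)) := by
  rcases lt_or_ge i 8 with hi | hi
  · rw [triGens_getD k i hi, triGens_getD (k + 1) i hi, Function.iterate_succ_apply']
    refine exists_tri.choose_spec _ ?_
    have hstep : ∀ j < 8, triC.getD j 0 < 8 := by decide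
    induction k with
    | zero => exact hi
    | succ k ih => rw [Function.iterate_succ_apply']; exact hstep _ ih
  · rw [List.getD_eq_default _ _ (by rw [triGens_length]; exact hi),
      List.getD_eq_default _ _ (by rw [triGens_length]; exact hi), elem_one, map_one, map_one]

theorem tri_toL (k : ℕ) : ∀ w : List ℕ,
    tri (toL (elem (evalC (triGens k) w))) = toL (elem (evalC (triGens (k + 1)) w))
  | [] => by simp only [evalC, elem_one, map_one]
  | i :: w => by
    simp only [evalC]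
    rw [elem_mul (El.getD (el_triGens k) i) (El.eval (el_triGens k) w),
      elem_mul (El.getD (el_triGens (k + 1)) i) (El.eval (el_triGens (k + 1)) w),
      map_mul, map_mul, map_mul, tri_toL_step, tri_toL k w]

theorem triGens_zero : triGens 0 = simpleGens := by decide +kernel

/-- The representatives moved by powers of triality. -/
noncomputable def repTri (t : ℕ) (i : Fin 13) : G8 := elem (evalC (triGens t) (repW.getD i []))

theorem repW_spec (i : Fin 13) :
    repTri 0 i = rep i ∧ evalC (triGens 1) (repW.getD i []) = (triOneC.getD i ([], [])).1 ∧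
      evalC (triGens 2) (repW.getD i []) = (triTwoC.getD i ([], [])).1 ∧
      checkGen (triOneC.getD i ([], [])) = true ∧ checkGen (triTwoC.getD i ([], [])) = true := by
  have h := List.all_eq_true.1 repW_ok (i : ℕ) (List.mem_range.2 i.2)
  simp only [Bool.and_eq_true, beq_iff_eq] at h
  obtain ⟨⟨⟨⟨h0, h1⟩, h2⟩, h3⟩, h4⟩ := h
  exact ⟨by rw [repTri, triGens_zero, h0, rep], h1, h2, h3, h4⟩

theorem tri_repTri (t : ℕ) (i : Fin 13) : tri (toL (repTri t i)) = toL (repTri (t + 1) i) :=
  tri_toL t _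

end CfsgLib.OmegaEight
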